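import Mathlib
import Cfsg.Prelude.Def_GeometricClasses
import Cfsg.Agent.Orthogonal.Basic
import Cfsg.Agent.Orthogonal.Eichler

set_option autoImplicit false

/-!
From the geometric class vocabulary to the library on orthogonal groups, and a device for
showing that a stabiliser in Ω is not maximal.
-/

namespace Cfsg.Agent.H96

open QuadraticMap Cfsg.Agent.Orthogonal

variable {F : Type*} [Field F] {ι : Type} [Fintype ι] [DecidableEq ι]

/-- A non-degenerate quadratic form function as a quadratic form. -/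
def asForm {Q : (ι → F) → F} (h : Cfsg.Geo.IsNondegenerateQuadraticForm Q) : QuadraticForm F (ι → F) :=
  QuadraticMap.ofPolar Q (fun a x => by rw [h.smul, smul_eq_mul]; ring)
    (fun x y z => h.polar_bilinear.add_left x y z) (fun c x y => h.polar_bilinear.smul_left c x y)

theorem asForm_coe {Q : (ι → F) → F} (h : Cfsg.Geo.IsNondegenerateQuadraticForm Q) :
    ⇑(asForm h) = Q := rfl

theorem asForm_nondeg {Q : (ι → F) → F} (h : Cfsg.Geo.IsNondegenerateQuadraticForm Q) :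
    Nondeg (asForm h) := by
  intro x hx
  by_contra hne
  obtain ⟨y, hy⟩ := (h.nondegenerate x hne).2
  exact hy (hx y)

variable (Q : QuadraticForm F (ι → F))

/-- The orthogonal group inside the general linear group. -/
noncomputable def om : O Q →* GL ι F :=
  (Cfsg.isometryGroup F (⇑Q)).subtype.comp (toO Q).symm.toMonoidHom

theorem om_mulVec (x : O Q) (v : ι → F) :
    (om Q x : Matrix ι ι F).mulVec v = (x : (ι → F) ≃ₗ[F] (ι → F)) v :=
  toO_symm_apply Q x v

theorem om_toLin' (x : O Q) :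
    Matrix.toLin' (om Q x : Matrix ι ι F) = ((x : (ι → F) ≃ₗ[F] (ι → F)) : (ι → F) →ₗ[F] (ι → F)) :=
  LinearMap.ext fun v => by rw [Matrix.toLin'_apply]; exact om_mulVec Q x v

theorem mem_omegaGL_iff (g : GL ι F) :
    g ∈ Cfsg.Geo.omegaGL (⇑Q) ↔ ∃ x ∈ commutator (O Q), om Q x = g := by
  constructor
  · rintro ⟨y, hy, rfl⟩
    refine ⟨toO Q y, (mem_omega_iff Q y).1 hy, ?_⟩
    simp [om]
  · rintro ⟨x, hx, rfl⟩
    refine ⟨(toO Q).symm x, (mem_omega_iff Q _).2 ?_, rfl⟩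
    rwa [MulEquiv.apply_symm_apply]

theorem om_injective : Function.Injective (om Q) := fun _ _ h =>
  (toO Q).symm.injective (Subtype.ext h)

/-- An overgroup given inside the orthogonal group separates a subgroup of Ω from Ω. -/
theorem exists_between (S : Subgroup (GL ι F)) (X : Subgroup (O Q))
    (hle : ∀ x ∈ commutator (O Q), om Q x ∈ S → x ∈ X)
    (hmid : ∃ x ∈ commutator (O Q), x ∈ X ∧ om Q x ∉ S)
    (htop : ∃ x ∈ commutator (O Q), x ∉ X) :
    ∃ K : Subgroup (GL ι F), S ⊓ Cfsg.Geo.omegaGL (⇑Q) < K ∧ K < Cfsg.Geo.omegaGL (⇑Q) := by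
  refine ⟨(X ⊓ commutator (O Q)).map (om Q), lt_of_le_not_ge ?_ ?_, lt_of_le_not_ge ?_ ?_⟩
  · rintro g ⟨hg, hg'⟩
    obtain ⟨x, hx, rfl⟩ := (mem_omegaGL_iff Q g).1 hg'
    exact ⟨x, ⟨hle x hx hg, hx⟩, rfl⟩
  · intro h
    obtain ⟨x, hx, hxX, hxS⟩ := hmid
    exact hxS (h ⟨x, ⟨hxX, hx⟩, rfl⟩).1
  · rintro g ⟨x, hx, rfl⟩
    exact (mem_omegaGL_iff Q _).2 ⟨x, hx.2, rfl⟩
  · intro h
    obtain ⟨x, hx, hxX⟩ := htop
    obtain ⟨y, hy, hyx⟩ := h ((mem_omegaGL_iff Q _).2 ⟨x, hx, rfl⟩)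
    exact hxX (om_injective Q hyx ▸ hy.1)

theorem mem_subspaceStabilizer_om (W : Submodule F (ι → F)) (x : O Q) :
    om Q x ∈ Cfsg.Geo.subspaceStabilizer W ↔ ∀ v, v ∈ W ↔ (x : (ι → F) ≃ₗ[F] (ι → F)) v ∈ W := by
  constructor
  · intro h v
    have := h v
    rwa [show (Cfsg.glToMat ι F (om Q x)).mulVec v = _ from om_mulVec Q x v] at this
  · intro h v
    show v ∈ W ↔ (om Q x : Matrix ι ι F).mulVec v ∈ W
    rw [om_mulVec]
    exact h v

variable {Q}

/-- Commutators of reflections as products of two reflections. -/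
theorem rO_comm_mem {V : Type*} [AddCommGroup V] [Module F V] (Q : QuadraticForm F V) (a c : V) :
    rO Q a * rO Q ((rO Q c : V ≃ₗ[F] V) a) ∈ commutator (O Q) := by
  have h : rO Q a * rO Q ((rO Q c : V ≃ₗ[F] V) a) = rO Q a * rO Q c * (rO Q a)⁻¹ * (rO Q c)⁻¹ := by
    rw [← conj_rO, rO_inv, rO_inv]
    group
  rw [h, ← commutatorElement_def, commutator_def]
  exact Subgroup.commutator_mem_commutator (Subgroup.mem_top _) (Subgroup.mem_top _)

end Cfsg.Agent.H96
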