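import Mathlib
import Cfsg.Agent.H96.OmegaBridge
import Cfsg.Agent.Orthogonal.Witt
import Cfsg.Agent.Orthogonal.Frame
import Cfsg.Agent.H51.ClassSplit

set_option autoImplicit false

/-!
Decomposition stabilisers in Ω that lie in the stabiliser of a finer invariant: a frame of lines,
a set of non-singular vectors or the additive group they generate.
-/

namespace Cfsg.Agent.H96

open QuadraticMap Module Cfsg.Agent.Orthogonal

section Abstract

variable {F : Type*} [Field F] [Finite F] {V : Type*} [AddCommGroup V] [Module F V] [FiniteDimensional F V]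
  {Q : QuadraticForm F V}

/-- The stabiliser of a set of vectors. -/
def setStab (Q : QuadraticForm F V) (A : Set V) : Subgroup (O Q) where
  carrier := {g | ∀ v, (g : V ≃ₗ[F] V) v ∈ A ↔ v ∈ A}
  one_mem' := fun v => Iff.rfl
  mul_mem' := fun {g h} hg hh v => by rw [Subgroup.coe_mul, mul_app, hg, hh]
  inv_mem' := fun {g} hg v => by
    conv_rhs => rw [← (g : V ≃ₗ[F] V).apply_symm_apply v]
    exact (hg _).symm

theorem mem_setStab_of_forward {A : Set V} {g : O Q} (h : ∀ v ∈ A, (g : V ≃ₗ[F] V) v ∈ A) :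
    g ∈ setStab Q A := by
  haveI : Finite V := Module.finite_of_finite F
  haveI : Finite A := Subtype.finite
  have hbij : Function.Bijective (fun v : A => (⟨(g : V ≃ₗ[F] V) v, h v v.2⟩ : A)) :=
    Finite.injective_iff_bijective.1 fun a b hab =>
      Subtype.ext ((g : V ≃ₗ[F] V).injective (congrArg Subtype.val hab))
  intro v
  refine ⟨fun hv => ?_, h v⟩
  obtain ⟨w, hw⟩ := hbij.2 ⟨_, hv⟩
  rw [← (g : V ≃ₗ[F] V).injective (congrArg Subtype.val hw)]
  exact w.2

theorem mem_setStab_closure_of_forward {A : Set V} {g : O Q}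
    (h : ∀ v ∈ A, (g : V ≃ₗ[F] V) v ∈ AddSubgroup.closure A) :
    g ∈ setStab Q (AddSubgroup.closure A : Set V) := by
  refine mem_setStab_of_forward fun v hv => ?_
  induction hv using AddSubgroup.closure_induction with
  | mem x hx => exact h x hx
  | zero => rw [map_zero]; exact zero_mem _
  | add x y _ _ hx hy => rw [map_add]; exact add_mem hx hy
  | neg x _ hx => rw [map_neg]; exact neg_mem hx

theorem setStab_le_closure (A : Set V) : setStab Q A ≤ setStab Q (AddSubgroup.closure A : Set V) :=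
  fun _ hg => mem_setStab_closure_of_forward fun v hv => AddSubgroup.subset_closure ((hg v).2 hv)

/-- Ω is transitive on the vectors of a given non-zero value. -/
theorem exists_omega_map (hQ : Nondeg Q) (hn : 5 ≤ finrank F V) {x y : V} (hxy : Q x = Q y) (hx : Q x ≠ 0) :
    ∃ g ∈ commutator (O Q), (g : V ≃ₗ[F] V) x = y := by
  obtain ⟨u, hu0, hu⟩ := hQ.exists_singular (by omega)
  obtain ⟨f, hf, huf⟩ := hQ.exists_partner hu0 hu
  obtain ⟨g1, hg1, h1⟩ := exists_sie_sphere hQ (by omega) hu hf huf hx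
  obtain ⟨g2, hg2, h2⟩ := exists_sie_sphere hQ (by omega) hu hf huf (v := y) (hxy ▸ hx)
  refine ⟨g2⁻¹ * g1, ?_, ?_⟩
  · rw [← sieGroup_eq_commutator hQ hn]
    exact mul_mem (inv_mem hg2) hg1
  · rw [Subgroup.coe_mul, mul_app, h1, hxy, ← h2, ← mul_app, ← Subgroup.coe_mul, inv_mul_cancel]
    rfl

omit [Finite F] [FiniteDimensional F V] in
/-- A vector pairing with two different pieces lies in no piece. -/
theorem not_mem_pieces {t : ℕ} {D : Fin t → Submodule F V}
    (horth : ∀ i j, i ≠ j → ∀ u ∈ D i, ∀ v ∈ D j, polar Q u v = 0) {x v w : V} {a b : Fin t} (hab : a ≠ b)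
    (hv : v ∈ D a) (hw : w ∈ D b) (h1 : polar Q x v ≠ 0) (h2 : polar Q x w ≠ 0) (i : Fin t) : x ∉ D i := by
  intro hx
  by_cases hi : i = a
  · exact h2 (horth i b (hi ▸ hab) x hx w hw)
  · exact h1 (horth i a hi x hx v hv)

end Abstract

variable {F : Type*} [Field F] [Finite F] {ι : Type} [Fintype ι] [DecidableEq ι] {R : QuadraticForm F (ι → F)}
  {t : ℕ} {D : Fin t → Submodule F (ι → F)}

/-- The general device. -/
theorem refine_not_maximal (hR : Nondeg R) (hn : 5 ≤ finrank F (ι → F)) (P : F → Prop) (X : Subgroup (O R))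
    (hX : setStab R {v | ∃ i, v ∈ D i ∧ P (R v)} ≤ X)
    (hmid : ∃ g ∈ commutator (O R), g ∈ X ∧ ∃ (i : Fin t) (w : ι → F) (w' : ι → F), w ∈ D i ∧ w' ∈ D i ∧
      ∀ j, (g : (ι → F) ≃ₗ[F] (ι → F)) w ∈ D j → (g : (ι → F) ≃ₗ[F] (ι → F)) w' ∉ D j)
    (htop : ∃ a x, R x = R a ∧ R a ≠ 0 ∧
      ∀ g ∈ X, (g : (ι → F) ≃ₗ[F] (ι → F)) a ≠ x) :
    ∃ K : Subgroup (GL ι F), Cfsg.Geo.decompositionStabilizer D ⊓ Cfsg.Geo.omegaGL (⇑R) < K ∧
      K < Cfsg.Geo.omegaGL (⇑R) := by
  refine exists_between R _ X (fun g _ hg => hX (mem_setStab_of_forward ?_)) ?_ ?_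
  · obtain ⟨σ, hσ⟩ := hg
    rintro v ⟨i, hi, hP⟩
    refine ⟨σ i, ?_, by rwa [O.map_app]⟩
    rw [← hσ i, om_toLin']
    exact ⟨v, hi, rfl⟩
  · obtain ⟨g, hg, hgX, i, w, w', hw, hw', hne⟩ := hmid
    refine ⟨g, hg, hgX, ?_⟩
    rintro ⟨σ, hσ⟩
    have h := fun u (hu : u ∈ D i) => (show (g : (ι → F) ≃ₗ[F] (ι → F)) u ∈ D (σ i) by
      rw [← hσ i, om_toLin']; exact ⟨u, hu, rfl⟩)
    exact hne _ (h w hw) (h w' hw')
  · obtain ⟨a, x, hxa, ha, hne⟩ := htop
    obtain ⟨g, hg, hgx⟩ := exists_omega_map hR hn hxa.symm ha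
    exact ⟨g, hg, fun hgX => hne g hgX hgx⟩

/-- Planes with an invariant frame of two lines. -/
theorem framed_planes_not_maximal (hR : Nondeg R) (hn : 5 ≤ finrank F (ι → F)) (h2 : (2 : F) ≠ 0)
    (horth : ∀ i j, i ≠ j → ∀ u ∈ D i, ∀ v ∈ D j, polar R u v = 0)
    (P : F → Prop) (c : Fin 2 → F) (hc : ∀ l, c l ≠ 0) (hP : ∀ l, P (c l))
    (E : Fin t → Fin 2 → ι → F) (hE : ∀ i l, E i l ∈ D i) (hQE : ∀ i l, R (E i l) = c l)
    (hEo : ∀ i, polar R (E i 0) (E i 1) = 0)
    (hA : ∀ i v, v ∈ D i → P (R v) → ∃ l, v = E i l ∨ v = -E i l)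
    {i0 i1 i2 : Fin t} (h01 : i0 ≠ i1) (h02 : i0 ≠ i2) (h12 : i1 ≠ i2)
    (s : ι → F) (hs : R s = 0) (hs0 : polar R (E i0 0) s = 0)
    {j : Fin t} (hj : j ≠ i0) (hsj : polar R s (E j 0) ≠ 0) :
    ∃ K : Subgroup (GL ι F), Cfsg.Geo.decompositionStabilizer D ⊓ Cfsg.Geo.omegaGL (⇑R) < K ∧
      K < Cfsg.Geo.omegaGL (⇑R) := by
  classical
  set A : Set (ι → F) := {v | ∃ i, v ∈ D i ∧ P (R v)} with hAdef
  have hpol : ∀ i i' l l', polar R (E i l) (E i' l') = if i = i' ∧ l = l' then 2 * c l else 0 := by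
    intro i i' l l'
    split_ifs with h
    · rw [h.1, h.2, polar_self', hQE]
    · by_cases hi : i = i'
      · subst hi
        have hl : l ≠ l' := fun e => h ⟨rfl, e⟩
        fin_cases l <;> fin_cases l' <;> first
          | exact absurd rfl hl
          | exact hEo i
          | (rw [polar_comm]; exact hEo i)
      · exact horth i i' hi _ (hE i l) _ (hE i' l')
  have hEA : ∀ i l, E i l ∈ A ∧ -E i l ∈ A := fun i l =>
    ⟨⟨i, hE i l, by rw [hQE]; exact hP l⟩,
      ⟨i, (D i).neg_mem (hE i l), by rw [QuadraticMap.map_neg, hQE]; exact hP l⟩⟩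
  have hswap : ∀ p p' : Fin t, p ≠ p' → ∀ i l,
      (rO R (E p 0 - E p' 0) : (ι → F) ≃ₗ[F] (ι → F)) (E i l) = if l = 0 then E (Equiv.swap p p' i) 0 else E i l := by
    intro p p' hpp i l
    have hQd : R (E p 0 - E p' 0) = 2 * c 0 := by
      rw [qmap_sub, hpol, if_neg (fun h => hpp h.1), sub_zero, hQE, hQE]; ring
    have h20 : (2 * c 0) ≠ 0 := mul_ne_zero h2 (hc 0)
    rw [rO_app, hQd, polar_sub_left, hpol, hpol]
    by_cases hl : l = 0
    · subst hl
      rw [if_pos rfl]
      by_cases h1 : i = p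
      · subst h1
        rw [if_pos ⟨rfl, rfl⟩, if_neg (fun h => hpp h.1.symm), sub_zero, inv_mul_cancel₀ h20, one_smul,
          Equiv.swap_apply_left]
        abel
      by_cases h2' : i = p'
      · subst h2'
        rw [if_neg (fun h => hpp h.1), if_pos ⟨rfl, rfl⟩, zero_sub, mul_neg, inv_mul_cancel₀ h20, neg_one_smul,
          Equiv.swap_apply_right]
        abel
      rw [if_neg (fun h => h1 h.1.symm), if_neg (fun h => h2' h.1.symm), sub_zero, mul_zero, zero_smul, sub_zero,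
        Equiv.swap_apply_of_ne_of_ne h1 h2']
    · rw [if_neg hl, if_neg (fun h => hl h.2.symm), if_neg (fun h => hl h.2.symm), sub_zero, mul_zero, zero_smul,
        sub_zero]
  have hswapA : ∀ p p', p ≠ p' → rO R (E p 0 - E p' 0) ∈ setStab R A := by
    intro p p' hpp
    refine mem_setStab_of_forward ?_
    rintro v ⟨i, hi, hv⟩
    obtain ⟨l, rfl | rfl⟩ := hA i v hi hv
    · rw [hswap p p' hpp]; split_ifs
      · exact (hEA _ 0).1
      · exact (hEA _ _).1
    · rw [map_neg, hswap p p' hpp]; split_ifs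
      · exact (hEA _ 0).2
      · exact (hEA _ _).2
  have hne0 : ∀ i l, polar R (E i l) (E i l) ≠ 0 := fun i l => by
    rw [hpol, if_pos ⟨rfl, rfl⟩]; exact mul_ne_zero h2 (hc l)
  refine refine_not_maximal hR hn P (setStab R A) le_rfl ?_ ⟨E i0 0, E i0 0 + s, ?_, ?_, ?_⟩
  · have hb : (rO R (E i1 0 - E i2 0) : (ι → F) ≃ₗ[F] (ι → F)) (E i0 0 - E i1 0) = E i0 0 - E i2 0 := by
      rw [map_sub, hswap _ _ h12, hswap _ _ h12, if_pos rfl, if_pos rfl,
        Equiv.swap_apply_of_ne_of_ne h01 h02, Equiv.swap_apply_left]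
    refine ⟨rO R (E i0 0 - E i1 0) * rO R (E i0 0 - E i2 0), hb ▸ rO_comm_mem R _ _,
      mul_mem (hswapA _ _ h01) (hswapA _ _ h02), i2, E i2 0, E i2 1, hE _ _, hE _ _, fun k hk hk' => ?_⟩
    rw [Subgroup.coe_mul, mul_app, hswap _ _ h02, if_pos rfl, Equiv.swap_apply_right, hswap _ _ h01, if_pos rfl,
      Equiv.swap_apply_left] at hk
    rw [Subgroup.coe_mul, mul_app, hswap _ _ h02, if_neg (by decide), hswap _ _ h01, if_neg (by decide)] at hk'
    have e1 : k = i1 := by
      by_contra h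
      exact hne0 i1 0 (horth k i1 h _ hk _ (hE i1 0))
    have e2 : k = i2 := by
      by_contra h
      exact hne0 i2 1 (horth k i2 h _ hk' _ (hE i2 1))
    exact h12 (e1.symm.trans e2)
  · rw [map_add_polar, hs, hs0, add_zero, add_zero]
  · rw [hQE]; exact hc 0
  · intro g hg heq
    obtain ⟨i, hi, -⟩ := (hg _).2 (hEA i0 0).1
    rw [heq] at hi
    refine not_mem_pieces horth hj.symm (hE i0 0) (hE j 0) ?_ ?_ i hi
    · rw [polar_add_left, polar_comm (⇑R) s, hs0, add_zero]; exact hne0 _ _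
    · rw [polar_add_left, hpol, if_neg (fun h => hj h.1.symm), zero_add]; exact hsj

/-- Hyperbolic planes over two elements: the sum of the hyperbolic pair is invariant. -/
theorem two_planes_not_maximal (hR : Nondeg R) (hn : 5 ≤ finrank F (ι → F)) (hF : ∀ r : F, r = 0 ∨ r = 1)
    (h20 : (2 : F) = 0) (horth : ∀ i j, i ≠ j → ∀ u ∈ D i, ∀ v ∈ D j, polar R u v = 0)
    (e f : Fin t → ι → F) (he : ∀ i, e i ∈ D i) (hf : ∀ i, f i ∈ D i)
    (hef : ∀ i, R (e i) = 0 ∧ R (f i) = 0 ∧ polar R (e i) (f i) = 1)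
    (hspan : ∀ i v, v ∈ D i → ∃ a b : F, v = a • e i + b • f i)
    {i0 i1 i2 : Fin t} (h01 : i0 ≠ i1) (h02 : i0 ≠ i2) (h12 : i1 ≠ i2) :
    ∃ K : Subgroup (GL ι F), Cfsg.Geo.decompositionStabilizer D ⊓ Cfsg.Geo.omegaGL (⇑R) < K ∧
      K < Cfsg.Geo.omegaGL (⇑R) := by
  classical
  set A : Set (ι → F) := {v | ∃ i, v ∈ D i ∧ R v = 1}
  have hA : ∀ i v, v ∈ D i → R v = 1 → v = e i + f i := by
    intro i v hv h1
    obtain ⟨a, b, rfl⟩ := hspan i v hv
    rw [map_add_polar, qmap_smul, qmap_smul, polar_smul_left', polar_smul_right', (hef i).1, (hef i).2.1, (hef i).2.2]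
      at h1
    rcases hF a with rfl | rfl <;> rcases hF b with rfl | rfl
    · simp at h1
    · simp at h1
    · simp at h1
    · rw [one_smul, one_smul]
  set v : Fin t → ι → F := fun i => e i + f i with hvdef
  have hQv : ∀ i, R (v i) = 1 := fun i => by
    simp only [hvdef, map_add_polar, (hef i).1, (hef i).2.1, (hef i).2.2]; ring
  have hvv : ∀ i j, polar R (v i) (v j) = 0 := fun i j => by
    rcases eq_or_ne i j with rfl | h
    · rw [polar_self', hQv, h20, zero_mul]
    · exact horth i j h _ ((D i).add_mem (he i) (hf i)) _ ((D j).add_mem (he j) (hf j))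
  have hu : R (v i0 + v i1) = 0 := by rw [map_add_polar, hQv, hQv, hvv, add_zero]; linear_combination h20
  have huw : polar R (v i0 + v i1) (v i2) = 0 := by rw [polar_add_left, hvv, hvv, add_zero]
  refine refine_not_maximal hR hn (fun r => r = 1) (setStab R A) le_rfl
    ⟨sie (v i0 + v i1) (v i2) hu huw, ?_, mem_setStab_of_forward ?_, i2, e i2, e i2, he i2, he i2, fun j hj => ?_⟩
    ⟨v i0, v i0 + v i1 + v i2, ?_, by rw [hQv]; exact one_ne_zero, fun g hg heq => ?_⟩
  · rw [← sieGroup_eq_commutator hR hn]; exact sie_mem hu huw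
  · rintro x ⟨i, hi, h1⟩
    rw [hA i x hi h1, sie_fix' hu huw (by rw [polar_add_left, hvv, hvv, add_zero]) (hvv _ _)]
    exact ⟨i, (D i).add_mem (he i) (hf i), hQv i⟩
  · exfalso
    rw [sie_app] at hj
    have hue : polar R (v i0 + v i1) (e i2) = 0 := by
      rw [polar_add_left, horth i0 i2 h02 _ ((D i0).add_mem (he i0) (hf i0)) _ (he i2),
        horth i1 i2 h12 _ ((D i1).add_mem (he i1) (hf i1)) _ (he i2), add_zero]
    have hwe : polar R (v i2) (e i2) = 1 := by
      simp only [hvdef, polar_add_left, polar_self', (hef i2).1, polar_comm (⇑R) (f i2) (e i2), (hef i2).2.2]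
      ring
    rw [hue, hwe, mul_zero, sub_zero, one_smul, zero_smul, sub_zero] at hj
    refine not_mem_pieces horth h01 (he i0) (he i1) ?_ ?_ j hj
    · simp only [hvdef, polar_add_left, polar_self', (hef i0).1, horth i2 i0 h02.symm _ (he i2) _ (he i0),
        polar_comm (⇑R) (f i0) (e i0), (hef i0).2.2, horth i1 i0 h01.symm _ (he i1) _ (he i0),
        horth i1 i0 h01.symm _ (hf i1) _ (he i0)]
      simp
    · simp only [hvdef, polar_add_left, polar_self', (hef i1).1, horth i2 i1 h12.symm _ (he i2) _ (he i1),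
        polar_comm (⇑R) (f i1) (e i1), (hef i1).2.2, horth i0 i1 h01 _ (he i0) _ (he i1),
        horth i0 i1 h01 _ (hf i0) _ (he i1)]
      simp
  · simp only [map_add_polar, polar_add_left, hQv, hvv]; linear_combination h20
  · obtain ⟨i, hi, -⟩ := (hg _).2 ⟨i0, (D i0).add_mem (he i0) (hf i0), hQv i0⟩
    rw [heq] at hi
    refine not_mem_pieces horth h12 (he i1) (he i2) ?_ ?_ i hi
    · simp only [hvdef, polar_add_left, polar_self', (hef i1).1, horth i0 i1 h01 _ (he i0) _ (he i1),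
        horth i0 i1 h01 _ (hf i0) _ (he i1), horth i2 i1 h12.symm _ (he i2) _ (he i1),
        horth i2 i1 h12.symm _ (hf i2) _ (he i1), polar_comm (⇑R) (f i1) (e i1), (hef i1).2.2]
      simp
    · simp only [hvdef, polar_add_left, polar_self', (hef i2).1, horth i0 i2 h02 _ (he i0) _ (he i2),
        horth i0 i2 h02 _ (hf i0) _ (he i2), horth i1 i2 h12 _ (he i1) _ (he i2),
        horth i1 i2 h12 _ (hf i1) _ (he i2), polar_comm (⇑R) (f i2) (e i2), (hef i2).2.2]
      simp

/-- Hyperbolic planes over four elements: the vectors of value one span an additive invariant. -/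
theorem four_planes_not_maximal (hR : Nondeg R) (hn : 5 ≤ finrank F (ι → F))
    {ω : F} (hω : ω * ω + ω + 1 = 0) (hF : ∀ r : F, r = 0 ∨ r = 1 ∨ r = ω ∨ r = ω + 1)
    (h20 : (2 : F) = 0) (horth : ∀ i j, i ≠ j → ∀ u ∈ D i, ∀ v ∈ D j, polar R u v = 0)
    (e f : Fin t → ι → F) (he : ∀ i, e i ∈ D i) (hf : ∀ i, f i ∈ D i)
    (hef : ∀ i, R (e i) = 0 ∧ R (f i) = 0 ∧ polar R (e i) (f i) = 1)
    (hspan : ∀ i v, v ∈ D i → ∃ a b : F, v = a • e i + b • f i)
    {i0 i1 i2 : Fin t} (h01 : i0 ≠ i1) (h02 : i0 ≠ i2) (h12 : i1 ≠ i2) :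
    ∃ K : Subgroup (GL ι F), Cfsg.Geo.decompositionStabilizer D ⊓ Cfsg.Geo.omegaGL (⇑R) < K ∧
      K < Cfsg.Geo.omegaGL (⇑R) := by
  classical
  set A : Set (ι → F) := {v | ∃ i, v ∈ D i ∧ R v = 1} with hAdef
  -- the polar form takes values 0 and 1 on the set
  have hA : ∀ i v, v ∈ D i → R v = 1 → ∃ a b : F, v = a • e i + b • f i ∧ a * b = 1 := by
    intro i v hv h1
    obtain ⟨a, b, rfl⟩ := hspan i v hv
    rw [map_add_polar, qmap_smul, qmap_smul, polar_smul_left', polar_smul_right', (hef i).1, (hef i).2.1, (hef i).2.2]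
      at h1
    exact ⟨a, b, rfl, by linear_combination h1⟩
  have hval : ∀ x ∈ A, ∀ y ∈ A, polar R x y = 0 ∨ polar R x y = 1 := by
    rintro x ⟨i, hi, hx⟩ y ⟨j, hj, hy⟩
    by_cases hij : i = j
    · subst hij
      obtain ⟨a, b, rfl, hab⟩ := hA i x hi hx
      obtain ⟨a', b', rfl, hab'⟩ := hA i y hj hy
      simp only [polar_add_left, polar_add_right, polar_smul_left', polar_smul_right', polar_self', (hef i).1,
        (hef i).2.1, (hef i).2.2, polar_comm (⇑R) (f i) (e i), h20, mul_zero, zero_mul, mul_one, add_zero, zero_add]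
      have hω' : ω + 1 ≠ 0 := fun h => one_ne_zero (α := F) (by linear_combination hω - ω * h)
      have hω0 : ω ≠ 0 := fun h => one_ne_zero (α := F) (by linear_combination hω - (ω + 1) * h)
      have hinv : ∀ a b : F, a * b = 1 → (a = 1 ∧ b = 1) ∨ (a = ω ∧ b = ω + 1) ∨ (a = ω + 1 ∧ b = ω) := by
        intro a b hab
        rcases hF a with h | h | h | h
        · rw [h, zero_mul] at hab; exact absurd hab zero_ne_one
        · exact Or.inl ⟨h, by rwa [h, one_mul] at hab⟩
        · refine Or.inr (Or.inl ⟨h, mul_left_cancel₀ hω0 ?_⟩)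
          rw [h] at hab; linear_combination hab - hω + h20
        · refine Or.inr (Or.inr ⟨h, mul_left_cancel₀ hω' ?_⟩)
          rw [h] at hab; linear_combination hab - hω + h20
      rcases hinv (a * b') (a' * b) (by linear_combination (a' * b') * hab + hab') with ⟨r1, r2⟩ | ⟨r1, r2⟩ | ⟨r1, r2⟩
      · left; linear_combination r1 + r2 + h20
      · right; linear_combination r1 + r2 + ω * h20
      · right; linear_combination r1 + r2 + ω * h20
    · exact Or.inl (horth i j hij x hi y hj)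
  set L := AddSubgroup.closure A with hL
  have hvalL : ∀ x ∈ L, ∀ y ∈ A, polar R x y = 0 ∨ polar R x y = 1 := by
    intro x hx
    induction hx using AddSubgroup.closure_induction with
    | mem z hz => exact hval z hz
    | zero => intro y _; exact Or.inl (polar_zero_left (Q := R) y)
    | add z z' _ _ hz hz' =>
      intro y hy
      rw [polar_add_left]
      rcases hz y hy with h | h <;> rcases hz' y hy with h' | h' <;> rw [h, h']
      · exact Or.inl (add_zero _)
      · exact Or.inr (zero_add _)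
      · exact Or.inr (add_zero _)
      · exact Or.inl (by linear_combination h20)
    | neg z _ hz =>
      intro y hy
      rw [polar_neg_left]
      rcases hz y hy with h | h <;> rw [h]
      · exact Or.inl neg_zero
      · exact Or.inr (by linear_combination -h20)
  have hrefl : ∀ a ∈ L, R a = 1 → rO R a ∈ setStab R (L : Set (ι → F)) := by
    intro a ha h1
    refine mem_setStab_closure_of_forward fun x hx => ?_
    rw [rO_app, h1, inv_one, one_mul]
    rcases hvalL a ha x hx with h | h <;> rw [h]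
    · rw [zero_smul, sub_zero]; exact AddSubgroup.subset_closure hx
    · rw [one_smul]; exact sub_mem (AddSubgroup.subset_closure hx) ha
  set v : Fin t → ι → F := fun i => e i + f i with hvdef
  set v' : Fin t → ι → F := fun i => ω • e i + (ω + 1) • f i with hv'def
  have hQv : ∀ i, R (v i) = 1 := fun i => by
    simp only [hvdef, map_add_polar, (hef i).1, (hef i).2.1, (hef i).2.2]; ring
  have hQv' : ∀ i, R (v' i) = 1 := fun i => by
    simp only [hv'def, map_add_polar, qmap_smul, polar_smul_left', polar_smul_right', (hef i).1, (hef i).2.1,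
      (hef i).2.2]
    linear_combination hω - h20
  have hvD : ∀ i, v i ∈ D i := fun i => (D i).add_mem (he i) (hf i)
  have hv'D : ∀ i, v' i ∈ D i := fun i => (D i).add_mem ((D i).smul_mem _ (he i)) ((D i).smul_mem _ (hf i))
  have hvA : ∀ i, v i ∈ A := fun i => ⟨i, hvD i, hQv i⟩
  have hv'A : ∀ i, v' i ∈ A := fun i => ⟨i, hv'D i, hQv' i⟩
  have hvv' : ∀ i, polar R (v i) (v' i) = 1 := fun i => by
    simp only [hvdef, hv'def, polar_add_left, polar_add_right, polar_smul_right', polar_self', (hef i).1,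
      (hef i).2.1, (hef i).2.2, polar_comm (⇑R) (f i) (e i)]
    linear_combination ω * h20
  have o : ∀ i j, i ≠ j → ∀ x ∈ D i, ∀ y ∈ D j, polar R x y = 0 := horth
  clear_value v v'
  set a := v i0 + v i1 + v i2 with ha
  have haL : a ∈ L := add_mem (add_mem (AddSubgroup.subset_closure (hvA _)) (AddSubgroup.subset_closure (hvA _)))
    (AddSubgroup.subset_closure (hvA _))
  have hQa : R a = 1 := by
    rw [ha, map_add_polar, map_add_polar, polar_add_left, hQv, hQv, hQv, o _ _ h01 _ (hvD _) _ (hvD _),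
      o _ _ h02 _ (hvD _) _ (hvD _), o _ _ h12 _ (hvD _) _ (hvD _)]
    linear_combination h20
  have hca : polar R (v' i0) a = 1 := by
    rw [ha, polar_add_right, polar_add_right, polar_comm (⇑R) (v' i0), hvv', o _ _ h01 _ (hv'D _) _ (hvD _),
      o _ _ h02 _ (hv'D _) _ (hvD _)]
    ring
  have hneg : ∀ x : ι → F, -x = x := fun x => by
    rw [neg_eq_iff_add_eq_zero, ← two_smul F x, h20, zero_smul]
  set b := a + v' i0 with hb
  have hbc : (rO R (v' i0) : (ι → F) ≃ₗ[F] (ι → F)) a = b := by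
    rw [rO_app, hQv', hca, inv_one, one_mul, one_smul, sub_eq_add_neg, hneg]
  have hbL : b ∈ L := add_mem haL (AddSubgroup.subset_closure (hv'A _))
  have hQb : R b = 1 := by rw [← hbc, O.map_app, hQa]
  have hg : ((rO R a * rO R b : O R) : (ι → F) ≃ₗ[F] (ι → F)) (v' i1) = v' i1 + b := by
    have hbx : polar R b (v' i1) = 1 := by
      rw [hb, ha, polar_add_left, polar_add_left, polar_add_left, hvv', o _ _ h01 _ (hvD _) _ (hv'D _),
        o _ _ h12.symm _ (hvD _) _ (hv'D _), o _ _ h01 _ (hv'D _) _ (hv'D _)]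
      ring
    have hax : polar R a (v' i1 + b) = 0 := by
      rw [polar_add_right, hb, polar_add_right, polar_self', hQa, polar_comm (⇑R) a (v' i0), hca]
      rw [ha, polar_add_left, polar_add_left, hvv', o _ _ h01 _ (hvD _) _ (hv'D _),
        o _ _ h12.symm _ (hvD _) _ (hv'D _)]
      linear_combination 2 * h20
    rw [Subgroup.coe_mul, mul_app, rO_app _ b, hQb, hbx, inv_one, one_mul, one_smul, sub_eq_add_neg, hneg,
      rO_fix hax]
  refine refine_not_maximal hR hn (fun r => r = 1) (setStab R (L : Set (ι → F))) (setStab_le_closure A) ?_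
    ⟨v i0, v i0 + ω • e i1, ?_, by rw [hQv]; exact one_ne_zero, fun g hg' heq => ?_⟩
  · refine ⟨rO R a * rO R b, hbc ▸ rO_comm_mem R a (v' i0), mul_mem (hrefl a haL hQa) (hrefl b hbL hQb), i1, v' i1,
      v' i1, hv'D i1, hv'D i1, fun j hj => ?_⟩
    rw [hg] at hj
    exfalso
    refine not_mem_pieces horth h02 (hvD i0) (hv'D i2) ?_ ?_ j hj
    · rw [hb, ha, polar_add_left, polar_add_left, polar_add_left, polar_add_left, polar_self', hQv,
        polar_comm (⇑R) (v' i0) (v i0), hvv', o _ _ h01.symm _ (hv'D _) _ (hvD _), o _ _ h01.symm _ (hvD _) _ (hvD _),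
        o _ _ h02.symm _ (hvD _) _ (hvD _), h20]
      simp
    · rw [hb, ha, polar_add_left, polar_add_left, polar_add_left, polar_add_left, hvv',
        o _ _ h02 _ (hv'D _) _ (hv'D _), o _ _ h12 _ (hv'D _) _ (hv'D _), o _ _ h02 _ (hvD _) _ (hv'D _),
        o _ _ h12 _ (hvD _) _ (hv'D _)]
      simp
  · rw [map_add_polar, qmap_smul, polar_smul_right', (hef i1).1, o _ _ h01 _ (hvD _) _ (he i1)]
    ring
  · have hxL : v i0 + ω • e i1 ∈ L := by
      rw [← heq]; exact (hg' _).2 (AddSubgroup.subset_closure (hvA i0))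
    have h1 : polar R (v i0 + ω • e i1) (v i1) = ω := by
      rw [polar_add_left, o _ _ h01 _ (hvD _) _ (hvD _), polar_smul_left', hvdef, polar_add_right, polar_self',
        (hef i1).1, (hef i1).2.2]
      ring
    rcases hvalL _ hxL _ (hvA i1) with h | h <;> rw [h1] at h
    · rw [h] at hω; simp at hω
    · rw [h] at hω; exact one_ne_zero (α := F) (by linear_combination hω - h20)

/-- Plus type four-spaces over two elements split into two anisotropic planes. -/
theorem four_spaces_not_maximal (hR : Nondeg R) (hn : 5 ≤ finrank F (ι → F)) (hF : ∀ r : F, r = 0 ∨ r = 1)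
    (h20 : (2 : F) = 0) (horth : ∀ i j, i ≠ j → ∀ u ∈ D i, ∀ v ∈ D j, polar R u v = 0)
    (x y x' y' : Fin t → ι → F) (hxm : ∀ i, x i ∈ D i ∧ y i ∈ D i ∧ x' i ∈ D i ∧ y' i ∈ D i)
    (hxy : ∀ i, R (x i) = 1 ∧ R (y i) = 1 ∧ polar R (x i) (y i) = 1 ∧
      R (x' i) = 1 ∧ R (y' i) = 1 ∧ polar R (x' i) (y' i) = 1 ∧
      polar R (x i) (x' i) = 0 ∧ polar R (x i) (y' i) = 0 ∧ polar R (y i) (x' i) = 0 ∧ polar R (y i) (y' i) = 0)
    (hspan : ∀ i v, v ∈ D i → ∃ a b c d : F, v = a • x i + b • y i + (c • x' i + d • y' i))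
    {i0 i1 i2 : Fin t} (h01 : i0 ≠ i1) (h02 : i0 ≠ i2) (h12 : i1 ≠ i2) :
    ∃ K : Subgroup (GL ι F), Cfsg.Geo.decompositionStabilizer D ⊓ Cfsg.Geo.omegaGL (⇑R) < K ∧
      K < Cfsg.Geo.omegaGL (⇑R) := by
  classical
  set A : Set (ι → F) := {v | ∃ i, v ∈ D i ∧ R v = 1} with hAdef
  have hneg : ∀ z : ι → F, -z = z := fun z => by
    rw [neg_eq_iff_add_eq_zero, ← two_smul F z, h20, zero_smul]
  have o := horth
  have hcases : ∀ i v, v ∈ D i → R v = 1 → ∃ a b : F, v = a • x i + b • y i ∨ v = a • x' i + b • y' i := by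
    intro i v hv h1
    obtain ⟨a, b, c, d, rfl⟩ := hspan i v hv
    obtain ⟨q1, q2, q3, q4, q5, q6, q7, q8, q9, q10⟩ := hxy i
    rcases hF a with rfl | rfl <;> rcases hF b with rfl | rfl <;> rcases hF c with rfl | rfl <;>
      rcases hF d with rfl | rfl
    all_goals simp only [zero_smul, one_smul, add_zero, zero_add] at h1 ⊢
    all_goals first
      | (refine ⟨0, 0, Or.inl ?_⟩; simp; done)
      | (refine ⟨1, 0, Or.inl ?_⟩; simp; done)
      | (refine ⟨0, 1, Or.inl ?_⟩; simp; done)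
      | (refine ⟨1, 1, Or.inl ?_⟩; simp; done)
      | (refine ⟨1, 0, Or.inr ?_⟩; simp; done)
      | (refine ⟨0, 1, Or.inr ?_⟩; simp; done)
      | (refine ⟨1, 1, Or.inr ?_⟩; simp; done)
      | (exfalso
         simp only [map_add_polar, polar_add_left, polar_add_right, q1, q2, q3, q4, q5, q6, q7, q8, q9, q10] at h1
         apply one_ne_zero (α := F)
         first
           | linear_combination h1 - h20
           | linear_combination h20 - h1
           | linear_combination h1 - 2 * h20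
           | linear_combination 2 * h20 - h1
           | linear_combination h1 - 3 * h20
           | linear_combination 3 * h20 - h1)
  set u := x i0 + x i1 with hudef
  set w := y i0 + y i1 with hwdef
  have pxy : ∀ i, polar R (y i) (x i) = 1 := fun i => by rw [polar_comm]; exact (hxy i).2.2.1
  have hu : R u = 0 := by
    rw [hudef, map_add_polar, o _ _ h01 _ (hxm _).1 _ (hxm _).1, (hxy i0).1, (hxy i1).1]; linear_combination h20
  have huw : polar R u w = 0 := by
    simp only [hudef, hwdef, polar_add_left, polar_add_right, (hxy i0).2.2.1, (hxy i1).2.2.1,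
      o _ _ h01 _ (hxm _).1 _ (hxm _).2.1, o _ _ h01.symm _ (hxm _).1 _ (hxm _).2.1]
    linear_combination h20
  have hw : R w = 0 := by
    rw [hwdef, map_add_polar, o _ _ h01 _ (hxm _).2.1 _ (hxm _).2.1, (hxy i0).2.1, (hxy i1).2.1]
    linear_combination h20
  have happ : ∀ z, (sie u w hu huw : (ι → F) ≃ₗ[F] (ι → F)) z = z + polar R w z • u + polar R u z • w := fun z => by
    rw [sie_app, hw, zero_mul, sub_zero, sub_eq_add_neg, hneg]
  have sx0 : (sie u w hu huw : (ι → F) ≃ₗ[F] (ι → F)) (x i0) = x i1 := by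
    rw [happ]
    simp only [hudef, hwdef, polar_add_left, pxy, polar_self', (hxy i0).1, o _ _ h01.symm _ (hxm _).1 _ (hxm _).1,
      o _ _ h01.symm _ (hxm _).2.1 _ (hxm _).1, h20, mul_one, add_zero, one_smul, zero_smul]
    rw [← add_assoc, ← two_smul F (x i0), h20, zero_smul, zero_add]
  have sx1 : (sie u w hu huw : (ι → F) ≃ₗ[F] (ι → F)) (x i1) = x i0 := by
    rw [happ]
    simp only [hudef, hwdef, polar_add_left, pxy, polar_self', (hxy i1).1, o _ _ h01 _ (hxm _).1 _ (hxm _).1,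
      o _ _ h01 _ (hxm _).2.1 _ (hxm _).1, h20, mul_one, add_zero, zero_add, one_smul, zero_smul]
    rw [add_comm (x i0), ← add_assoc, ← two_smul F (x i1), h20, zero_smul, zero_add]
  have sy0 : (sie u w hu huw : (ι → F) ≃ₗ[F] (ι → F)) (y i0) = y i1 := by
    rw [happ]
    simp only [hudef, hwdef, polar_add_left, (hxy i0).2.2.1, polar_self', (hxy i0).2.1,
      o _ _ h01.symm _ (hxm _).1 _ (hxm _).2.1, o _ _ h01.symm _ (hxm _).2.1 _ (hxm _).2.1, h20, mul_one, add_zero,
      one_smul, zero_smul]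
    rw [← add_assoc, ← two_smul F (y i0), h20, zero_smul, zero_add]
  have sy1 : (sie u w hu huw : (ι → F) ≃ₗ[F] (ι → F)) (y i1) = y i0 := by
    rw [happ]
    simp only [hudef, hwdef, polar_add_left, (hxy i1).2.2.1, polar_self', (hxy i1).2.1,
      o _ _ h01 _ (hxm _).1 _ (hxm _).2.1, o _ _ h01 _ (hxm _).2.1 _ (hxm _).2.1, h20, mul_one, add_zero, zero_add,
      one_smul, zero_smul]
    rw [add_comm (y i0), ← add_assoc, ← two_smul F (y i1), h20, zero_smul, zero_add]
  have hfix : ∀ z, polar R u z = 0 → polar R w z = 0 → (sie u w hu huw : (ι → F) ≃ₗ[F] (ι → F)) z = z :=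
    fun z h1 h2 => sie_fix' hu huw h1 h2
  have hother : ∀ i, i ≠ i0 → i ≠ i1 → ∀ z ∈ D i, (sie u w hu huw : (ι → F) ≃ₗ[F] (ι → F)) z = z := by
    intro i hi0 hi1 z hz
    refine hfix z ?_ ?_
    · rw [hudef, polar_add_left, o _ _ hi0.symm _ (hxm _).1 _ hz, o _ _ hi1.symm _ (hxm _).1 _ hz, add_zero]
    · rw [hwdef, polar_add_left, o _ _ hi0.symm _ (hxm _).2.1 _ hz, o _ _ hi1.symm _ (hxm _).2.1 _ hz, add_zero]
  have hsec : ∀ i, (i = i0 ∨ i = i1) → (sie u w hu huw : (ι → F) ≃ₗ[F] (ι → F)) (x' i) = x' i ∧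
      (sie u w hu huw : (ι → F) ≃ₗ[F] (ι → F)) (y' i) = y' i := by
    rintro i (rfl | rfl) <;> constructor <;> refine hfix _ ?_ ?_ <;>
      simp only [hudef, hwdef, polar_add_left, (hxy i).2.2.2.2.2.2.1, (hxy i).2.2.2.2.2.2.2.1,
        (hxy i).2.2.2.2.2.2.2.2.1, (hxy i).2.2.2.2.2.2.2.2.2, o _ _ h01 _ (hxm _).1 _ (hxm _).2.2.1,
        o _ _ h01 _ (hxm _).1 _ (hxm _).2.2.2, o _ _ h01 _ (hxm _).2.1 _ (hxm _).2.2.1,
        o _ _ h01 _ (hxm _).2.1 _ (hxm _).2.2.2, o _ _ h01.symm _ (hxm _).1 _ (hxm _).2.2.1,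
        o _ _ h01.symm _ (hxm _).1 _ (hxm _).2.2.2, o _ _ h01.symm _ (hxm _).2.1 _ (hxm _).2.2.1,
        o _ _ h01.symm _ (hxm _).2.1 _ (hxm _).2.2.2, add_zero]
  refine refine_not_maximal hR hn (fun r => r = 1) (setStab R A) le_rfl
    ⟨sie u w hu huw, ?_, mem_setStab_of_forward ?_, i0, x i0, x' i0, (hxm i0).1, (hxm i0).2.2.1, fun j hj hj' => ?_⟩
    ⟨x i0, x i0 + (x i1 + x i2), ?_, by rw [(hxy i0).1]; exact one_ne_zero, fun g hg heq => ?_⟩
  · rw [← sieGroup_eq_commutator hR hn]; exact sie_mem hu huw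
  · rintro z ⟨i, hi, h1⟩
    suffices h : ∃ j, (sie u w hu huw : (ι → F) ≃ₗ[F] (ι → F)) z ∈ D j by
      obtain ⟨j, hj⟩ := h
      exact ⟨j, hj, by rw [O.map_app]; exact h1⟩
    obtain ⟨a, b, hz⟩ := hcases i z hi h1
    by_cases hi0 : i = i0
    · subst hi0
      rcases hz with rfl | rfl
      · exact ⟨i1, by rw [map_add, map_smul, map_smul, sx0, sy0]; exact
          (D i1).add_mem ((D i1).smul_mem _ (hxm i1).1) ((D i1).smul_mem _ (hxm i1).2.1)⟩
      · exact ⟨i, by rw [map_add, map_smul, map_smul, (hsec i (Or.inl rfl)).1, (hsec i (Or.inl rfl)).2]; exact hi⟩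
    · by_cases hi1 : i = i1
      · subst hi1
        rcases hz with rfl | rfl
        · exact ⟨i0, by rw [map_add, map_smul, map_smul, sx1, sy1]; exact
            (D i0).add_mem ((D i0).smul_mem _ (hxm i0).1) ((D i0).smul_mem _ (hxm i0).2.1)⟩
        · exact ⟨i, by rw [map_add, map_smul, map_smul, (hsec i (Or.inr rfl)).1, (hsec i (Or.inr rfl)).2]; exact hi⟩
      · exact ⟨i, by rw [hother i hi0 hi1 z hi]; exact hi⟩
  · rw [sx0] at hj
    rw [(hsec i0 (Or.inl rfl)).1] at hj'
    have e1 : j = i1 := by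
      by_contra h
      have := o j i1 h _ hj _ (hxm i1).2.1
      rw [(hxy i1).2.2.1] at this
      exact one_ne_zero this
    have e0 : j = i0 := by
      by_contra h
      have := o j i0 h _ hj' _ (hxm i0).2.2.2
      rw [(hxy i0).2.2.2.2.2.1] at this
      exact one_ne_zero this
    exact h01 (e0.symm.trans e1)
  · rw [map_add_polar, map_add_polar, polar_add_right, o _ _ h01 _ (hxm _).1 _ (hxm _).1,
      o _ _ h02 _ (hxm _).1 _ (hxm _).1, o _ _ h12 _ (hxm _).1 _ (hxm _).1, (hxy i0).1, (hxy i1).1, (hxy i2).1]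
    linear_combination h20
  · obtain ⟨i, hi, -⟩ := (hg _).2 ⟨i0, (hxm i0).1, (hxy i0).1⟩
    rw [heq] at hi
    refine not_mem_pieces horth h01 (hxm i0).2.1 (hxm i1).2.1 ?_ ?_ i hi
    · rw [polar_add_left, polar_add_left, (hxy i0).2.2.1, o _ _ h01.symm _ (hxm _).1 _ (hxm _).2.1,
        o _ _ h02.symm _ (hxm _).1 _ (hxm _).2.1]
      simp
    · rw [polar_add_left, polar_add_left, (hxy i1).2.2.1, o _ _ h01 _ (hxm _).1 _ (hxm _).2.1,
        o _ _ h12.symm _ (hxm _).1 _ (hxm _).2.1]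
      simp

end Cfsg.Agent.H96
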