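import Mathlib
import Cfsg.Prelude.Def_GeometricClasses

set_option autoImplicit false

/-!
Coordinates for a tensor decomposition given by an index bijection and a base change.
-/

namespace Cfsg.Agent.H96

open Matrix Kronecker

variable {F : Type*} [Field F] {ι : Type} [Fintype ι] [DecidableEq ι] {n₁ n₂ : ℕ}

/-- The linear isomorphism from `n₁`-tuples of vectors of length `n₂`. -/
noncomputable def tensorIso (e : ι ≃ Fin n₁ × Fin n₂) (P : GL ι F) :
    (Fin n₁ → Fin n₂ → F) ≃ₗ[F] (ι → F) :=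
  (((LinearEquiv.curry F F (Fin n₁) (Fin n₂)).symm).trans (LinearEquiv.funCongrLeft F F e)).trans
    (LinearMap.GeneralLinearGroup.generalLinearEquiv F (ι → F) (Matrix.GeneralLinearGroup.toLin P))

theorem tensorIso_apply (e : ι ≃ Fin n₁ × Fin n₂) (P : GL ι F) (x : Fin n₁ → Fin n₂ → F) :
    tensorIso e P x = (P : Matrix ι ι F) *ᵥ ((fun p : Fin n₁ × Fin n₂ => x p.1 p.2) ∘ e) := rfl

/-- The action of the tensor product subgroup in these coordinates. -/
theorem exists_tensor_action {e : ι ≃ Fin n₁ × Fin n₂} {P g : GL ι F}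
    (hg : g ∈ Cfsg.Geo.tensorProductSubgroup n₁ n₂ e P) :
    ∃ (A : GL (Fin n₁) F) (B : GL (Fin n₂) F), ∀ x : Fin n₁ → Fin n₂ → F,
      (g : Matrix ι ι F) *ᵥ tensorIso e P x = tensorIso e P
        (fun i => ∑ i', (A : Matrix (Fin n₁) (Fin n₁) F) i i' • ((B : Matrix (Fin n₂) (Fin n₂) F) *ᵥ x i')) := by
  obtain ⟨_, ⟨k, ⟨A, B, hk⟩, rfl⟩, rfl⟩ := hg
  refine ⟨A, B, fun x => ?_⟩
  have hval : (((MulAut.conj P).toMonoidHom ((Cfsg.Geo.glReindex e.symm).toMonoidHom k) : GL ι F) : Matrix ι ι F) =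
      (P : Matrix ι ι F) * Matrix.reindex e.symm e.symm ((A : Matrix (Fin n₁) (Fin n₁) F) ⊗ₖ
        (B : Matrix (Fin n₂) (Fin n₂) F)) * ((P⁻¹ : GL ι F) : Matrix ι ι F) := by
    rw [← hk]; rfl
  have hP : ((P⁻¹ : GL ι F) : Matrix ι ι F) * (P : Matrix ι ι F) = 1 := by
    rw [← Units.val_mul, inv_mul_cancel, Units.val_one]
  rw [hval, tensorIso_apply, tensorIso_apply, Matrix.mulVec_mulVec, Matrix.mul_assoc, hP, Matrix.mul_one,
    ← Matrix.mulVec_mulVec]
  congr 1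
  funext i
  simp only [Matrix.mulVec, dotProduct, Matrix.reindex_apply, Matrix.submatrix_apply, Function.comp_apply,
    Equiv.symm_symm, Finset.sum_apply, Pi.smul_apply, smul_eq_mul]
  rw [Equiv.sum_comp e (fun p => ((A : Matrix (Fin n₁) (Fin n₁) F) ⊗ₖ (B : Matrix (Fin n₂) (Fin n₂) F)) (e i) p *
    x p.1 p.2), Fintype.sum_prod_type]
  refine Finset.sum_congr rfl fun a _ => ?_
  rw [Finset.mul_sum]
  refine Finset.sum_congr rfl fun b _ => ?_
  rw [Matrix.kroneckerMap_apply]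
  ring

/-- A bilinear form as its Gram sum. -/
theorem sum_gram {κ : Type} [Fintype κ] [DecidableEq κ] {f : (κ → F) → (κ → F) → F}
    (hf : Cfsg.Geo.IsBilinearForm f) (a b : κ → F) :
    ∑ j, ∑ j', a j * Cfsg.Geo.gramMatrix f j j' * b j' = f a b := by
  let φ : (κ → F) →ₗ[F] (κ → F) →ₗ[F] F :=
    LinearMap.mk₂ F f hf.add_left hf.smul_left hf.add_right (fun c v x => hf.smul_right c v x)
  show ∑ j, ∑ j', a j * φ (Pi.single j 1) (Pi.single j' 1) * b j' = φ a b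
  conv_rhs => rw [pi_eq_sum_univ' a, pi_eq_sum_univ' b]
  simp only [map_sum, map_smul, LinearMap.sum_apply, LinearMap.smul_apply, smul_eq_mul, Finset.mul_sum]
  rw [Finset.sum_comm]
  refine Finset.sum_congr rfl fun j _ => Finset.sum_congr rfl fun j' _ => ?_
  ring

/-- The polar form in tensor coordinates. -/
theorem tensor_polar {e : ι ≃ Fin n₁ × Fin n₂} {P : GL ι F} {f : (ι → F) → (ι → F) → F}
    {f₁ : (Fin n₁ → F) → (Fin n₁ → F) → F} {f₂ : (Fin n₂ → F) → (Fin n₂ → F) → F}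
    (hf₂ : Cfsg.Geo.IsBilinearForm f₂) (hT : Cfsg.Geo.IsTensorFormStructure id f f₁ f₂ e P) :
    ∃ c : F, c ≠ 0 ∧ ∀ x y : Fin n₁ → Fin n₂ → F, f (tensorIso e P x) (tensorIso e P y) =
      c * ∑ i, ∑ i', Cfsg.Geo.gramMatrix f₁ i i' * f₂ (x i) (y i') := by
  obtain ⟨c, hc, h⟩ := hT
  refine ⟨c, hc, fun x y => ?_⟩
  rw [tensorIso_apply, tensorIso_apply, h]
  congr 1
  simp only [Cfsg.Geo.formOfGram, id_eq, Fintype.sum_prod_type, Matrix.kroneckerMap_apply]
  refine Finset.sum_congr rfl fun i _ => ?_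
  rw [Finset.sum_comm]
  refine Finset.sum_congr rfl fun i' _ => ?_
  rw [← sum_gram hf₂, Finset.mul_sum]
  refine Finset.sum_congr rfl fun j _ => ?_
  rw [Finset.mul_sum]
  refine Finset.sum_congr rfl fun j' _ => ?_
  ring

end Cfsg.Agent.H96
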