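import Mathlib
import Cfsg.Prelude.Def_GeometricClasses

set_option autoImplicit false

/-!
Pure tensors and operators on one slot of the tensor power `(F^k)^{⊗ t}`.
-/

namespace Cfsg.Agent.H96.TensorPower

open Matrix

variable {F : Type*} [Field F] {k t : ℕ}

/-- Vectors of the tensor power. -/
abbrev Sp (F : Type*) (k t : ℕ) := (Fin t → Fin k) → F

/-- A pure tensor. -/
def pureT (x : Fin t → Fin k → F) : Sp F k t := fun a => ∏ i, x i (a i)

/-- The matrix of a tensor product of operators. -/
def tensorMat (gs : Fin t → Matrix (Fin k) (Fin k) F) : Matrix (Fin t → Fin k) (Fin t → Fin k) F :=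
  Matrix.of fun a b => ∏ i, gs i (a i) (b i)

theorem tensorMat_pureT (gs : Fin t → Matrix (Fin k) (Fin k) F) (x : Fin t → Fin k → F) :
    tensorMat gs *ᵥ pureT x = pureT fun i => gs i *ᵥ x i := by
  funext a
  simp only [Matrix.mulVec, dotProduct, tensorMat, Matrix.of_apply, pureT]
  rw [Fintype.prod_sum (fun i j => gs i (a i) j * x i j)]
  exact Finset.sum_congr rfl fun b _ => Finset.prod_mul_distrib.symm

theorem pureT_smul (x : Fin t → Fin k → F) (i : Fin t) (μ : F) (v : Fin k → F) :
    pureT (Function.update x i (μ • v)) = μ • pureT (Function.update x i v) := by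
  funext a
  simp only [pureT, Pi.smul_apply, smul_eq_mul]
  have e : ∀ w : Fin k → F, ∏ l, Function.update x i w l (a l) =
      w (a i) * ∏ l ∈ Finset.univ.erase i, x l (a l) := by
    intro w
    rw [← Finset.mul_prod_erase _ _ (Finset.mem_univ i), Function.update_self]
    congr 1
    exact Finset.prod_congr rfl fun l hl => by rw [Function.update_of_ne (Finset.ne_of_mem_erase hl)]
  rw [e, e, Pi.smul_apply, smul_eq_mul]
  ring

theorem pureT_add (x : Fin t → Fin k → F) (i : Fin t) (v w : Fin k → F) :
    pureT (Function.update x i (v + w)) = pureT (Function.update x i v) + pureT (Function.update x i w) := by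
  funext a
  simp only [pureT, Pi.add_apply]
  have e : ∀ u : Fin k → F, ∏ l, Function.update x i u l (a l) =
      u (a i) * ∏ l ∈ Finset.univ.erase i, x l (a l) := by
    intro u
    rw [← Finset.mul_prod_erase _ _ (Finset.mem_univ i), Function.update_self]
    congr 1
    exact Finset.prod_congr rfl fun l hl => by rw [Function.update_of_ne (Finset.ne_of_mem_erase hl)]
  rw [e, e, e, Pi.add_apply]
  ring

theorem pureT_single (a : Fin t → Fin k) :
    pureT (fun i => Pi.single (a i) (1 : F)) = Pi.single a 1 := by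
  funext b
  by_cases h : b = a
  · subst h; simp [pureT]
  · rw [Pi.single_eq_of_ne h]
    obtain ⟨i, hi⟩ := Function.ne_iff.1 h
    exact Finset.prod_eq_zero (Finset.mem_univ i) (Pi.single_eq_of_ne hi 1)

/-- Linear maps agreeing on pure tensors are equal. -/
theorem ext_pure {W : Type*} [AddCommGroup W] [Module F W] {f g : Sp F k t →ₗ[F] W}
    (h : ∀ x, f (pureT x) = g (pureT x)) : f = g :=
  LinearMap.pi_ext' fun a => LinearMap.ext_ring <| by
    simpa [pureT_single] using h (fun i => Pi.single (a i) 1)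

theorem span_pure {W : Submodule F (Sp F k t)} (h : ∀ x, pureT x ∈ W) : W = ⊤ := by
  rw [eq_top_iff, ← (Pi.basisFun F (Fin t → Fin k)).span_eq, Submodule.span_le]
  rintro _ ⟨a, rfl⟩
  simpa [pureT_single] using h (fun i => Pi.single (a i) 1)

/-- An operator on the slot `i`. -/
noncomputable def slot (i : Fin t) (m : (Fin k → F) →ₗ[F] (Fin k → F)) : Sp F k t →ₗ[F] Sp F k t :=
  Matrix.toLin' (tensorMat (Function.update (fun _ => 1) i (LinearMap.toMatrix' m)))

theorem slot_pureT (i : Fin t) (m : (Fin k → F) →ₗ[F] (Fin k → F)) (x : Fin t → Fin k → F) :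
    slot i m (pureT x) = pureT (Function.update x i (m (x i))) := by
  rw [slot, Matrix.toLin'_apply, tensorMat_pureT]
  congr 1
  funext j
  by_cases hj : j = i
  · subst hj
    rw [Function.update_self, Function.update_self, LinearMap.toMatrix'_mulVec]
  · rw [Function.update_of_ne hj, Function.update_of_ne hj, Matrix.one_mulVec]

theorem slot_comp (i : Fin t) (m m' : (Fin k → F) →ₗ[F] (Fin k → F)) :
    slot i m ∘ₗ slot i m' = slot i (m ∘ₗ m') :=
  ext_pure fun x => by simp [slot_pureT]

theorem slot_comm {i j : Fin t} (h : i ≠ j) (m m' : (Fin k → F) →ₗ[F] (Fin k → F)) :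
    slot i m ∘ₗ slot j m' = slot j m' ∘ₗ slot i m :=
  ext_pure fun x => by
    simp [slot_pureT, Function.update_of_ne h, Function.update_of_ne h.symm, Function.update_comm h]

theorem slot_add (i : Fin t) (m m' : (Fin k → F) →ₗ[F] (Fin k → F)) :
    slot i (m + m') = slot i m + slot i m' :=
  ext_pure fun x => by simp [slot_pureT, pureT_add]

theorem slot_smul (i : Fin t) (μ : F) (m : (Fin k → F) →ₗ[F] (Fin k → F)) :
    slot i (μ • m) = μ • slot i m :=
  ext_pure fun x => by simp [slot_pureT, pureT_smul]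

theorem slot_id (i : Fin t) : slot i (LinearMap.id : (Fin k → F) →ₗ[F] (Fin k → F)) = LinearMap.id :=
  ext_pure fun x => by simp [slot_pureT]

theorem slot_zero (i : Fin t) : slot i (0 : (Fin k → F) →ₗ[F] (Fin k → F)) = 0 := by
  have := slot_smul (F := F) i 0 (0 : (Fin k → F) →ₗ[F] (Fin k → F))
  rwa [zero_smul, zero_smul] at this

/-- The monomial normal form of an element of the tensor wreath group. -/
def IsWreathMap (w : Matrix (Fin t → Fin k) (Fin t → Fin k) F) : Prop :=
  ∃ (gs : Fin t → GL (Fin k) F) (τ : Equiv.Perm (Fin t)), ∀ x : Fin t → Fin k → F,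
    w *ᵥ pureT x = pureT fun i => ((gs i : GL (Fin k) F) : Matrix (Fin k) (Fin k) F) *ᵥ x (τ i)

theorem isWreathMap_of_mem [Finite F] {w : GL (Fin t → Fin k) F}
    (hw : w ∈ Cfsg.Geo.tensorWreathStandard k t F) :
    IsWreathMap (w : Matrix (Fin t → Fin k) (Fin t → Fin k) F) := by
  have hw' : w ∈ (Cfsg.Geo.tensorWreathStandard k t F).toSubmonoid := hw
  rw [Cfsg.Geo.tensorWreathStandard, Subgroup.closure_toSubmonoid_of_finite] at hw'
  clear hw
  induction hw' using Submonoid.closure_induction with
  | mem g hg =>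
    rcases hg with ⟨gs, hgs⟩ | ⟨σ, hσ⟩
    · refine ⟨gs, 1, fun x => ?_⟩
      have : (g : Matrix (Fin t → Fin k) (Fin t → Fin k) F) =
          tensorMat fun i => ((gs i : GL (Fin k) F) : Matrix (Fin k) (Fin k) F) := Matrix.ext hgs
      rw [this, tensorMat_pureT]
      rfl
    · refine ⟨fun _ => 1, σ⁻¹, fun x => ?_⟩
      funext a
      simp only [Matrix.mulVec, dotProduct, hσ, ite_mul, one_mul, zero_mul, Finset.sum_ite_eq', Finset.mem_univ,
        if_true, Units.val_one, Matrix.one_mulVec, pureT]
      conv_rhs => rw [← Equiv.prod_comp σ]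
      simp [Matrix.mulVec, dotProduct, Matrix.one_apply]
  | one => exact ⟨fun _ => 1, 1, fun x => by simp⟩
  | mul g h _ _ hg hh =>
    obtain ⟨gs, τ, hgs⟩ := hg
    obtain ⟨hs, τ', hhs⟩ := hh
    refine ⟨fun i => gs i * hs (τ i), τ' * τ, fun x => ?_⟩
    rw [Units.val_mul, ← Matrix.mulVec_mulVec, hhs, hgs]
    congr 1
    funext i
    rw [Units.val_mul, ← Matrix.mulVec_mulVec, Equiv.Perm.mul_apply]

end Cfsg.Agent.H96.TensorPower
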