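import Mathlib

set_option autoImplicit false

/-!
A non-abelian simple group has at least sixteen elements.
-/

namespace Cfsg.Agent.H96

variable {G : Type*} [Group G] [Finite G] [IsSimpleGroup G]

theorem card_dvd_factorial_index (K : Subgroup G) (hK : K ≠ ⊤) : Nat.card G ∣ K.index.factorial := by
  haveI : Fintype (G ⧸ K) := Fintype.ofFinite _
  have hker : (MulAction.toPermHom G (G ⧸ K)).ker = ⊥ := by
    rcases IsSimpleGroup.eq_bot_or_eq_top_of_normal _ (MonoidHom.normal_ker (MulAction.toPermHom G (G ⧸ K))) with h | h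
    · exact h
    exfalso
    apply hK
    rw [eq_top_iff]
    intro g _
    have hg : g ∈ (MulAction.toPermHom G (G ⧸ K)).ker := h ▸ Subgroup.mem_top g
    have h2 := Equiv.Perm.congr_fun (MonoidHom.mem_ker.mp hg) ((1 : G) : G ⧸ K)
    have h3 : ((g * 1 : G) : G ⧸ K) = ((1 : G) : G ⧸ K) := h2
    rw [mul_one, QuotientGroup.eq, mul_one] at h3
    exact inv_mem_iff.mp h3
  have := Subgroup.card_dvd_of_injective _ ((MonoidHom.ker_eq_bot_iff _).mp hker)
  rwa [Nat.card_perm] at this

theorem sixteen_le_card (hG : ¬ IsMulCommutative G) : 16 ≤ Nat.card G := by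
  by_contra hlt
  have hpow : ∀ p : ℕ, p.Prime → ∀ j : ℕ, Nat.card G ≠ p ^ j := by
    intro p hp j hj
    haveI : Fact p.Prime := ⟨hp⟩
    have hP : IsPGroup p G := IsPGroup.of_card hj
    haveI : Nontrivial G := IsSimpleGroup.toNontrivial
    haveI := hP.center_nontrivial
    rcases IsSimpleGroup.eq_bot_or_eq_top_of_normal (Subgroup.center G) inferInstance with h | h
    · exact (Subgroup.nontrivial_iff_ne_bot _).mp inferInstance h
    · exact hG ⟨⟨fun a b => (Subgroup.mem_center_iff.mp (h ▸ Subgroup.mem_top b) a)⟩⟩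
  have key : ∀ p m : ℕ, p.Prime → Nat.card G = p ^ (Nat.card G).factorization p * m →
      ¬ Nat.card G ∣ m.factorial → False := by
    intro p m hp hm hnd
    haveI : Fact p.Prime := ⟨hp⟩
    let P : Sylow p G := default
    have hidx : (P : Subgroup G).index = m := by
      have h1 := (P : Subgroup G).card_mul_index
      rw [P.card_eq_multiplicity] at h1
      exact Nat.eq_of_mul_eq_mul_left (pow_pos hp.pos _) (h1.trans hm)
    have hne : Subgroup.normalizer (P : Set G) ≠ ⊤ := by
      intro h
      have hn : (P : Subgroup G).Normal := Subgroup.normalizer_eq_top_iff.mp h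
      rcases IsSimpleGroup.eq_bot_or_eq_top_of_normal _ hn with h' | h'
      · apply hnd
        have h1 := P.card_eq_multiplicity
        rw [h', Subgroup.card_bot] at h1
        rw [← h1, one_mul] at hm
        rw [hm]; exact Nat.dvd_factorial (by rw [← hm]; exact Nat.card_pos) le_rfl
      · exact hpow p hp _ (by rw [← P.card_eq_multiplicity, h', Subgroup.card_top])
    apply hnd
    refine (card_dvd_factorial_index _ hne).trans (Nat.factorial_dvd_factorial ?_)
    have hmpos : 0 < m := Nat.pos_of_ne_zero (by rintro rfl; rw [mul_zero] at hm; exact Nat.card_pos.ne' hm)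
    exact Nat.le_of_dvd hmpos (hidx ▸ Subgroup.index_dvd_of_le Subgroup.le_normalizer)
  have h1 : 1 < Nat.card G := Finite.one_lt_card
  have hfac : ∀ {p e m N : ℕ}, p.Prime → ¬ p ∣ m → N = p ^ e * m → (N.factorization p = e) := by
    intro p e m N hp hpm hN
    have hm0 : m ≠ 0 := by rintro rfl; exact hpm (dvd_zero p)
    rw [hN, Nat.factorization_mul (pow_ne_zero _ hp.ne_zero) hm0, Finsupp.add_apply,
      Nat.factorization_pow, Finsupp.smul_apply, hp.factorization_self,
      Nat.factorization_eq_zero_of_not_dvd hpm, smul_eq_mul, mul_one, add_zero]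
  have hrun : ∀ (N p e m : ℕ), Nat.card G = N → p.Prime → ¬ p ∣ m → N = p ^ e * m →
      ¬ N ∣ m.factorial → False := by
    intro N p e m hN hp hpm hNe hnd
    refine key p m hp ?_ (by rw [hN]; exact hnd)
    rw [hN, hfac hp hpm hNe]; exact hNe
  rcases (by omega : Nat.card G = 2 ∨ Nat.card G = 3 ∨ Nat.card G = 4 ∨ Nat.card G = 5 ∨ Nat.card G = 6 ∨
      Nat.card G = 7 ∨ Nat.card G = 8 ∨ Nat.card G = 9 ∨ Nat.card G = 10 ∨ Nat.card G = 11 ∨
      Nat.card G = 12 ∨ Nat.card G = 13 ∨ Nat.card G = 14 ∨ Nat.card G = 15) with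
    h | h | h | h | h | h | h | h | h | h | h | h | h | h
  · exact hpow 2 (by norm_num) 1 (by omega)
  · exact hpow 3 (by norm_num) 1 (by omega)
  · exact hpow 2 (by norm_num) 2 (by omega)
  · exact hpow 5 (by norm_num) 1 (by omega)
  · exact hrun 6 3 1 2 h (by norm_num) (by norm_num) (by norm_num) (by decide)
  · exact hpow 7 (by norm_num) 1 (by omega)
  · exact hpow 2 (by norm_num) 3 (by omega)
  · exact hpow 3 (by norm_num) 2 (by omega)
  · exact hrun 10 5 1 2 h (by norm_num) (by norm_num) (by norm_num) (by decide)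
  · exact hpow 11 (by norm_num) 1 (by omega)
  · exact hrun 12 2 2 3 h (by norm_num) (by norm_num) (by norm_num) (by decide)
  · exact hpow 13 (by norm_num) 1 (by omega)
  · exact hrun 14 7 1 2 h (by norm_num) (by norm_num) (by norm_num) (by decide)
  · exact hrun 15 5 1 3 h (by norm_num) (by norm_num) (by norm_num) (by decide)

end Cfsg.Agent.H96
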