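import Mathlib

set_option autoImplicit false

/-!
The composition length as the largest length of a strictly increasing subnormal series.
-/

namespace Cfsg.Agent.H96

variable (G : Type*) [Group G]

/-- There is a strictly increasing subnormal series of length `l`. -/
def SeriesLen (l : ℕ) : Prop :=
  ∃ H : Fin (l + 1) → Subgroup G, H 0 = ⊥ ∧ H (Fin.last l) = ⊤ ∧
    ∀ i : Fin l, H i.castSucc < H i.succ ∧ ((H i.castSucc).subgroupOf (H i.succ)).Normal

/-- The largest length of a strictly increasing subnormal series (the composition length). -/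
noncomputable def clen : ℕ := sSup {l | SeriesLen G l}

variable {G}

theorem SeriesLen.le_card [Finite G] {l : ℕ} (h : SeriesLen G l) : l + 1 ≤ Nat.card G := by
  obtain ⟨H, h0, -, hc⟩ := h
  have key : ∀ i : Fin (l + 1), (i : ℕ) + 1 ≤ Nat.card (H i) := by
    intro i
    induction i using Fin.induction with
    | zero => exact Nat.card_pos
    | succ i ih =>
      have h1 : Nat.card (H i.castSucc) < Nat.card (H i.succ) := by
        refine lt_of_le_of_ne (Subgroup.card_le_of_le (hc i).1.le) fun h2 => ?_
        exact (hc i).1.ne (Subgroup.eq_of_le_of_card_ge (hc i).1.le h2.ge)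
      simp only [Fin.val_succ, Fin.val_castSucc] at *
      omega
  have := key (Fin.last l)
  simp only [Fin.val_last] at this
  exact this.trans (Finite.card_subtype_le _)

theorem bddAbove_seriesLen [Finite G] : BddAbove {l | SeriesLen G l} :=
  ⟨Nat.card G, fun l hl => by have := SeriesLen.le_card hl; omega⟩

theorem SeriesLen.le_clen [Finite G] {l : ℕ} (h : SeriesLen G l) : l ≤ clen G :=
  le_csSup bddAbove_seriesLen h

theorem exists_seriesLen (G : Type*) [Group G] [Finite G] :
    {l | SeriesLen G l}.Nonempty := by
  by_cases hG : (⊥ : Subgroup G) = ⊤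
  · exact ⟨0, fun _ => ⊥, rfl, hG, fun i => i.elim0⟩
  · refine ⟨1, ![⊥, ⊤], rfl, rfl, fun i => ?_⟩
    fin_cases i
    exact ⟨lt_of_le_of_ne bot_le hG, show ((⊥ : Subgroup G).subgroupOf ⊤).Normal from inferInstance⟩

theorem seriesLen_clen (G : Type*) [Group G] [Finite G] : SeriesLen G (clen G) :=
  Nat.sSup_mem (exists_seriesLen G) bddAbove_seriesLen

theorem SeriesLen.of_equiv {H : Type*} [Group H] (e : G ≃* H) {l : ℕ} (h : SeriesLen G l) :
    SeriesLen H l := by
  obtain ⟨S, h0, hl, hc⟩ := h
  refine ⟨fun i => (S i).map e.toMonoidHom, by simp [h0], ?_, fun i => ⟨?_, ?_⟩⟩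
  · simp only [hl]; exact Subgroup.map_top_of_surjective _ e.surjective
  · exact (Subgroup.map_lt_map_iff_of_injective e.injective).mpr (hc i).1
  · rw [Subgroup.normal_subgroupOf_iff (Subgroup.map_mono (hc i).1.le)]
    rintro _ _ ⟨a, ha, rfl⟩ ⟨b, hb, rfl⟩
    exact ⟨b * a * b⁻¹, (Subgroup.normal_subgroupOf_iff (hc i).1.le).mp (hc i).2 a b ha hb, by simp⟩

theorem clen_congr {H : Type*} [Group H] [Finite G] [Finite H] (e : G ≃* H) : clen G = clen H :=
  le_antisymm ((seriesLen_clen G).of_equiv e).le_clen ((seriesLen_clen H).of_equiv e.symm).le_clen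

theorem clen_of_subsingleton [Finite G] [Subsingleton G] : clen G = 0 := by
  have := (seriesLen_clen G).le_card
  rw [Nat.card_of_subsingleton (1 : G)] at this
  omega

/-- Extending a series of a normal subgroup. -/
theorem SeriesLen.snoc {M : Subgroup G} [M.Normal] (hM : M ≠ ⊤) {l : ℕ} (h : SeriesLen M l) :
    SeriesLen G (l + 1) := by
  obtain ⟨S, h0, hl, hc⟩ := h
  refine ⟨Fin.snoc (α := fun _ => Subgroup G) (fun i => (S i).map M.subtype) ⊤, ?_, Fin.snoc_last _ _, fun i => ?_⟩
  · rw [← Fin.castSucc_zero, Fin.snoc_castSucc, h0, Subgroup.map_bot]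
  induction i using Fin.lastCases with
  | last =>
    have e1 : Fin.snoc (α := fun _ => Subgroup G) (fun i => (S i).map M.subtype) ⊤ (Fin.last l).castSucc = M := by
      rw [Fin.snoc_castSucc, hl, ← MonoidHom.range_eq_map, Subgroup.range_subtype]
    rw [e1, Fin.succ_last, Fin.snoc_last]
    exact ⟨lt_top_iff_ne_top.mpr hM, inferInstance⟩
  | cast i =>
    rw [Fin.snoc_castSucc, Fin.succ_castSucc, Fin.snoc_castSucc]
    refine ⟨(Subgroup.map_lt_map_iff_of_injective M.subtype_injective).mpr (hc i).1, ?_⟩
    rw [Subgroup.normal_subgroupOf_iff (Subgroup.map_mono (hc i).1.le)]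
    rintro _ _ ⟨a, ha, rfl⟩ ⟨b, hb, rfl⟩
    exact ⟨b * a * b⁻¹, (Subgroup.normal_subgroupOf_iff (hc i).1.le).mp (hc i).2 a b ha hb, by simp⟩

theorem clen_normal_lt [Finite G] {M : Subgroup G} [M.Normal] (hM : M ≠ ⊤) : clen M + 1 ≤ clen G :=
  ((seriesLen_clen M).snoc hM).le_clen

/-- The last step of a longest series. -/
theorem exists_maximal_step (G : Type*) [Group G] [Finite G] [Nontrivial G] :
    ∃ (M : Subgroup G), M.Normal ∧ M ≠ ⊤ ∧ clen G = clen M + 1 := by
  obtain ⟨S, h0, hl, hc⟩ := seriesLen_clen G
  obtain ⟨m, hm⟩ : ∃ m, clen G = m + 1 := by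
    refine ⟨clen G - 1, ?_⟩
    have := (clen_normal_lt (M := (⊥ : Subgroup G)) bot_ne_top)
    omega
  revert S
  rw [hm]
  intro S h0 hl hc
  set M := S (Fin.last m).castSucc with hMdef
  have htop : S (Fin.last m).succ = ⊤ := by rw [Fin.succ_last]; exact hl
  have hlt : M < ⊤ := htop ▸ (hc (Fin.last m)).1
  have hn : M.Normal := by
    have h1 := (hc (Fin.last m)).2
    rw [Subgroup.normal_subgroupOf_iff (hc (Fin.last m)).1.le] at h1
    refine ⟨fun a ha b => h1 a b ha ?_⟩
    rw [htop]; exact Subgroup.mem_top b
  refine ⟨M, hn, hlt.ne, ?_⟩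
  have hle : ∀ i : Fin (m + 1), S i.castSucc ≤ M := by
    intro i
    induction i using Fin.reverseInduction with
    | last => exact le_rfl
    | cast i ih =>
      refine le_trans ?_ ih
      rw [← Fin.succ_castSucc]
      exact (hc i.castSucc).1.le
  have hser : SeriesLen M m := by
    refine ⟨fun i => (S i.castSucc).subgroupOf M, ?_, ?_, fun i => ⟨?_, ?_⟩⟩
    · simp only [Fin.castSucc_zero, h0, Subgroup.bot_subgroupOf]
    · simp only [Subgroup.subgroupOf_eq_top]; exact le_rfl
    · have h2 := (hc i.castSucc).1
      rw [Fin.succ_castSucc] at h2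
      refine (Subgroup.map_lt_map_iff_of_injective M.subtype_injective).mp ?_
      rw [Subgroup.subgroupOf_map_subtype, Subgroup.subgroupOf_map_subtype, inf_eq_left.mpr (hle _),
        inf_eq_left.mpr (hle _)]
      exact h2
    · have h2 := (hc i.castSucc).2
      have h3 := (hc i.castSucc).1.le
      rw [Fin.succ_castSucc] at h2 h3
      rw [Subgroup.normal_subgroupOf_iff h3] at h2
      show (((S i.castSucc.castSucc).subgroupOf M).subgroupOf ((S i.succ.castSucc).subgroupOf M)).Normal
      have h4 : (S i.castSucc.castSucc).subgroupOf M ≤ (S i.succ.castSucc).subgroupOf M := Subgroup.comap_mono h3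
      rw [Subgroup.normal_subgroupOf_iff h4]
      intro a b ha hb
      exact h2 (a : G) (b : G) ha hb
  have h1 := hser.le_clen
  haveI := hn
  have h2 := clen_normal_lt hlt.ne
  omega

theorem clen_le_of_normal (G : Type*) [Group G] [Finite G] (N : Subgroup G) [N.Normal] :
    clen N + clen (G ⧸ N) ≤ clen G := by
  induction hc : Nat.card G using Nat.strong_induction_on generalizing G with
  | _ c ih =>
    by_cases hN : N = ⊤
    · subst hN
      haveI : Subsingleton (G ⧸ (⊤ : Subgroup G)) := QuotientGroup.subsingleton_quotient_top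
      rw [clen_of_subsingleton (G := G ⧸ (⊤ : Subgroup G)), add_zero, clen_congr Subgroup.topEquiv]
    haveI : Nontrivial (G ⧸ N) := QuotientGroup.nontrivial_iff.mpr hN
    obtain ⟨Q, hQn, hQ, hQe⟩ := exists_maximal_step (G ⧸ N)
    set M := Q.comap (QuotientGroup.mk' N) with hM
    haveI : M.Normal := Subgroup.Normal.comap hQn _
    have hMne : M ≠ ⊤ := fun h => hQ (by
      have := congrArg (Subgroup.map (QuotientGroup.mk' N)) h
      rwa [hM, Subgroup.map_comap_eq_self_of_surjective (QuotientGroup.mk'_surjective N),
        Subgroup.map_top_of_surjective _ (QuotientGroup.mk'_surjective N)] at this)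
    have hNM : N ≤ M := fun x hx => by
      rw [hM, Subgroup.mem_comap, QuotientGroup.mk'_apply, (QuotientGroup.eq_one_iff x).mpr hx]
      exact one_mem Q
    have hlt : Nat.card M < c := by
      rw [← hc]
      refine lt_of_le_of_ne (Finite.card_subtype_le _) fun h => hMne ((Subgroup.card_eq_iff_eq_top M).mp h)
    have h1 := ih (Nat.card M) hlt M (N.subgroupOf M) rfl
    have e1 : clen (N.subgroupOf M) = clen N := clen_congr (Subgroup.subgroupOfEquivOfLe hNM)
    have e2 : clen (M ⧸ N.subgroupOf M) = clen Q := by
      let f : M →* Q := ((QuotientGroup.mk' N).comp M.subtype).codRestrict Q (fun x => x.2)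
      have hf : Function.Surjective f := by
        rintro ⟨q, hq⟩
        obtain ⟨g, rfl⟩ := QuotientGroup.mk'_surjective N q
        exact ⟨⟨g, hq⟩, rfl⟩
      have hk : N.subgroupOf M = f.ker := by
        ext x
        rw [Subgroup.mem_subgroupOf, MonoidHom.mem_ker, Subtype.ext_iff]
        exact (QuotientGroup.eq_one_iff (N := N) (x : G)).symm
      exact clen_congr ((QuotientGroup.quotientMulEquivOfEq hk).trans
        (QuotientGroup.quotientKerEquivOfSurjective f hf))
    rw [e1, e2] at h1
    have h2 := clen_normal_lt hMne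
    omega

theorem le_clen_of_normal (G : Type*) [Group G] [Finite G] (N : Subgroup G) [N.Normal] :
    clen G ≤ clen N + clen (G ⧸ N) := by
  induction hc : Nat.card G using Nat.strong_induction_on generalizing G with
  | _ c ih =>
    rcases subsingleton_or_nontrivial G with hs | hnt
    · rw [clen_of_subsingleton (G := G)]; exact Nat.zero_le _
    obtain ⟨M, hMn, hM, hMe⟩ := exists_maximal_step G
    have hlt : Nat.card M < c := by
      rw [← hc]
      refine lt_of_le_of_ne (Finite.card_subtype_le _) fun h => hM ((Subgroup.card_eq_iff_eq_top M).mp h)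
    have h1 := ih (Nat.card M) hlt M (N.subgroupOf M) rfl
    -- the image of `M` in the quotient
    set Q := M.map (QuotientGroup.mk' N) with hQ
    haveI : Q.Normal := Subgroup.Normal.map hMn _ (QuotientGroup.mk'_surjective N)
    have e2 : clen (M ⧸ N.subgroupOf M) = clen Q := by
      let f : M →* Q := ((QuotientGroup.mk' N).comp M.subtype).codRestrict Q (fun x => ⟨x, x.2, rfl⟩)
      have hf : Function.Surjective f := by
        rintro ⟨_, g, hg, rfl⟩
        exact ⟨⟨g, hg⟩, rfl⟩
      have hk : N.subgroupOf M = f.ker := by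
        ext x
        rw [Subgroup.mem_subgroupOf, MonoidHom.mem_ker, Subtype.ext_iff]
        exact (QuotientGroup.eq_one_iff (N := N) (x : G)).symm
      exact clen_congr ((QuotientGroup.quotientMulEquivOfEq hk).trans
        (QuotientGroup.quotientKerEquivOfSurjective f hf))
    rw [e2] at h1
    set K := M.subgroupOf N with hK
    haveI : K.Normal := hMn.comap N.subtype
    have e1 : clen (N.subgroupOf M) = clen K := by
      refine clen_congr ?_
      exact
        { toFun := fun x => ⟨⟨((x : M) : G), x.2⟩, (x : M).2⟩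
          invFun := fun x => ⟨⟨((x : N) : G), x.2⟩, (x : N).2⟩
          left_inv := fun x => rfl
          right_inv := fun x => rfl
          map_mul' := fun x y => rfl }
    rw [e1] at h1
    by_cases hQt : Q = ⊤
    · have hKne : K ≠ ⊤ := by
        intro h
        rw [hK, Subgroup.subgroupOf_eq_top] at h
        apply hM
        rw [eq_top_iff]
        intro g _
        have hg : (QuotientGroup.mk' N g) ∈ Q := by rw [hQt]; exact Subgroup.mem_top _
        obtain ⟨m, hm, he⟩ := hg
        rw [QuotientGroup.mk'_eq_mk'] at he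
        obtain ⟨z, hz, rfl⟩ := he
        exact mul_mem hm (h hz)
      have h2 := clen_normal_lt hKne
      have e3 : clen Q = clen (G ⧸ N) := by
        rw [hQt]; exact clen_congr Subgroup.topEquiv
      omega
    · have h2 := clen_normal_lt hQt
      have h3 : clen K ≤ clen N := by
        by_cases hKt : K = ⊤
        · rw [hKt, clen_congr Subgroup.topEquiv]
        · have := clen_normal_lt hKt; omega
      omega

theorem clen_eq_add (G : Type*) [Group G] [Finite G] (N : Subgroup G) [N.Normal] :
    clen G = clen N + clen (G ⧸ N) :=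
  le_antisymm (le_clen_of_normal G N) (clen_le_of_normal G N)

theorem clen_eq_ker_add_range {H : Type*} [Group H] [Finite G] (f : G →* H) :
    clen G = clen f.ker + clen f.range := by
  haveI : Finite f.range := Set.finite_range f |>.to_subtype
  rw [clen_eq_add G f.ker, clen_congr (QuotientGroup.quotientKerEquivRange f)]

theorem clen_le_of_injective {H : Type*} [Group H] [Finite G] [Finite H] (f : G →* H)
    (hf : Function.Injective f) (hn : f.range.Normal) : clen G ≤ clen H := by
  rw [clen_congr (MonoidHom.ofInjective hf)]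
  haveI := hn
  by_cases h : f.range = ⊤
  · rw [h, clen_congr Subgroup.topEquiv]
  · have := clen_normal_lt h
    omega

theorem clen_le_one_of_simple [Finite G] [IsSimpleGroup G] : clen G = 1 := by
  obtain ⟨M, hMn, hM, hMe⟩ := exists_maximal_step G
  rw [(IsSimpleGroup.eq_bot_or_eq_top_of_normal M hMn).resolve_right hM] at hMe
  rw [hMe, clen_of_subsingleton]

/-- The length is at most the base-two logarithm of the order, with equality only for powers of two. -/
theorem two_pow_clen_le (G : Type*) [Group G] [Finite G] :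
    Nat.card G = 2 ^ clen G ∨ 3 * 2 ^ clen G ≤ 2 * Nat.card G := by
  induction hc : Nat.card G using Nat.strong_induction_on generalizing G with
  | _ c ih =>
    rcases subsingleton_or_nontrivial G with hs | hnt
    · left; rw [← hc, clen_of_subsingleton (G := G), Nat.card_of_subsingleton (1 : G), pow_zero]
    obtain ⟨M, hMn, hM, hMe⟩ := exists_maximal_step G
    have hidx : 2 ≤ M.index := M.one_lt_index_of_ne_top hM
    have hmul : Nat.card M * M.index = c := by rw [← hc]; exact M.card_mul_index
    have hMpos : 0 < Nat.card M := Nat.card_pos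
    have hlt : Nat.card M < c := by rw [← hmul]; exact lt_mul_of_one_lt_right hMpos hidx
    rw [hMe, pow_succ]
    rcases ih _ hlt M rfl with h | h
    · rcases eq_or_lt_of_le hidx with h2 | h3
      · left; rw [← hmul, h, ← h2]
      · right
        have := Nat.mul_le_mul_left (Nat.card M) (Nat.succ_le_of_lt h3)
        rw [hmul, h] at this
        omega
    · right
      have := Nat.mul_le_mul_left (Nat.card M) hidx
      rw [hmul] at this
      omega

theorem pow_clen_le (G : Type*) [Group G] [Finite G] : 2 ^ clen G ≤ Nat.card G := by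
  rcases two_pow_clen_le G with h | h <;> omega

theorem clen_lt_of_card_lt [Finite G] {m : ℕ} (h : Nat.card G < 2 ^ m) : clen G < m :=
  (Nat.pow_lt_pow_iff_right (by norm_num)).mp (lt_of_le_of_lt (pow_clen_le G) h)

end Cfsg.Agent.H96
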