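import Mathlib
import Cfsg.Agent.H96.SubnormalLength
import Cfsg.Agent.H96.SimpleSmall

set_option autoImplicit false

/-!
A non-abelian minimal normal subgroup as a product of commuting simple factors.
-/

namespace Cfsg.Agent.H96

variable {G : Type*} [Group G]

/-- A family of pairwise commuting non-abelian simple subgroups generating `N`, permuted by `G`. -/
structure SimpleFactors (N : Subgroup G) where
  /-- The index set. -/
  s : Finset (Subgroup G)
  nonempty : s.Nonempty
  le : ∀ T ∈ s, T ≤ N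
  sup_eq : s.sup id = N
  simple : ∀ T ∈ s, IsSimpleGroup T
  nonabelian : ∀ T ∈ s, ¬ IsMulCommutative T
  commute : ∀ T ∈ s, ∀ U ∈ s, T ≠ U → U ≤ Subgroup.centralizer (T : Set G)
  conj_mem : ∀ g : G, ∀ T ∈ s, T.map (MulAut.conj g).toMonoidHom ∈ s

theorem normalizer_conj_mem {T : Subgroup G} {n x : G} (hn : n ∈ Subgroup.normalizer (T : Set G))
    (hx : x ∈ T) : n * x * n⁻¹ ∈ T := (Subgroup.mem_normalizer_iff.mp hn x).mp hx

theorem normal_map_conj {N T : Subgroup G} (hT : T ≤ N) (hn : N ≤ Subgroup.normalizer (T : Set G)) [hN : N.Normal] (g : G) :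
    T.map (MulAut.conj g).toMonoidHom ≤ N ∧
      N ≤ Subgroup.normalizer ((T.map (MulAut.conj g).toMonoidHom : Subgroup G) : Set G) := by
  refine ⟨?_, fun n hn' => ?_⟩
  · rintro _ ⟨x, hx, rfl⟩
    exact hN.conj_mem x (hT hx) g
  · rw [Subgroup.mem_normalizer_iff]
    have key : ∀ m ∈ N, ∀ y ∈ T.map (MulAut.conj g).toMonoidHom, m * y * m⁻¹ ∈ T.map (MulAut.conj g).toMonoidHom := by
      rintro m hm _ ⟨x, hx, rfl⟩
      refine ⟨g⁻¹ * m * g * x * (g⁻¹ * m * g)⁻¹, ?_, ?_⟩
      · refine normalizer_conj_mem (hn ?_) hx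
        simpa using hN.conj_mem m hm g⁻¹
      · simp [mul_assoc]
    intro y
    refine ⟨key n hn' y, fun hy => ?_⟩
    have := key n⁻¹ (inv_mem hn') _ hy
    simpa [mul_assoc] using this

/-- A non-abelian minimal normal subgroup has simple factors. -/
theorem exists_simpleFactors [Finite G] (N : Subgroup G) [hN : N.Normal] (hne : N ≠ ⊥)
    (hmin : ∀ M : Subgroup G, M.Normal → M ≤ N → M = ⊥ ∨ M = N) (hna : ¬ IsMulCommutative N) :
    Nonempty (SimpleFactors N) := by
  classical
  haveI : Fintype G := Fintype.ofFinite G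
  haveI : Fintype (Subgroup G) := Fintype.ofFinite _
  set C := Finset.univ.filter fun A : Subgroup G => A ≠ ⊥ ∧ A ≤ N ∧ N ≤ Subgroup.normalizer (A : Set G) with hC
  obtain ⟨T, hTC, hTmin⟩ := C.exists_min_image (fun A : Subgroup G => Nat.card A)
    ⟨N, Finset.mem_filter.mpr ⟨Finset.mem_univ _, hne, le_rfl, Subgroup.le_normalizer⟩⟩
  obtain ⟨-, hT0, hTN, hTn⟩ := Finset.mem_filter.mp hTC
  set s := Finset.univ.image fun g : G => T.map (MulAut.conj g).toMonoidHom with hs
  have hmem : ∀ U ∈ s, U ≠ ⊥ ∧ U ≤ N ∧ N ≤ Subgroup.normalizer (U : Set G) ∧ Nat.card U = Nat.card T := by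
    intro U hU
    obtain ⟨g, -, rfl⟩ := Finset.mem_image.mp hU
    refine ⟨?_, (normal_map_conj hTN hTn g).1, (normal_map_conj hTN hTn g).2, ?_⟩
    · rwa [Ne, Subgroup.map_eq_bot_iff_of_injective _ (MulAut.conj g).injective]
    · exact Nat.card_congr (T.equivMapOfInjective _ (MulAut.conj g).injective).toEquiv.symm
  have hminU : ∀ U ∈ s, ∀ A : Subgroup G, A ≤ U → N ≤ Subgroup.normalizer (A : Set G) → A = ⊥ ∨ A = U := by
    intro U hU A hA hAn
    by_cases hA0 : A = ⊥
    · exact Or.inl hA0
    right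
    refine Subgroup.eq_of_le_of_card_ge hA ?_
    rw [(hmem U hU).2.2.2]
    exact hTmin A (Finset.mem_filter.mpr ⟨Finset.mem_univ _, hA0, hA.trans (hmem U hU).2.1, hAn⟩)
  have hcomm : ∀ A ∈ s, ∀ B ∈ s, A ≠ B → B ≤ Subgroup.centralizer (A : Set G) := by
    intro A hA B hB hAB b hb
    rw [Subgroup.mem_centralizer_iff]
    intro x hx
    have hx' : x ∈ N := (hmem A hA).2.1 hx
    have hb' : b ∈ N := (hmem B hB).2.1 hb
    have hinf : A ⊓ B = ⊥ := by
      have hn : N ≤ Subgroup.normalizer ((A ⊓ B : Subgroup G) : Set G) :=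
        le_trans (le_inf (hmem A hA).2.2.1 (hmem B hB).2.2.1) Subgroup.inf_normalizer_le_normalizer_inf
      rcases hminU A hA _ inf_le_left hn with h | h
      · exact h
      exfalso
      rcases hminU B hB _ inf_le_right hn with h' | h'
      · exact (hmem A hA).1 (h.symm.trans h')
      · exact hAB (h.symm.trans h')
    have hc : x * b * x⁻¹ * b⁻¹ ∈ A ⊓ B := by
      refine Subgroup.mem_inf.mpr ⟨?_, ?_⟩
      · rw [mul_assoc, mul_assoc, ← mul_assoc b]
        exact mul_mem hx (normalizer_conj_mem ((hmem A hA).2.2.1 hb') (inv_mem hx))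
      · exact mul_mem (normalizer_conj_mem ((hmem B hB).2.2.1 hx') hb) (inv_mem hb)
    rw [hinf, Subgroup.mem_bot] at hc
    exact mul_inv_eq_iff_eq_mul.mp (mul_inv_eq_one.mp hc)
  have hconj : ∀ g : G, ∀ U ∈ s, U.map (MulAut.conj g).toMonoidHom ∈ s := by
    intro g U hU
    obtain ⟨h, -, rfl⟩ := Finset.mem_image.mp hU
    refine Finset.mem_image.mpr ⟨g * h, Finset.mem_univ _, ?_⟩
    rw [Subgroup.map_map]
    congr 1
    ext x
    simp [mul_assoc]
  have hsup : s.sup id = N := by
    have hle : s.sup id ≤ N := Finset.sup_le fun U hU => (hmem U hU).2.1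
    have hn : (s.sup id).Normal := by
      refine ⟨fun x hx g => ?_⟩
      have : (s.sup id).map (MulAut.conj g).toMonoidHom ≤ s.sup id := by
        rw [Subgroup.map_le_iff_le_comap]
        refine Finset.sup_le fun U hU => ?_
        rw [← Subgroup.map_le_iff_le_comap]
        exact Finset.le_sup (f := id) (hconj g U hU)
      exact this ⟨x, hx, rfl⟩
    refine (hmin _ hn hle).resolve_left fun h => ?_
    have hTs : T ∈ s := Finset.mem_image.mpr ⟨1, Finset.mem_univ _, by ext x; simp⟩
    exact hT0 (le_bot_iff.mp (h ▸ Finset.le_sup (f := id) hTs))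
  refine ⟨⟨s, ?_, fun U hU => (hmem U hU).2.1, hsup, ?_, ?_, hcomm, hconj⟩⟩
  · exact ⟨_, Finset.mem_image.mpr ⟨1, Finset.mem_univ _, rfl⟩⟩
  · intro U hU
    haveI : Nontrivial U := (Subgroup.nontrivial_iff_ne_bot U).mpr (hmem U hU).1
    refine { eq_bot_or_eq_top_of_normal := fun A hA => ?_ }
    have hle : N ≤ Subgroup.normalizer ((A.map U.subtype : Subgroup G) : Set G) := by
      rw [← hsup]
      refine Finset.sup_le fun V hV => ?_
      by_cases hVU : V = U
      · rw [hVU]
        intro u hu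
        rw [Subgroup.mem_normalizer_iff]
        have key : ∀ m ∈ U, ∀ y ∈ A.map U.subtype, m * y * m⁻¹ ∈ A.map U.subtype := by
          rintro m hm _ ⟨a, ha, rfl⟩
          exact ⟨⟨m, hm⟩ * a * ⟨m, hm⟩⁻¹, hA.conj_mem a ha _, rfl⟩
        intro y
        refine ⟨key u hu y, fun hy => ?_⟩
        simpa [mul_assoc] using key u⁻¹ (inv_mem hu) _ hy
      · refine le_trans (hcomm U hU V hV (Ne.symm hVU)) (le_trans ?_ (Subgroup.centralizer_le_normalizer _))
        apply Subgroup.centralizer_le
        exact (Subgroup.map_subtype_le A)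
    rcases hminU U hU _ (Subgroup.map_subtype_le A) hle with h | h
    · exact Or.inl (by rwa [Subgroup.map_eq_bot_iff_of_injective _ U.subtype_injective] at h)
    · refine Or.inr (Subgroup.map_injective U.subtype_injective ?_)
      rw [h, ← MonoidHom.range_eq_map, Subgroup.range_subtype]
  · intro U hU hUc
    obtain ⟨g, -, rfl⟩ := Finset.mem_image.mp hU
    apply hna
    have hall : ∀ V ∈ s, s.sup id ≤ Subgroup.centralizer (V : Set G) := by
      intro V hV
      refine Finset.sup_le fun W hW => ?_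
      by_cases hVW : V = W
      · subst hVW
        intro w hw
        rw [Subgroup.mem_centralizer_iff]
        intro v hv
        obtain ⟨h, -, rfl⟩ := Finset.mem_image.mp hV
        obtain ⟨w0, hw0, rfl⟩ := hw
        obtain ⟨v0, hv0, rfl⟩ := hv
        have hT : ∀ p ∈ T, ∀ q ∈ T, p * q = q * p := by
          intro p hp q hq
          have := congrArg Subtype.val (hUc.is_comm.comm ⟨_, Subgroup.mem_map_of_mem (MulAut.conj g).toMonoidHom hp⟩
            ⟨_, Subgroup.mem_map_of_mem (MulAut.conj g).toMonoidHom hq⟩)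
          simp only [Subgroup.coe_mul, MulEquiv.coe_toMonoidHom] at this
          rw [← map_mul, ← map_mul] at this
          exact (MulAut.conj g).injective this
        rw [← map_mul, ← map_mul, hT v0 hv0 w0 hw0]
      · exact hcomm V hV W hW hVW
    refine ⟨⟨fun a b => Subtype.ext ?_⟩⟩
    have ha : (a : G) ∈ s.sup id := hsup.symm ▸ a.2
    have hcen : s.sup id ≤ Subgroup.centralizer ((s.sup id : Subgroup G) : Set G) :=
      Finset.sup_le fun V hV => Subgroup.le_centralizer_iff.mp (hall V hV)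
    have hb : (b : G) ∈ Subgroup.centralizer ((s.sup id : Subgroup G) : Set G) :=
      hcen (hsup.symm ▸ b.2)
    exact Subgroup.mem_centralizer_iff.mp hb _ ha

namespace SimpleFactors

variable {N : Subgroup G} (F : SimpleFactors N)

theorem sup_erase_le_centralizer [DecidableEq (Subgroup G)] {t : Finset (Subgroup G)} (ht : t ⊆ F.s)
    {T : Subgroup G} (hT : T ∈ F.s) (hTt : T ∉ t) :
    t.sup id ≤ Subgroup.centralizer (T : Set G) :=
  Finset.sup_le fun U hU => F.commute T hT U (ht hU) (fun e => hTt (e.symm ▸ hU))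

theorem inf_sup_eq_bot [DecidableEq (Subgroup G)] {t : Finset (Subgroup G)} (ht : t ⊆ F.s)
    {T : Subgroup G} (hT : T ∈ F.s) (hTt : T ∉ t) : T ⊓ t.sup id = ⊥ := by
  rw [eq_bot_iff]
  intro x hx
  have hc := sup_erase_le_centralizer F ht hT hTt hx.2
  haveI := F.simple T hT
  rcases IsSimpleGroup.eq_bot_or_eq_top_of_normal (Subgroup.center T) inferInstance with h | h
  · have hm : (⟨x, hx.1⟩ : T) ∈ Subgroup.center T := by
      rw [Subgroup.mem_center_iff]
      intro y
      exact Subtype.ext (Subgroup.mem_centralizer_iff.mp hc _ y.2)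
    rw [h, Subgroup.mem_bot] at hm
    rw [Subgroup.mem_bot]
    exact congrArg Subtype.val hm
  · exfalso
    exact F.nonabelian T hT ⟨⟨fun a b => Subgroup.mem_center_iff.mp (h ▸ Subgroup.mem_top b) a⟩⟩

/-- Adjoining a commuting subgroup meeting trivially multiplies the order and adds the length. -/
theorem sup_commute [Finite G] {A B : Subgroup G} (hc : B ≤ Subgroup.centralizer (A : Set G))
    (hi : A ⊓ B = ⊥) :
    Nat.card ↥(A ⊔ B) = Nat.card A * Nat.card B ∧ clen ↥(A ⊔ B) = clen A + clen B := by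
  have hcm : ∀ (a : A) (b : B), Commute (a : G) (b : G) := fun a b =>
    Subgroup.mem_centralizer_iff.mp (hc b.2) _ a.2
  let f := MonoidHom.noncommCoprod A.subtype B.subtype hcm
  have hf : Function.Injective f := by
    rw [← MonoidHom.ker_eq_bot_iff, eq_bot_iff]
    rintro ⟨a, b⟩ hab
    rw [MonoidHom.mem_ker] at hab
    have hab' : (a : G) * b = 1 := hab
    have hmem : (a : G) ∈ A ⊓ B :=
      Subgroup.mem_inf.mpr ⟨a.2, by rw [mul_eq_one_iff_eq_inv.mp hab']; exact inv_mem b.2⟩
    rw [hi, Subgroup.mem_bot] at hmem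
    rw [hmem, one_mul] at hab'
    rw [Subgroup.mem_bot]
    exact Prod.ext (Subtype.ext hmem) (Subtype.ext hab')
  have hr : f.range = A ⊔ B := by
    exact (MonoidHom.noncommCoprod_range A.subtype B.subtype hcm).trans
      (by rw [Subgroup.range_subtype, Subgroup.range_subtype])
  have e : A × B ≃* ↥(A ⊔ B) := (MonoidHom.ofInjective hf).trans (MulEquiv.subgroupCongr hr)
  refine ⟨by rw [← Nat.card_congr e.toEquiv, Nat.card_prod], ?_⟩
  rw [← clen_congr e, clen_eq_ker_add_range (MonoidHom.snd A B)]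
  congr 1
  · refine clen_congr
      { toFun := fun x => (x : A × B).1
        invFun := fun a => ⟨(a, 1), rfl⟩
        left_inv := fun x => Subtype.ext (Prod.ext rfl (MonoidHom.mem_ker.mp x.2).symm)
        right_inv := fun a => rfl
        map_mul' := fun x y => rfl }
  · have hsur : (MonoidHom.snd A B).range = ⊤ := MonoidHom.range_eq_top.mpr fun b => ⟨(1, b), rfl⟩
    rw [hsur]
    exact clen_congr Subgroup.topEquiv

/-- Order and length of a partial product. -/
theorem card_clen_sup [Finite G] [DecidableEq (Subgroup G)] {t : Finset (Subgroup G)} (ht : t ⊆ F.s) {c : ℕ}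
    (hc : ∀ T ∈ t, Nat.card T = c) : Nat.card ↥(t.sup id) = c ^ t.card ∧ clen ↥(t.sup id) = t.card := by
  induction t using Finset.induction_on with
  | empty =>
    refine ⟨by simp, ?_⟩
    rw [Finset.sup_empty, Finset.card_empty]
    exact clen_of_subsingleton
  | insert T t hT ih =>
    rw [Finset.insert_subset_iff] at ht
    obtain ⟨i1, i2⟩ := ih ht.2 fun U hU => hc U (Finset.mem_insert_of_mem hU)
    obtain ⟨h1, h2⟩ := sup_commute (sup_erase_le_centralizer F ht.2 ht.1 hT) (inf_sup_eq_bot F ht.2 ht.1 hT)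
    haveI := F.simple T ht.1
    rw [Finset.sup_insert, id_eq, h1, h2, i1, i2, hc T (Finset.mem_insert_self _ _), Finset.card_insert_of_notMem hT,
      clen_le_one_of_simple, pow_succ]
    exact ⟨mul_comm _ _, add_comm _ _⟩

theorem clen_eq [Finite G] [DecidableEq (Subgroup G)] {c : ℕ} (hc : ∀ T ∈ F.s, Nat.card T = c) :
    Nat.card N = c ^ F.s.card ∧ clen N = F.s.card := by
  have := card_clen_sup F (Finset.Subset.refl F.s) hc
  rwa [F.sup_eq] at this

/-- The product of the intersections with the factors is at least that long. -/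
theorem card_le_clen_of_meets [Finite G] [DecidableEq (Subgroup G)] (A : Subgroup G)
    (hA : ∀ T ∈ F.s, A ⊓ T ≠ ⊥) (hAN : A ≤ N) : F.s.card ≤ clen A := by
  have key : ∀ t : Finset (Subgroup G), t ⊆ F.s → t.card ≤ clen ↥(t.sup fun T => A ⊓ T) := by
    intro t ht
    induction t using Finset.induction_on with
    | empty => simp
    | insert T t hT ih =>
      rw [Finset.insert_subset_iff] at ht
      have hle : (t.sup fun U => A ⊓ U) ≤ t.sup id :=
        Finset.sup_le fun U hU => inf_le_right.trans (Finset.le_sup (f := id) hU)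
      have hc : (t.sup fun U => A ⊓ U) ≤ Subgroup.centralizer ((A ⊓ T : Subgroup G) : Set G) :=
        le_trans (hle.trans (sup_erase_le_centralizer F ht.2 ht.1 hT)) (Subgroup.centralizer_le inf_le_right)
      have hi : (A ⊓ T) ⊓ (t.sup fun U => A ⊓ U) = ⊥ :=
        le_bot_iff.mp ((inf_le_inf inf_le_right hle).trans (inf_sup_eq_bot F ht.2 ht.1 hT).le)
      rw [Finset.sup_insert, (sup_commute hc hi).2, Finset.card_insert_of_notMem hT]
      have hpos : 1 ≤ clen ↥(A ⊓ T) := by
        haveI : Nontrivial ↥(A ⊓ T) := (Subgroup.nontrivial_iff_ne_bot _).mpr (hA T ht.1)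
        have := clen_normal_lt (G := ↥(A ⊓ T)) (M := ⊥) bot_ne_top
        omega
      have := ih ht.2
      omega
  refine (key F.s (Finset.Subset.refl _)).trans ?_
  set P := F.s.sup fun T => A ⊓ T with hP
  have hPA : P ≤ A := Finset.sup_le fun T _ => inf_le_left
  have hnorm : ∀ T ∈ F.s, N ≤ Subgroup.normalizer (T : Set G) := by
    intro T hT
    refine le_trans F.sup_eq.ge (Finset.sup_le fun V hV => ?_)
    by_cases hVT : V = T
    · rw [hVT]; exact Subgroup.le_normalizer
    · exact (F.commute T hT V hV (Ne.symm hVT)).trans (Subgroup.centralizer_le_normalizer _)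
  haveI : (P.subgroupOf A).Normal := by
    rw [Subgroup.normal_subgroupOf_iff hPA]
    intro x a hx ha
    have : P ≤ P.comap (MulAut.conj a).toMonoidHom := by
      refine Finset.sup_le fun T hT y hy => ?_
      rw [Subgroup.mem_comap]
      refine (Finset.le_sup (f := fun T => A ⊓ T) hT) (Subgroup.mem_inf.mpr ⟨?_, ?_⟩)
      · exact mul_mem (mul_mem ha hy.1) (inv_mem ha)
      · exact normalizer_conj_mem (hnorm T hT (hAN ha)) hy.2
    exact this hx
  rw [← clen_congr (Subgroup.subgroupOfEquivOfLe hPA)]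
  have := clen_le_of_normal A (P.subgroupOf A)
  omega

end SimpleFactors

end Cfsg.Agent.H96
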