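import Mathlib

set_option autoImplicit false

/-!
Reflections of anisotropic quadratic forms and the Witt extension they give.
-/

namespace Cfsg.Agent.H96

variable {F V : Type*} [Field F] [AddCommGroup V] [Module F V]

theorem polar_self' (Q : QuadraticForm F V) (x : V) : QuadraticMap.polar Q x x = 2 * Q x := by
  rw [QuadraticMap.polar_self, two_nsmul, two_mul]

theorem quad_sub (Q : QuadraticForm F V) (x y : V) : Q (x - y) = Q x + Q y - QuadraticMap.polar Q x y := by
  have h : QuadraticMap.polar Q x (-y) = -QuadraticMap.polar Q x y := QuadraticMap.polar_neg_right Q x y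
  rw [QuadraticMap.polar, ← sub_eq_add_neg, QuadraticMap.map_neg] at h
  linear_combination h

/-- The reflection in `d`, as an isometry. -/
noncomputable def reflIso (Q : QuadraticForm F V) (d : V) (hd : Q d ≠ 0) : Q.IsometryEquiv Q where
  toFun x := x - (QuadraticMap.polar Q x d / Q d) • d
  invFun x := x - (QuadraticMap.polar Q x d / Q d) • d
  map_add' x y := by
    rw [QuadraticMap.polar_add_left, add_div, add_smul]; abel
  map_smul' c x := by
    simp only [QuadraticMap.polar_smul_left, smul_eq_mul, RingHom.id_apply, smul_sub, smul_smul, mul_div_assoc]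
  left_inv x := by
    have h : QuadraticMap.polar Q (x - (QuadraticMap.polar Q x d / Q d) • d) d = -QuadraticMap.polar Q x d := by
      rw [QuadraticMap.polar_sub_left, QuadraticMap.polar_smul_left, polar_self', smul_eq_mul]
      field_simp
      ring
    simp only [h, neg_div, neg_smul, sub_neg_eq_add, sub_add_cancel]
  right_inv x := by
    have h : QuadraticMap.polar Q (x - (QuadraticMap.polar Q x d / Q d) • d) d = -QuadraticMap.polar Q x d := by
      rw [QuadraticMap.polar_sub_left, QuadraticMap.polar_smul_left, polar_self', smul_eq_mul]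
      field_simp
      ring
    simp only [h, neg_div, neg_smul, sub_neg_eq_add, sub_add_cancel]
  map_app' x := by
    show Q (x - (QuadraticMap.polar Q x d / Q d) • d) = Q x
    rw [quad_sub, QuadraticMap.map_smul, QuadraticMap.polar_smul_right, smul_eq_mul, smul_eq_mul]
    field_simp
    ring

theorem reflIso_apply (Q : QuadraticForm F V) (d : V) (hd : Q d ≠ 0) (x : V) :
    reflIso Q d hd x = x - (QuadraticMap.polar Q x d / Q d) • d := rfl

/-- Witt extension for an anisotropic form: two tuples with equal Gram data are isometric. -/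
theorem exists_isometry_of_anisotropic (Q : QuadraticForm F V) (hQ : Q.Anisotropic) {ι : Type*}
    (v v' : ι → V) (h1 : ∀ i, Q (v i) = Q (v' i))
    (h2 : ∀ i j, QuadraticMap.polar Q (v i) (v j) = QuadraticMap.polar Q (v' i) (v' j))
    (s : Finset ι) : ∃ φ : Q.IsometryEquiv Q, ∀ i ∈ s, φ (v i) = v' i := by
  classical
  induction s using Finset.induction_on with
  | empty => exact ⟨QuadraticMap.IsometryEquiv.refl Q, fun i hi => absurd hi (Finset.notMem_empty i)⟩
  | insert k s hk ih =>
    obtain ⟨φ, hφ⟩ := ih
    by_cases hab : φ (v k) = v' k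
    · refine ⟨φ, fun i hi => ?_⟩
      rcases Finset.mem_insert.mp hi with rfl | hi
      · exact hab
      · exact hφ i hi
    have hd : Q (φ (v k) - v' k) ≠ 0 := fun h => hab (sub_eq_zero.mp (hQ _ h))
    have hpol : ∀ x y : V, QuadraticMap.polar Q (φ x) (φ y) = QuadraticMap.polar Q x y := by
      intro x y
      simp only [QuadraticMap.polar, ← map_add, QuadraticMap.IsometryEquiv.map_app]
    refine ⟨φ.trans (reflIso Q _ hd), fun i hi => ?_⟩
    change reflIso Q _ hd (φ (v i)) = v' i
    rw [reflIso_apply]
    rcases Finset.mem_insert.mp hi with rfl | hi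
    · have : QuadraticMap.polar Q (φ (v i)) (φ (v i) - v' i) = Q (φ (v i) - v' i) := by
        rw [quad_sub, QuadraticMap.polar_sub_right, polar_self', QuadraticMap.IsometryEquiv.map_app, ← h1 i]
        ring
      rw [this, div_self hd, one_smul, sub_sub_cancel]
    · have : QuadraticMap.polar Q (φ (v i)) (φ (v k) - v' k) = 0 := by
        rw [QuadraticMap.polar_sub_right, hpol, h2, hφ i hi, sub_self]
      rw [this, zero_div, zero_smul, sub_zero, hφ i hi]

end Cfsg.Agent.H96
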