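import Mathlib
import Cfsg.Agent.H96.OmegaBridge
import Cfsg.Agent.H51.ClassSplit

set_option autoImplicit false

/-!
Two complementary maximal totally singular subspaces of odd dimension are not interchanged in Ω.
-/

namespace Cfsg.Agent.H96

open QuadraticMap Module Cfsg.Agent.Orthogonal

variable {F : Type*} [Field F] [Finite F] {V : Type*} [AddCommGroup V] [Module F V] [FiniteDimensional F V]
variable {Q : QuadraticForm F V}

/-- An element of Ω does not take a maximal totally singular subspace of odd dimension to a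
complementary one. -/
theorem map_ne_of_disjoint (hQ : Nondeg Q) {k : ℕ} (hn : finrank F V = 2 * k) (hk : Odd k) (h5 : 5 ≤ finrank F V)
    {A B : Submodule F V} (hA : TotSing Q A) (dA : finrank F A = k) (hAB : A ⊓ B = ⊥) {g : O Q}
    (hg : g ∈ commutator (O Q)) : A.map ((g : V ≃ₗ[F] V) : V →ₗ[F] V) ≠ B := by
  intro h
  have hgen := reflGroup_eq_top hQ (Or.inr (by omega))
  have h1 : dickson hQ hgen g = 1 := Abelianization.commutator_subset_ker _ hg
  rw [dickson_apply, H51.dicksonSign_eq_inf hQ hgen hn hA dA g, h, hAB, finrank_bot, add_zero,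
    hk.neg_one_pow] at h1
  exact absurd h1 (by decide)

theorem exists_fix_move (hQ : Nondeg Q) (h5 : 5 ≤ finrank F V) {A B : Submodule F V} (hA : TotSing Q A)
    (hB : TotSing Q B) (hc : IsCompl A B) (h2 : 2 ≤ finrank F A) :
    ∃ g ∈ commutator (O Q), (∀ x ∈ A, (g : V ≃ₗ[F] V) x = x) ∧
      ∃ y ∈ B, (g : V ≃ₗ[F] V) y ∉ B := by
  obtain ⟨w, hwA, hw0⟩ := A.exists_mem_ne_zero_of_ne_bot fun h => by rw [h, finrank_bot] at h2; omega
  obtain ⟨u, huA, huw⟩ : ∃ u ∈ A, u ∉ Submodule.span F {w} := by
    by_contra hcon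
    push Not at hcon
    have := Submodule.finrank_mono hcon
    rw [finrank_span_singleton hw0] at this
    omega
  have hu : Q u = 0 := hA u huA
  have huw' : polar Q u w = 0 := hA.polar_eq huA hwA
  refine ⟨sie u w hu huw', by rw [← sieGroup_eq_commutator hQ h5]; exact sie_mem hu huw',
    fun x hx => sie_fix' hu huw' (hA.polar_eq huA hx) (hA.polar_eq hwA hx), ?_⟩
  obtain ⟨y, hy, hyw⟩ : ∃ y ∈ B, polar Q w y ≠ 0 := by
    by_contra hcon
    push Not at hcon
    refine hw0 (hQ w fun z => ?_)
    obtain ⟨a, ha, b, hb, rfl⟩ := Submodule.mem_sup.1 (hc.sup_eq_top.symm ▸ Submodule.mem_top (x := z))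
    rw [polar_add_right, hA.polar_eq hwA ha, hcon b hb, add_zero]
  refine ⟨y, hy, fun hmem => ?_⟩
  rw [sie_app] at hmem
  have hd : (polar Q w y - Q w * polar Q u y) • u - polar Q u y • w ∈ B := by
    have := B.sub_mem hmem hy
    rwa [add_sub_assoc, add_sub_cancel_left] at this
  have hz := Submodule.disjoint_def.1 hc.disjoint _
    (A.sub_mem (A.smul_mem _ huA) (A.smul_mem _ hwA)) hd
  rw [hA w hwA, zero_mul, sub_zero, sub_eq_zero] at hz
  refine huw (Submodule.mem_span_singleton.2 ⟨(polar Q w y)⁻¹ * polar Q u y, ?_⟩)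
  rw [mul_smul, ← hz, inv_smul_smul₀ hyw]

/-- The stabiliser of a subspace inside the orthogonal group. -/
def subStab (Q : QuadraticForm F V) (A : Submodule F V) : Subgroup (O Q) where
  carrier := {g | A.map ((g : V ≃ₗ[F] V) : V →ₗ[F] V) = A}
  one_mem' := Submodule.map_id A
  mul_mem' := by
    intro g h hg hh
    simp only [Set.mem_setOf_eq] at *
    conv_rhs => rw [← hg]
    conv_rhs => rw [← hh]
    rw [← Submodule.map_comp]
    rfl
  inv_mem' := by
    intro g hg
    simp only [Set.mem_setOf_eq] at *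
    conv_lhs => rw [← hg]
    rw [← Submodule.map_comp]
    convert Submodule.map_id A
    exact LinearMap.ext fun x => (g : V ≃ₗ[F] V).symm_apply_apply x

end Cfsg.Agent.H96
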