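import Mathlib
import Cfsg.Agent.H96.OmegaBridge
import Cfsg.Agent.Orthogonal.Frame

set_option autoImplicit false

/-!
A quadratic space `F³ ⊗ Y` over the field of three elements: the tensor stabiliser permutes the
three pieces of the standard frame of `F³` and is smaller than the stabiliser of that decomposition.
-/

namespace Cfsg.Agent.H96

open QuadraticMap Module Cfsg.Agent.Orthogonal Matrix

/-- Over three elements a similitude of the standard form in three variables is monomial. -/
theorem monomial_of_orthogonal {F : Type*} [Field F] (hF : ∀ t : F, t = 0 ∨ t = 1 ∨ t = -1)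
    (h3 : (3 : F) = 0) {A : Matrix (Fin 3) (Fin 3) F} {r : F} (hA : Aᵀ * A = r • 1) (hr : r ≠ 0) :
    ∃ σ : Equiv.Perm (Fin 3), ∀ i j, i ≠ σ j → A i j = 0 := by
  have h1 : (1 : F) ≠ 0 := one_ne_zero
  have h2 : (2 : F) ≠ 0 := fun h => h1 (by linear_combination h3 - h)
  have hsq : ∀ t : F, t ≠ 0 → t ^ 2 = 1 := fun t ht => by
    rcases hF t with h | h | h
    · exact absurd h ht
    · rw [h]; ring
    · rw [h]; ring
  have hr1 : r = 1 := by
    have hd := congrArg Matrix.det hA
    rw [det_mul, det_transpose, det_smul, det_one, Fintype.card_fin, mul_one] at hd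
    have hdet : A.det ≠ 0 := by
      intro h
      rw [h, mul_zero] at hd
      exact hr (pow_eq_zero_iff (n := 3) (by norm_num) |>.1 hd.symm)
    have := hsq _ hdet
    rw [← pow_two, this, pow_succ, hsq r hr, one_mul] at hd
    exact hd.symm
  rw [hr1, one_smul] at hA
  have hcol : ∀ j, ∑ i, A i j * A i j = 1 := fun j => by
    have := congrFun (congrFun hA j) j
    simpa [Matrix.mul_apply] using this
  have hone : ∀ j, ∃ k, A k j ≠ 0 ∧ ∀ i, i ≠ k → A i j = 0 := by
    intro j
    have hb : ∀ i, (A i j = 0 ∧ A i j * A i j = 0) ∨ (A i j ≠ 0 ∧ A i j * A i j = 1) := fun i => by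
      by_cases h : A i j = 0
      · exact Or.inl ⟨h, by rw [h, mul_zero]⟩
      · exact Or.inr ⟨h, by rw [← pow_two]; exact hsq _ h⟩
    have hs := hcol j
    rw [Fin.sum_univ_three] at hs
    rcases hb 0 with ⟨a, a'⟩ | ⟨a, a'⟩ <;> rcases hb 1 with ⟨b, b'⟩ | ⟨b, b'⟩ <;>
      rcases hb 2 with ⟨c, c'⟩ | ⟨c, c'⟩ <;> rw [a', b', c'] at hs
    · exact absurd (by linear_combination -hs) h1
    · refine ⟨2, c, fun i hi => ?_⟩; fin_cases i <;> first | exact a | exact b | exact absurd rfl hi
    · refine ⟨1, b, fun i hi => ?_⟩; fin_cases i <;> first | exact a | exact c | exact absurd rfl hi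
    · exact absurd (by linear_combination hs) h1
    · refine ⟨0, a, fun i hi => ?_⟩; fin_cases i <;> first | exact b | exact c | exact absurd rfl hi
    · exact absurd (by linear_combination hs) h1
    · exact absurd (by linear_combination hs) h1
    · exact absurd (by linear_combination hs) h2
  choose k hk hk0 using hone
  have hinj : Function.Injective k := by
    intro j j' h
    by_contra hne
    have := congrFun (congrFun hA j) j'
    rw [Matrix.mul_apply, Matrix.one_apply_ne hne, Finset.sum_eq_single (k j)] at this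
    · rcases mul_eq_zero.1 this with h' | h'
      · exact hk j h'
      · exact hk j' (h ▸ h')
    · intro b _ hb; rw [Matrix.transpose_apply, hk0 j b hb, zero_mul]
    · intro hb; exact absurd (Finset.mem_univ _) hb
  exact ⟨Equiv.ofBijective k (Finite.injective_iff_bijective.1 hinj), fun i j h => hk0 j i h⟩

variable {F : Type*} [Field F] {V : Type*} [AddCommGroup V] [Module F V] {Q : QuadraticForm F V}

theorem exists_shear (h3 : (3 : F) = 0) {a t : V} (ha : Q a ≠ 0) (ht : Q t = 0) (hat : polar Q a t = 0) :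
    ∃ g ∈ commutator (O Q), (g : V ≃ₗ[F] V) a = a - t ∧
      ∀ x, polar Q a x = 0 → polar Q t x = 0 → (g : V ≃ₗ[F] V) x = x := by
  have hc : Q (a + t) = Q a := by rw [map_add_polar, ht, hat, add_zero, add_zero]
  have hca : polar Q (a + t) a = 2 * Q a := by
    rw [polar_add_left, polar_self', polar_comm (⇑Q) t a, hat, add_zero]
  have hb : (rO Q (a + t) : V ≃ₗ[F] V) a = -a + -((2 : F) • t) := by
    rw [rO_app, hc, hca, show (Q a)⁻¹ * (2 * Q a) = 2 by field_simp]
    module
  have hb' : -a + -((2 : F) • t) = -a + t := by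
    have h3t : (3 : F) • t = 0 := by rw [h3, zero_smul]
    linear_combination (norm := module) -h3t
  rw [hb'] at hb
  have hQb : Q (-a + t) = Q a := by rw [← hb, O.map_app]
  refine ⟨rO Q a * rO Q (-a + t), hb ▸ rO_comm_mem Q a (a + t), ?_, fun x h1 h2 => ?_⟩
  · rw [Subgroup.coe_mul, mul_app, rO_app _ (-a + t), hQb, polar_add_left, polar_neg_left, polar_self',
      polar_comm (⇑Q) t a, hat, add_zero, show (Q a)⁻¹ * -(2 * Q a) = 1 by field_simp; linear_combination -h3,
      one_smul, map_sub, rO_self ha, map_add, map_neg, rO_self ha, rO_fix hat]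
    have h3a : (3 : F) • a = 0 := by rw [h3, zero_smul]
    linear_combination (norm := module) -h3a
  · rw [Subgroup.coe_mul, mul_app, rO_fix (v := -a + t), rO_fix h1]
    rw [polar_add_left, polar_neg_left, h1, h2, neg_zero, add_zero]

variable [FiniteDimensional F V] [Finite F] {Y : Type*} [AddCommGroup Y] [Module F Y] [FiniteDimensional F Y]
  {β : Y →ₗ[F] Y →ₗ[F] F}

/-- The piece at position `j`. -/
def piece (Φ : (Fin 3 → Y) ≃ₗ[F] V) (j : Fin 3) : Submodule F V :=
  LinearMap.range ((Φ : (Fin 3 → Y) →ₗ[F] V).comp (LinearMap.single F (fun _ => Y) j))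

theorem mem_piece {Φ : (Fin 3 → Y) ≃ₗ[F] V} {j : Fin 3} {x : V} :
    x ∈ piece Φ j ↔ ∀ i, i ≠ j → Φ.symm x i = 0 := by
  constructor
  · rintro ⟨y, rfl⟩ i hi
    simp [hi]
  · intro h
    refine ⟨Φ.symm x j, ?_⟩
    show Φ (Pi.single j (Φ.symm x j)) = x
    conv_rhs => rw [← Φ.apply_symm_apply x]
    congr 1
    funext i
    by_cases hi : i = j
    · subst hi; simp
    · rw [Pi.single_eq_of_ne hi, h i hi]

theorem frame_three (Φ : (Fin 3 → Y) ≃ₗ[F] V) {κ : F} (hκ : κ ≠ 0)
    (hΦ : ∀ x y, polar Q (Φ x) (Φ y) = κ * ∑ j, β (x j) (y j))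
    (hF : ∀ t : F, t = 0 ∨ t = 1 ∨ t = -1) (h3 : (3 : F) = 0) (hs : ∀ a b, β a b = β b a)
    (hβ : ∀ a : Y, a ≠ 0 → ∃ b, β a b ≠ 0) (hY : 4 ≤ finrank F Y) :
    (∀ (g : O Q) (A : Matrix (Fin 3) (Fin 3) F) (B : Y →ₗ[F] Y),
      (∀ x, (g : V ≃ₗ[F] V) (Φ x) = Φ (fun j => ∑ j', A j j' • B (x j'))) →
        ∃ σ : Equiv.Perm (Fin 3), ∀ j, (piece Φ j).map ((g : V ≃ₗ[F] V) : V →ₗ[F] V) = piece Φ (σ j)) ∧
    (∃ g ∈ commutator (O Q),
      (∃ σ : Equiv.Perm (Fin 3), ∀ j, (piece Φ j).map ((g : V ≃ₗ[F] V) : V →ₗ[F] V) = piece Φ (σ j)) ∧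
      ∀ (A : Matrix (Fin 3) (Fin 3) F) (B : Y →ₗ[F] Y),
        ¬ ∀ x, (g : V ≃ₗ[F] V) (Φ x) = Φ (fun j => ∑ j', A j j' • B (x j'))) ∧
    ∃ g ∈ commutator (O Q),
      ¬ ∃ σ : Equiv.Perm (Fin 3), ∀ j, (piece Φ j).map ((g : V ≃ₗ[F] V) : V →ₗ[F] V) = piece Φ (σ j) := by
  classical
  have h1 : (1 : F) ≠ 0 := one_ne_zero
  have h2 : (2 : F) ≠ 0 := fun h => h1 (by linear_combination h3 - h)
  have hY0 : ∃ y : Y, y ≠ 0 := by
    haveI : Nontrivial Y := finrank_pos_iff.1 (show 0 < finrank F Y by omega)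
    exact exists_ne 0
  have hdim : ∀ j, finrank F (piece Φ j) = finrank F Y := fun j =>
    LinearMap.finrank_range_of_inj (Φ.injective.comp (Pi.single_injective (M := fun _ => Y) j))
  have hsp : ∀ (i j : Fin 3) (a b : Y), polar Q (Φ (Pi.single i a)) (Φ (Pi.single j b)) =
      if i = j then κ * β a b else 0 := by
    intro i j a b
    rw [hΦ]
    split_ifs with h
    · subst h
      rw [Finset.sum_eq_single i (fun k _ hk => by simp [hk]) (fun h => absurd (Finset.mem_univ _) h)]
      simp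
    · rw [Finset.sum_eq_zero (fun k _ => ?_), mul_zero]
      by_cases hk : k = i
      · subst hk; simp [h]
      · simp [hk]
  refine ⟨fun g A B hg => ?_, ?_⟩
  · obtain ⟨y₀, hy₀⟩ := hY0
    obtain ⟨y₁, hy₁⟩ := hβ y₀ hy₀
    have hgs : ∀ (j : Fin 3) (y : Y), (g : V ≃ₗ[F] V) (Φ (Pi.single j y)) = Φ (fun i => A i j • B y) := by
      intro j y
      rw [hg]
      congr 1
      funext i
      rw [Finset.sum_eq_single j (fun k _ hk => by simp [hk]) (fun h => absurd (Finset.mem_univ _) h)]
      simp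
    have hform : ∀ j k, (Aᵀ * A) j k * β (B y₀) (B y₁) = if j = k then β y₀ y₁ else 0 := by
      intro j k
      have h := O.polar_app g (Φ (Pi.single j y₀)) (Φ (Pi.single k y₁))
      rw [hgs, hgs, hsp, hΦ] at h
      simp only [map_smul, LinearMap.smul_apply, smul_eq_mul] at h
      rw [Matrix.mul_apply, Finset.sum_mul]
      apply mul_left_cancel₀ hκ
      rw [mul_ite, mul_zero, ← h]
      congr 1
      refine Finset.sum_congr rfl fun i _ => ?_
      rw [Matrix.transpose_apply]
      ring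
    have hr : β (B y₀) (B y₁) ≠ 0 := fun h => by
      have := hform 0 0
      rw [h, mul_zero, if_pos rfl] at this
      exact hy₁ this.symm
    have hA : Aᵀ * A = ((β (B y₀) (B y₁))⁻¹ * β y₀ y₁) • 1 := by
      ext j k
      have := hform j k
      rw [Matrix.smul_apply, Matrix.one_apply, smul_eq_mul]
      split_ifs with h
      · rw [if_pos h] at this; rw [← this, mul_one]; field_simp
      · rw [if_neg h] at this; rw [mul_zero]; exact (mul_eq_zero.1 this).resolve_right hr
    obtain ⟨σ, hσ⟩ := monomial_of_orthogonal hF h3 hA (mul_ne_zero (inv_ne_zero hr) hy₁)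
    refine ⟨σ, fun j => Submodule.eq_of_le_of_finrank_eq ?_ (by rw [LinearEquiv.finrank_map_eq, hdim, hdim])⟩
    rintro _ ⟨_, ⟨y, rfl⟩, rfl⟩
    rw [mem_piece]
    intro i hi
    show Φ.symm ((g : V ≃ₗ[F] V) (Φ (Pi.single j y))) i = 0
    rw [hgs, LinearEquiv.symm_apply_apply, hσ i j hi, zero_smul]
  -- vectors in the second factor
  let q : QuadraticForm F Y := LinearMap.BilinMap.toQuadraticMap β
  have hqp : ∀ a b, polar q a b = 2 * β a b := by
    intro a b
    rw [LinearMap.BilinMap.polar_toQuadraticMap, hs b a]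
    ring
  have hq : Nondeg q := fun x hx => by
    by_contra hne
    obtain ⟨b, hb⟩ := hβ x hne
    have := hx b
    rw [hqp] at this
    exact hb ((mul_eq_zero.1 this).resolve_left h2)
  obtain ⟨y, hy⟩ := hq.exists_value (by omega) 1
  have hyb : β y y = 1 := hy
  have hy0 : y ≠ 0 := fun h => by rw [h, map_zero] at hyb; exact h1 hyb.symm
  have hline : Nondeg (restr q (Submodule.span F {y})) := by
    rw [nondeg_restr_iff, eq_bot_iff]
    rintro x ⟨hx1, hx2⟩
    obtain ⟨r, rfl⟩ := Submodule.mem_span_singleton.1 hx1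
    have := (mem_perp_span_singleton q).1 hx2
    rw [hqp, map_smul, smul_eq_mul, hyb, mul_one, mul_eq_zero] at this
    rw [this.resolve_left h2, zero_smul]
    exact Submodule.zero_mem _
  obtain ⟨⟨z, hzp⟩, hz0, hz⟩ := (hq.nondeg_perp hline).exists_singular
    (by have := hq.finrank_perp_singleton hy0; omega)
  have hz0' : z ≠ 0 := fun h => hz0 (Subtype.ext h)
  have hzz : β z z = 0 := hz
  have hyz : β y z = 0 := by
    have := (mem_perp_span_singleton q).1 hzp
    rw [hqp] at this
    exact (mul_eq_zero.1 this).resolve_left h2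
  have hQs : ∀ (j : Fin 3) (a : Y), 2 * Q (Φ (Pi.single j a)) = κ * β a a := fun j a => by
    rw [← polar_self', hsp, if_pos rfl]
  set a : V := Φ (Pi.single 0 y) with ha_def
  have ha : Q a ≠ 0 := fun h => by
    have := hQs 0 y
    rw [← ha_def, h, mul_zero, hyb, mul_one] at this
    exact hκ this.symm
  refine ⟨?_, ?_⟩
  · have ht : Q (Φ (Pi.single 0 z)) = 0 := by
      have := hQs 0 z
      rw [hzz, mul_zero] at this
      exact (mul_eq_zero.1 this).resolve_left h2
    obtain ⟨g, hg, hga, hfix⟩ := exists_shear h3 ha ht (by rw [ha_def, hsp, if_pos rfl, hyz, mul_zero])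
    have hga' : (g : V ≃ₗ[F] V) (Φ (Pi.single 0 y)) = Φ (Pi.single 0 (y - z)) := by
      rw [← ha_def, hga, ha_def, ← map_sub, Pi.single_sub]
    have hfix' : ∀ j, j ≠ 0 → ∀ w, (g : V ≃ₗ[F] V) (Φ (Pi.single j w)) = Φ (Pi.single j w) := fun j hj w =>
      hfix _ (by rw [ha_def, hsp, if_neg (Ne.symm hj)]) (by rw [hsp, if_neg (Ne.symm hj)])
    refine ⟨g, hg, ⟨1, fun j => Submodule.eq_of_le_of_finrank_eq ?_ (by rw [LinearEquiv.finrank_map_eq, Equiv.Perm.one_apply])⟩, ?_⟩
    · rintro _ ⟨_, ⟨w, rfl⟩, rfl⟩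
      rw [Equiv.Perm.one_apply, mem_piece]
      intro i hi
      show Φ.symm ((g : V ≃ₗ[F] V) (Φ (Pi.single j w))) i = 0
      by_cases hj : j = 0
      · subst hj
        by_contra hne
        obtain ⟨b, hb⟩ := hβ _ hne
        have h := O.polar_app g (Φ (Pi.single 0 w)) (Φ (Pi.single i b))
        rw [hfix' i hi b, hsp, if_neg (Ne.symm hi), ← Φ.apply_symm_apply ((g : V ≃ₗ[F] V) (Φ (Pi.single 0 w))), hΦ] at h
        rw [Finset.sum_eq_single i (fun k _ hk => by simp [hk]) (fun h => absurd (Finset.mem_univ _) h)] at h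
        simp only [Pi.single_eq_same, mul_eq_zero] at h
        exact hb (h.resolve_left hκ)
      · rw [hfix' j hj, LinearEquiv.symm_apply_apply, Pi.single_eq_of_ne hi]
    · intro A B hAB
      have e1 := Φ.injective ((hfix' 1 (by decide) y).symm.trans (hAB _))
      have e0 := Φ.injective (hga'.symm.trans (hAB _))
      have e11 := congrFun e1 1
      have e00 := congrFun e0 0
      simp only [Fin.sum_univ_three, Pi.single_eq_same, ne_eq, zero_ne_one, not_false_eq_true, Pi.single_eq_of_ne,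
        Fin.reduceEq, map_zero, smul_zero, add_zero, zero_add] at e11 e00
      have hy' : y - z = (A 0 0 / A 1 1) • y := by
        by_cases hA : A 1 1 = 0
        · rw [hA, zero_smul] at e11; exact absurd e11 hy0
        · conv_rhs => rw [e11]
          rw [smul_smul, div_mul_cancel₀ _ hA]
          exact e00
      have h4 := congrArg (β y) hy'
      rw [map_sub, map_smul, hyb, hyz, sub_zero, smul_eq_mul, mul_one] at h4
      rw [← h4, one_smul, sub_eq_self] at hy'
      exact hz0' hy'
  · have ht : Q (Φ (Pi.single 1 z)) = 0 := by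
      have := hQs 1 z
      rw [hzz, mul_zero] at this
      exact (mul_eq_zero.1 this).resolve_left h2
    obtain ⟨g, hg, hga, -⟩ := exists_shear h3 ha ht (by rw [ha_def, hsp, if_neg (by decide)])
    refine ⟨g, hg, ?_⟩
    rintro ⟨σ, hσ⟩
    have hmem : a - Φ (Pi.single 1 z) ∈ piece Φ (σ 0) := by
      rw [← hσ 0, ← hga]
      exact ⟨a, ⟨y, rfl⟩, rfl⟩
    rw [mem_piece, ha_def, ← map_sub, LinearEquiv.symm_apply_apply] at hmem
    rcases (by omega : σ 0 = 0 ∨ σ 0 ≠ 0) with h | h
    · have := hmem 1 (by rw [h]; decide)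
      simp at this
      exact hz0' this
    · have := hmem 0 (Ne.symm h)
      simp at this
      exact hy0 this

end Cfsg.Agent.H96
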