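import Mathlib
import Cfsg.Agent.H96.OmegaBridge
import Cfsg.Agent.Orthogonal.Eichler

set_option autoImplicit false

/-!
A quadratic space `Y ⊗ F²` over the field of two elements: the stabiliser of the tensor decomposition
normalises a cyclic group of order three and is smaller than that normaliser.
-/

namespace Cfsg.Agent.H96

open QuadraticMap Module Cfsg.Agent.Orthogonal

/-- The elements conjugating `J` to itself or to its inverse. -/
def invStab {G : Type*} [Group G] (J : G) : Subgroup G where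
  carrier := {g | g * J * g⁻¹ = J ∨ g * J * g⁻¹ = J⁻¹}
  one_mem' := Or.inl (by group)
  mul_mem' := by
    intro g h hg hh
    simp only [Set.mem_setOf_eq] at *
    have e : g * h * J * (g * h)⁻¹ = g * (h * J * h⁻¹) * g⁻¹ := by group
    rw [e]
    rcases hh with hh | hh <;> rw [hh]
    · exact hg
    · have e' : g * J⁻¹ * g⁻¹ = (g * J * g⁻¹)⁻¹ := by group
      rw [e']
      rcases hg with hg | hg <;> rw [hg] <;> simp
  inv_mem' := by
    intro g hg
    simp only [Set.mem_setOf_eq] at *
    rcases hg with hg | hg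
    · left
      nth_rw 1 [← hg]
      group
    · right
      have h2 : g⁻¹ * J * g = (g⁻¹ * (g * J * g⁻¹) * g)⁻¹ := by rw [hg]; group
      rw [inv_inv, h2]
      group

theorem mem_invStab {G : Type*} [Group G] {J g : G} :
    g ∈ invStab J ↔ g * J = J * g ∨ g * J = J⁻¹ * g := by
  show g * J * g⁻¹ = J ∨ g * J * g⁻¹ = J⁻¹ ↔ _
  rw [mul_inv_eq_iff_eq_mul, mul_inv_eq_iff_eq_mul]

variable {F : Type*} [Field F] {Y V : Type*} [AddCommGroup Y] [Module F Y] [AddCommGroup V] [Module F V]
variable {Q : QuadraticForm F V} {β : Y →ₗ[F] Y →ₗ[F] F} (Φ : (Y × Y) ≃ₗ[F] V)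
  (hQΦ : ∀ a b, Q (Φ (a, b)) = β a b)

/-- Transport of an automorphism of the model. -/
def modelO (m : (Y × Y) ≃ₗ[F] (Y × Y)) (hm : ∀ a b, β (m (a, b)).1 (m (a, b)).2 = β a b) : O Q :=
  ⟨(Φ.symm.trans m).trans Φ, fun x => by
    obtain ⟨⟨a, b⟩, rfl⟩ := Φ.surjective x
    rw [LinearEquiv.trans_apply, LinearEquiv.trans_apply, LinearEquiv.symm_apply_apply]
    exact (hQΦ _ _).trans ((hm a b).trans (hQΦ a b).symm)⟩

theorem modelO_app (m : (Y × Y) ≃ₗ[F] (Y × Y)) (hm : ∀ a b, β (m (a, b)).1 (m (a, b)).2 = β a b) (p : Y × Y) :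
    (modelO Φ hQΦ m hm : V ≃ₗ[F] V) (Φ p) = Φ (m p) := by
  show Φ (m (Φ.symm (Φ p))) = _
  rw [LinearEquiv.symm_apply_apply]

include hQΦ in
theorem model_ext {g h : O Q} (hgh : ∀ a b, (g : V ≃ₗ[F] V) (Φ (a, b)) = (h : V ≃ₗ[F] V) (Φ (a, b))) : g = h :=
  O.ext_app fun x => by
    obtain ⟨⟨a, b⟩, rfl⟩ := Φ.surjective x
    exact hgh a b

variable (h2 : (2 : F) = 0)

include h2 in
theorem smul_two_eq (x : Y) : x + x = 0 := by rw [← two_smul F x, h2, zero_smul]

include hQΦ in
theorem tensor_half [FiniteDimensional F V] [Finite F] (hQ : Nondeg Q) (hn : 5 ≤ finrank F V)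
    (hF : ∀ t : F, t = 0 ∨ t = 1) (halt : ∀ a, β a a = 0)
    {y y' z : Y} (hyy : β y y' = 1) (hzy : β z y = 0) (hzy' : β z y' = 0) (hz : z ≠ 0) :
    ∃ X : Subgroup (O Q),
      (∀ (g : O Q) (A : Matrix (Fin 2) (Fin 2) F) (B : Y →ₗ[F] Y), A.det ≠ 0 →
        (∀ a b, (g : V ≃ₗ[F] V) (Φ (a, b)) = Φ (A 0 0 • B a + A 0 1 • B b, A 1 0 • B a + A 1 1 • B b)) → g ∈ X) ∧
      (∃ g ∈ commutator (O Q), g ∈ X ∧ ∀ (A : Matrix (Fin 2) (Fin 2) F) (B : Y →ₗ[F] Y),
        ¬ ∀ a b, (g : V ≃ₗ[F] V) (Φ (a, b)) = Φ (A 0 0 • B a + A 0 1 • B b, A 1 0 • B a + A 1 1 • B b)) ∧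
      ∃ g ∈ commutator (O Q), g ∉ X := by
  have h2 : (2 : F) = 0 := by
    rcases hF 2 with h | h
    · exact h
    · exact absurd (by linear_combination h : (1 : F) = 0) one_ne_zero
  have hs : ∀ a b, β b a = β a b := fun a b => by
    have h := halt (a + b)
    simp only [map_add, LinearMap.add_apply, halt, zero_add, add_zero] at h
    linear_combination h - β a b * h2
  have hdd := smul_two_eq (Y := Y) h2
  have hdd' : ∀ u v : Y, u + (u + v) = v := fun u v => by rw [← add_assoc, hdd, zero_add]
  -- the automorphism of order three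
  let j : (Y × Y) ≃ₗ[F] (Y × Y) :=
    { toFun := fun p => (p.2, p.1 + p.2)
      invFun := fun p => (p.1 + p.2, p.1)
      left_inv := fun p => by
        refine Prod.ext ?_ rfl
        show p.2 + (p.1 + p.2) = p.1
        rw [add_left_comm, hdd, add_zero]
      right_inv := fun p => by
        refine Prod.ext rfl ?_
        show p.1 + p.2 + p.1 = p.2
        rw [add_comm p.1, add_assoc, hdd, add_zero]
      map_add' := fun p q => Prod.ext rfl (by simp [add_add_add_comm])
      map_smul' := fun c p => Prod.ext rfl (by simp) }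
  let J : O Q := modelO Φ hQΦ j fun a b => by
    show β b (a + b) = β a b
    rw [map_add, halt, add_zero, hs]
  have hJ : ∀ a b, (J : V ≃ₗ[F] V) (Φ (a, b)) = Φ (b, a + b) := fun a b => modelO_app Φ hQΦ j _ (a, b)
  have hJ' : ∀ a b, ((J⁻¹ : O Q) : V ≃ₗ[F] V) (Φ (a, b)) = Φ (a + b, a) := by
    intro a b
    apply (J : V ≃ₗ[F] V).injective
    rw [hJ, ← mul_app, ← Subgroup.coe_mul, mul_inv_cancel]
    show Φ (a, b) = Φ (a, a + b + a)
    rw [add_comm a b, add_assoc, hdd, add_zero]
  refine ⟨invStab J, ?_, ?_, ?_⟩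
  · intro g A B hA hg
    rw [mem_invStab]
    rw [Matrix.det_fin_two] at hA
    have cases6 : (∀ a b, (g : V ≃ₗ[F] V) ((J : V ≃ₗ[F] V) (Φ (a, b))) = (J : V ≃ₗ[F] V) ((g : V ≃ₗ[F] V) (Φ (a, b))))
        ∨ (∀ a b, (g : V ≃ₗ[F] V) ((J : V ≃ₗ[F] V) (Φ (a, b))) =
          ((J⁻¹ : O Q) : V ≃ₗ[F] V) ((g : V ≃ₗ[F] V) (Φ (a, b)))) := by
      simp only [hJ, hJ', hg, map_add]
      rcases hF (A 0 0) with p | p <;> rcases hF (A 0 1) with q | q <;> rcases hF (A 1 0) with r | r <;>
        rcases hF (A 1 1) with s | s <;> rw [p, q, r, s] at hA <;> simp only [p, q, r, s, zero_smul, one_smul,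
        zero_add, add_zero] <;>
        first
          | (exfalso; apply hA; simp [h2]; done)
          | (left; intro a b; simp [hdd, hdd', add_comm, add_left_comm]; done)
          | (right; intro a b; simp [hdd, hdd', add_comm, add_left_comm]; done)
    rcases cases6 with h | h
    · exact Or.inl (model_ext Φ hQΦ fun a b => h a b)
    · exact Or.inr (model_ext Φ hQΦ fun a b => h a b)
  · -- the projection onto the plane
    let π : Y →ₗ[F] Y := (β.flip y').smulRight y + (β.flip y).smulRight y'
    have hπ : ∀ a, π a = β a y' • y + β a y • y' := fun a => rfl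
    have hy'y : β y' y = 1 := (hs y y').trans hyy
    have hπy : π y = y := by rw [hπ, hyy, halt, one_smul, zero_smul, add_zero]
    have hπy' : π y' = y' := by rw [hπ, halt, hy'y, zero_smul, zero_add, one_smul]
    have hππ : ∀ a, π (π a) = π a := fun a => by
      conv_lhs => rw [hπ a]
      rw [map_add, map_smul, map_smul, hπy, hπy', ← hπ]
    have hπz : π z = 0 := by rw [hπ, hzy', hzy, zero_smul, zero_smul, add_zero]
    have hπβ : ∀ a b, β (π a) b = β (π a) (π b) := fun a b => by
      simp only [hπ, map_add, map_smul, LinearMap.add_apply, LinearMap.smul_apply, smul_eq_mul, halt, hyy, hy'y]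
      rw [hs b y, hs b y']
      ring
    have hβπ : ∀ a b, β a (π b) = β (π a) (π b) := fun a b => by
      rw [hs (π b) a, hπβ b a, hs]
    let m : (Y × Y) →ₗ[F] (Y × Y) :=
      { toFun := fun p => (p.1 + π p.1 + π p.2, p.2 + π p.1)
        map_add' := fun p q => Prod.ext (by simp; abel) (by simp; abel)
        map_smul' := fun c p => Prod.ext (by simp) (by simp) }
    let m' : (Y × Y) →ₗ[F] (Y × Y) :=
      { toFun := fun p => (p.1 + π p.2, p.2 + π p.1 + π p.2)
        map_add' := fun p q => Prod.ext (by simp; abel) (by simp; abel)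
        map_smul' := fun c p => Prod.ext (by simp) (by simp) }
    let hm : (Y × Y) ≃ₗ[F] (Y × Y) := LinearEquiv.ofLinearMap m m'
      (LinearMap.ext fun p => Prod.ext
        (by
          show p.1 + π p.2 + π (p.1 + π p.2) + π (p.2 + π p.1 + π p.2) = p.1
          simp only [map_add, hππ]
          simp only [add_comm, add_left_comm, add_assoc, hdd, hdd', add_zero, zero_add])
        (by
          show p.2 + π p.1 + π p.2 + π (p.1 + π p.2) = p.2
          simp only [map_add, hππ]
          simp only [add_comm, add_left_comm, add_assoc, hdd, hdd', add_zero, zero_add]))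
      (LinearMap.ext fun p => Prod.ext
        (by
          show p.1 + π p.1 + π p.2 + π (p.2 + π p.1) = p.1
          simp only [map_add, hππ]
          simp only [add_comm, add_left_comm, add_assoc, hdd, hdd', add_zero, zero_add])
        (by
          show p.2 + π p.1 + π (p.1 + π p.1 + π p.2) + π (p.2 + π p.1) = p.2
          simp only [map_add, hππ]
          simp only [add_comm, add_left_comm, add_assoc, hdd, hdd', add_zero, zero_add]))
    let h : O Q := modelO Φ hQΦ hm fun a b => by
      show β (a + π a + π b) (b + π a) = β a b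
      simp only [map_add, LinearMap.add_apply]
      rw [hπβ a b, hπβ b b, hβπ a a, halt, halt]
      linear_combination (β (π a) (π b)) * h2 + hs (π a) (π b)
    have hh : ∀ a b, (h : V ≃ₗ[F] V) (Φ (a, b)) = Φ (a + π a + π b, b + π a) := fun a b =>
      modelO_app Φ hQΦ hm _ (a, b)
    have hh' : ∀ a b, ((h⁻¹ : O Q) : V ≃ₗ[F] V) (Φ (a, b)) = Φ (a + π b, b + π a + π b) := by
      intro a b
      apply (h : V ≃ₗ[F] V).injective
      rw [hh, ← mul_app, ← Subgroup.coe_mul, mul_inv_cancel]
      show Φ (a, b) = _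
      congr 1
      simp only [map_add, hππ]
      refine Prod.ext ?_ ?_
      · show a = _
        simp only [add_comm, add_left_comm, add_assoc, hdd, hdd', add_zero, zero_add]
      · show b = _
        simp only [add_comm, add_left_comm, add_assoc, hdd, hdd', add_zero, zero_add]
    let σ : O Q := modelO Φ hQΦ (LinearEquiv.prodComm F Y Y) fun a b => hs a b
    have hσ : ∀ a b, (σ : V ≃ₗ[F] V) (Φ (a, b)) = Φ (b, a) := fun a b =>
      modelO_app Φ hQΦ _ _ (a, b)
    have hσσ : σ⁻¹ = σ := inv_eq_of_mul_eq_one_right (model_ext Φ hQΦ fun a b => by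
      rw [Subgroup.coe_mul, mul_app, hσ, hσ]; rfl)
    have hcomm : σ * h * σ⁻¹ * h⁻¹ = h := by
      rw [hσσ]
      refine model_ext Φ hQΦ fun a b => ?_
      simp only [Subgroup.coe_mul, mul_app]
      rw [hh', hσ, hh, hσ, hh]
      congr 1
      simp only [map_add, hππ]
      refine Prod.ext ?_ ?_
      · show _ = a + π a + π b
        simp only [add_comm, add_left_comm, add_assoc, hdd, hdd', add_zero, zero_add]
      · show _ = b + π a
        simp only [add_comm, add_left_comm, add_assoc, hdd, hdd', add_zero, zero_add]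
    refine ⟨h, ?_, mem_invStab.2 (Or.inl (model_ext Φ hQΦ fun a b => ?_)), fun A B hg => ?_⟩
    · rw [← hcomm, ← commutatorElement_def, commutator_def]
      exact Subgroup.commutator_mem_commutator (Subgroup.mem_top _) (Subgroup.mem_top _)
    · simp only [Subgroup.coe_mul, mul_app, hJ, hh]
      congr 1
      simp only [map_add]
      refine Prod.ext ?_ ?_
      · show _ = b + π a
        simp only [add_comm, add_left_comm, add_assoc, hdd, hdd', add_zero, zero_add]
      · show _ = a + π a + π b + (b + π a)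
        simp only [add_comm, add_left_comm, add_assoc, hdd, hdd', add_zero, zero_add]
    · have h1 := Φ.injective ((hh y 0).symm.trans (hg y 0))
      have h3 := Φ.injective ((hh z 0).symm.trans (hg z 0))
      simp only [map_zero, smul_zero, add_zero, zero_add, hπy, hπz, Prod.mk.injEq, hdd] at h1 h3
      have hy0 : y ≠ 0 := fun e => by simp [e] at hyy
      rcases hF (A 0 0) with e | e
      · rw [e, zero_smul] at h3
        exact hz h3.1
      · rw [e, one_smul] at h1
        rw [← h1.1, smul_zero] at h1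
        exact hy0 h1.2
  · have hu : Q (Φ (y, 0)) = 0 := by rw [hQΦ, map_zero]
    have hsum : ∀ a b a' b', polar Q (Φ (a, b)) (Φ (a', b')) = β a b' + β a' b := by
      intro a b a' b'
      rw [polar, ← map_add, Prod.mk_add_mk, hQΦ, hQΦ, hQΦ]
      simp only [map_add, LinearMap.add_apply]
      ring
    have huw : polar Q (Φ (y, 0)) (Φ (z, 0)) = 0 := by rw [hsum, map_zero, map_zero, add_zero]
    refine ⟨sie (Φ (y, 0)) (Φ (z, 0)) hu huw, by rw [← sieGroup_eq_commutator hQ hn]; exact sie_mem hu huw, ?_⟩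
    have hs' : ∀ a b, (sie (Φ (y, 0)) (Φ (z, 0)) hu huw : V ≃ₗ[F] V) (Φ (a, b)) =
        Φ (a + β z b • y - β y b • z, b) := by
      intro a b
      rw [sie_app, hsum, hsum, hQΦ, map_zero, map_zero, zero_mul, sub_zero, add_zero, add_zero, ← map_smul,
        ← map_smul, ← map_add, ← map_sub]
      congr 1
      refine Prod.ext rfl ?_
      simp
    rw [mem_invStab]
    rintro (h | h)
    · have h1 := congrArg (fun g : O Q => (g : V ≃ₗ[F] V) (Φ (y', 0))) h
      simp only [Subgroup.coe_mul, mul_app, hJ, hs', map_zero, zero_smul, add_zero, sub_zero, hzy', hyy,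
        one_smul, zero_sub, Φ.injective.eq_iff, Prod.mk.injEq, neg_eq_zero] at h1
      exact hz h1.1
    · have h1 := congrArg (fun g : O Q => (g : V ≃ₗ[F] V) (Φ (0, y))) h
      simp only [Subgroup.coe_mul, mul_app, hJ, hJ', hs', hzy, halt, zero_smul, zero_add, add_zero, sub_zero,
        Φ.injective.eq_iff, Prod.mk.injEq] at h1
      have hy0 : y ≠ 0 := fun e => by simp [e] at hyy
      exact hy0 h1.2

end Cfsg.Agent.H96
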