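import Mathlib

set_option autoImplicit false

/-!
Moments of the fixed point count of a transitive action.
-/

namespace Cfsg.Agent.H96

open MulAction

variable (G : Type*) {Ω : Type*} [Group G] [MulAction G Ω]

/-- The number of fixed points of `g`. -/
noncomputable def fixCard {G : Type*} (Ω : Type*) [Group G] [MulAction G Ω] (g : G) : ℕ :=
  Nat.card (fixedBy Ω g)

variable {G}

theorem fixCard_eq_filter [Fintype Ω] [DecidableEq Ω] (g : G) :
    fixCard Ω g = (Finset.univ.filter fun a : Ω => g • a = a).card := by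
  unfold fixCard
  rw [Nat.card_eq_fintype_card, ← Fintype.card_subtype]
  exact Fintype.card_congr (Equiv.subtypeEquivRight fun a => mem_fixedBy)

theorem fixCard_conj (g x : G) : fixCard Ω (x * g * x⁻¹) = fixCard Ω g := by
  unfold fixCard
  refine (Nat.card_congr ((MulAction.toPerm x : Equiv.Perm Ω).subtypeEquiv fun a => ?_)).symm
  simp [mem_fixedBy, mul_smul]

theorem fixCard_le [Fintype Ω] (g : G) : fixCard Ω g ≤ Fintype.card Ω := by
  rw [← Nat.card_eq_fintype_card]
  exact Finite.card_subtype_le _

theorem fixCard_one [Fintype Ω] : fixCard Ω (1 : G) = Fintype.card Ω := by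
  classical
  rw [fixCard_eq_filter]
  simp

theorem eq_one_of_fixCard_eq [Fintype Ω] [FaithfulSMul G Ω] {g : G}
    (h : fixCard Ω g = Fintype.card Ω) : g = 1 := by
  classical
  rw [fixCard_eq_filter, ← Finset.card_univ] at h
  have h2 := Finset.eq_univ_of_card _ (h.trans Finset.card_univ)
  apply eq_of_smul_eq_smul (α := Ω)
  intro a
  have : a ∈ Finset.univ.filter fun a : Ω => g • a = a := by rw [h2]; exact Finset.mem_univ a
  rw [one_smul]
  exact (Finset.mem_filter.mp this).2

theorem fixCard_pos_iff [Fintype Ω] (g : G) : 0 < fixCard Ω g ↔ ∃ a : Ω, g • a = a := by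
  classical
  rw [fixCard_eq_filter, Finset.card_pos, Finset.filter_nonempty_iff]
  simp

theorem fixCard_eq_zero_iff [Fintype Ω] (g : G) : fixCard Ω g = 0 ↔ ∀ a : Ω, g • a ≠ a := by
  classical
  rw [fixCard_eq_filter, Finset.card_eq_zero, Finset.filter_eq_empty_iff]
  simp

/-- Transitive actions: summing a class function against the fixed point count. -/
theorem sum_fixCard_mul [Fintype G] [Fintype Ω] [MulAction.IsPretransitive G Ω] {M : Type*}
    [CommSemiring M] (f : G → M) (hf : ∀ g x : G, f (x * g * x⁻¹) = f g) (a : Ω)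
    [Fintype (stabilizer G a)] :
    ∑ g : G, (fixCard Ω g : M) * f g = (Fintype.card Ω : M) * ∑ g : stabilizer G a, f g := by
  classical
  have h1 : ∀ g : G, (fixCard Ω g : M) * f g = ∑ b : Ω, if g • b = b then f g else 0 := by
    intro g
    rw [← Finset.sum_filter, Finset.sum_const, nsmul_eq_mul, fixCard_eq_filter]
  simp only [h1]
  rw [Finset.sum_comm]
  have h2 : ∀ b : Ω, (∑ g : G, if g • b = b then f g else 0) = ∑ g : G, if g • a = a then f g else 0 := by
    intro b
    obtain ⟨x, rfl⟩ := MulAction.exists_smul_eq G a b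
    refine (Fintype.sum_equiv (MulAut.conj x).toEquiv _ _ fun g => ?_).symm
    have hc : (MulAut.conj x).toEquiv g = x * g * x⁻¹ := rfl
    rw [hc, hf]
    simp [mul_smul]
  simp only [h2]
  rw [Finset.sum_const, nsmul_eq_mul, Finset.card_univ, ← Finset.sum_filter]
  congr 1
  exact Finset.sum_subtype _ (by simp) f

theorem sum_fixCard_orbits [Fintype G] [Fintype Ω]
    [Fintype (Quotient (MulAction.orbitRel G Ω))] :
    ∑ g : G, fixCard Ω g = Fintype.card (Quotient (MulAction.orbitRel G Ω)) * Fintype.card G := by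
  classical
  rw [← MulAction.sum_card_fixedBy_eq_card_orbits_mul_card_group G Ω]
  exact Finset.sum_congr rfl fun g _ => Nat.card_eq_fintype_card

theorem sum_fixCard [Fintype G] [Fintype Ω] [Nonempty Ω] [MulAction.IsPretransitive G Ω] :
    ∑ g : G, fixCard Ω g = Fintype.card G := by
  classical
  rw [sum_fixCard_orbits]
  have : Fintype.card (Quotient (MulAction.orbitRel G Ω)) = 1 := by
    rw [Fintype.card_eq_one_iff]
    refine ⟨Quotient.mk'' (Classical.arbitrary Ω), fun q => ?_⟩
    obtain ⟨b, rfl⟩ := Quotient.exists_rep q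
    exact Quotient.sound (MulAction.orbitRel_apply.mpr
      (MulAction.exists_smul_eq G (Classical.arbitrary Ω) b))
  rw [this, one_mul]

theorem card_stabilizer_mul [Fintype G] [Fintype Ω] [MulAction.IsPretransitive G Ω] (a : Ω)
    [Fintype (stabilizer G a)] :
    Fintype.card (stabilizer G a) * Fintype.card Ω = Fintype.card G := by
  simp only [← Nat.card_eq_fintype_card]
  rw [← MulAction.index_stabilizer_of_transitive G a]
  exact Subgroup.card_mul_index _

theorem fixCard_subgroup (H : Subgroup G) (g : H) : fixCard Ω g = fixCard Ω (g : G) := rfl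

/-- The rank of a transitive action (the number of orbits of a point stabiliser). -/
noncomputable def rankAt (G : Type*) {Ω : Type*} [Group G] [MulAction G Ω] (a : Ω) : ℕ :=
  Nat.card (Quotient (MulAction.orbitRel (stabilizer G a) Ω))

theorem two_le_rankAt [Fintype Ω] (a : Ω) (hn : 2 ≤ Fintype.card Ω) : 2 ≤ rankAt G a := by
  obtain ⟨b, hb⟩ := Fintype.exists_ne_of_one_lt_card hn a
  unfold rankAt
  have : Nontrivial (Quotient (MulAction.orbitRel (stabilizer G a) Ω)) := by
    refine ⟨⟨Quotient.mk'' b, Quotient.mk'' a, fun h => hb ?_⟩⟩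
    obtain ⟨g, hg⟩ := MulAction.orbitRel_apply.mp (Quotient.exact h)
    rw [← hg]
    exact g.2
  exact Finite.one_lt_card

theorem sum_fixCard_stabilizer [Fintype Ω] (a : Ω) [Fintype (stabilizer G a)] :
    ∑ g : stabilizer G a, fixCard Ω (g : G) = rankAt G a * Fintype.card (stabilizer G a) := by
  classical
  have h : ∀ g : stabilizer G a, fixCard Ω (g : G) = fixCard Ω g := fun g => rfl
  simp only [h]
  rw [sum_fixCard_orbits, rankAt, Nat.card_eq_fintype_card]

/-- The basic identity `∑ (π - 1)(π - n) = (r - 1) |G|`. -/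
theorem sum_fix_quadratic [Fintype G] [Fintype Ω] [MulAction.IsPretransitive G Ω] (a : Ω) :
    ∑ g : G, ((fixCard Ω g : ℤ) - 1) * ((fixCard Ω g : ℤ) - Fintype.card Ω)
      = ((rankAt G a : ℤ) - 1) * Fintype.card G := by
  classical
  haveI : Nonempty Ω := ⟨a⟩
  have h1 : ∑ g : G, (fixCard Ω g : ℤ) = Fintype.card G := by
    exact_mod_cast sum_fixCard (G := G) (Ω := Ω)
  have h2 : ∑ g : G, (fixCard Ω g : ℤ) * fixCard Ω g = rankAt G a * Fintype.card G := by
    rw [sum_fixCard_mul (fun g => (fixCard Ω g : ℤ)) (fun g x => by rw [fixCard_conj]) a]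
    have := sum_fixCard_stabilizer (G := G) a
    have hz : ∑ g : stabilizer G a, (fixCard Ω (g : G) : ℤ) = rankAt G a * Fintype.card (stabilizer G a) := by
      exact_mod_cast this
    rw [hz, ← card_stabilizer_mul (G := G) a]
    push_cast
    ring
  have h3 : ∀ g : G, ((fixCard Ω g : ℤ) - 1) * ((fixCard Ω g : ℤ) - Fintype.card Ω)
      = (fixCard Ω g : ℤ) * fixCard Ω g - ((Fintype.card Ω : ℤ) + 1) * fixCard Ω g + Fintype.card Ω := by
    intro g; ring
  simp only [h3, Finset.sum_add_distrib, Finset.sum_sub_distrib, ← Finset.mul_sum, h1, h2,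
    Finset.sum_const, Finset.card_univ, nsmul_eq_mul]
  ring

/-- The number of derangements against the elements with fixed points. -/
theorem derangements_identity [Fintype G] [Fintype Ω] [MulAction.IsPretransitive G Ω] (a : Ω) :
    (Fintype.card Ω : ℤ) * Nat.card {g : G // ∀ ω : Ω, g • ω ≠ ω}
      = ((rankAt G a : ℤ) - 1) * Fintype.card G
        + ∑ g ∈ Finset.univ.filter (fun g : G => 0 < fixCard Ω g),
            ((fixCard Ω g : ℤ) - 1) * ((Fintype.card Ω : ℤ) - fixCard Ω g) := by
  classical
  rw [← sum_fix_quadratic (G := G) a, Nat.card_eq_fintype_card, Fintype.card_subtype]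
  rw [← Finset.sum_filter_add_sum_filter_not Finset.univ (fun g : G => 0 < fixCard Ω g)]
  have h0 : ∑ g ∈ Finset.univ.filter (fun g : G => ¬ 0 < fixCard Ω g),
      ((fixCard Ω g : ℤ) - 1) * ((fixCard Ω g : ℤ) - Fintype.card Ω)
      = (Fintype.card Ω : ℤ) * (Finset.univ.filter (fun g : G => ∀ ω : Ω, g • ω ≠ ω)).card := by
    have hs : Finset.univ.filter (fun g : G => ¬ 0 < fixCard Ω g)
        = Finset.univ.filter (fun g : G => ∀ ω : Ω, g • ω ≠ ω) :=
      Finset.filter_congr fun g _ => by rw [← fixCard_eq_zero_iff]; omega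
    rw [← hs, mul_comm, ← nsmul_eq_mul, ← Finset.sum_const]
    refine Finset.sum_congr rfl fun g hg => ?_
    have : fixCard Ω g = 0 := by have := (Finset.mem_filter.mp hg).2; omega
    simp [this]
  rw [h0, add_comm (Finset.sum _ _) ((Fintype.card Ω : ℤ) * _), add_assoc, ← Finset.sum_add_distrib,
    Finset.sum_eq_zero (fun g _ => by ring), add_zero]

end Cfsg.Agent.H96
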