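import Mathlib
import Cfsg.Agent.H96.OmegaBridge
import Cfsg.Agent.Orthogonal.Frame

set_option autoImplicit false

/-!
Over a field of order at most three the stabiliser in Ω of a hyperbolic plane fixes a
non-singular line, hence is not maximal.
-/

namespace Cfsg.Agent.H96

open QuadraticMap Module Cfsg.Agent.Orthogonal

theorem sq_eq_one_of_card_le {F : Type*} [Field F] [Fintype F] (hq : Fintype.card F ≤ 3) {a : F}
    (ha : a ≠ 0) : a = 1 ∨ a = -1 := by
  rw [← sq_eq_one_iff]
  have h1 := Fintype.one_lt_card (α := F)
  have h2 := FiniteField.pow_card_sub_one_eq_one a ha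
  rcases (by omega : Fintype.card F = 2 ∨ Fintype.card F = 3) with h | h <;> rw [h] at h2
  · rw [show a = 1 by simpa using h2, one_pow]
  · simpa using h2

variable {F : Type*} [Field F] [Fintype F] {V : Type*} [AddCommGroup V] [Module F V]

/-- The stabiliser of the line through `v`, in the form `g v = ± v`. -/
def signStab (Q : QuadraticForm F V) (v : V) : Subgroup (O Q) where
  carrier := {g | (g : V ≃ₗ[F] V) v = v ∨ (g : V ≃ₗ[F] V) v = -v}
  one_mem' := Or.inl rfl
  mul_mem' := by
    intro g h hg hh
    simp only [Set.mem_setOf_eq, Subgroup.coe_mul, mul_app] at *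
    rcases hg with hg | hg <;> rcases hh with hh | hh <;> simp [hg, hh]
  inv_mem' := by
    intro g hg
    simp only [Set.mem_setOf_eq] at *
    rcases hg with hg | hg
    · left
      conv_lhs => rw [← hg]
      exact (g : V ≃ₗ[F] V).symm_apply_apply v
    · right
      apply (g : V ≃ₗ[F] V).injective
      rw [map_neg, hg, neg_neg]
      exact (g : V ≃ₗ[F] V).apply_symm_apply v

theorem plane_stabiliser_not_maximal [FiniteDimensional F V] {Q : QuadraticForm F V} (hQ : Nondeg Q)
    (hn : 6 ≤ finrank F V) (hq : Fintype.card F ≤ 3) {e f : V} (he : Q e = 0) (hf : Q f = 0)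
    (hef : polar Q e f = 1) :
    (∀ g : O Q, (g : V ≃ₗ[F] V) (e + f) ∈ Submodule.span F {e, f} → g ∈ signStab Q (e + f)) ∧
    (∃ g ∈ commutator (O Q), g ∈ signStab Q (e + f) ∧
      (g : V ≃ₗ[F] V) e ∉ Submodule.span F {e, f}) ∧
    (∃ g ∈ commutator (O Q), g ∉ signStab Q (e + f)) := by
  have hfe : polar Q f e = 1 := by rw [polar_comm]; exact hef
  have hev : polar Q e (e + f) = 1 := by rw [polar_add_right, polar_self', he, hef]; ring
  have hfv : polar Q f (e + f) = 1 := by rw [polar_add_right, polar_self', hf, hfe]; ring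
  have hv : Q (e + f) = 1 := by rw [map_add_polar, he, hf, hef]; ring
  refine ⟨fun g hg => ?_, ?_, ?_⟩
  · obtain ⟨a, b, hab⟩ := Submodule.mem_span_pair.1 hg
    have h1 : Q ((g : V ≃ₗ[F] V) (e + f)) = 1 := by rw [O.map_app, hv]
    rw [← hab, map_add_polar, qmap_smul, qmap_smul, polar_smul_left', polar_smul_right', he, hf, hef] at h1
    have hab1 : a * b = 1 := by linear_combination h1
    rcases sq_eq_one_of_card_le hq (left_ne_zero_of_mul_eq_one hab1) with rfl | rfl
    · rw [one_mul] at hab1
      left
      rw [← hab, hab1, one_smul, one_smul]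
    · right
      rw [show b = -1 by linear_combination -hab1] at hab
      rw [← hab, neg_one_smul, neg_one_smul]
      abel
  all_goals
    have hW : Nondeg (restr Q (Submodule.span F {e, f})) := nondeg_hyperbolic_plane he hf hef
    have hW' := hQ.nondeg_perp hW
    have hdim := hQ.finrank_hyperbolic_perp he hf hef
    obtain ⟨z, hz0, hz⟩ := hW'.exists_singular (by omega)
    obtain ⟨z', hz', hzz'⟩ := hW'.exists_partner hz0 hz
    rw [restr_apply] at hz hz'
    rw [polar_restr] at hzz'
    have hz'z : polar Q (z' : V) z = 1 := by rw [polar_comm]; exact hzz'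
    obtain ⟨hez, hfz⟩ := (mem_perp_span_pair Q).1 z.2
    obtain ⟨hez', hfz'⟩ := (mem_perp_span_pair Q).1 z'.2
    have hze : polar Q (z : V) e = 0 := by rw [polar_comm]; exact hez
    have hzf : polar Q (z : V) f = 0 := by rw [polar_comm]; exact hfz
    have hz'e : polar Q (z' : V) e = 0 := by rw [polar_comm]; exact hez'
    have hz'f : polar Q (z' : V) f = 0 := by rw [polar_comm]; exact hfz'
    set a : V := z + z' with ha_def
    have ha : Q a = 1 := by rw [ha_def, map_add_polar, hz, hz', hzz']; ring
  · set c : V := e - f + z with hc_def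
    have hc : Q c = -1 := by
      rw [hc_def, map_add_polar, qmap_sub, polar_sub_left, he, hf, hef, hz, hez, hfz]; ring
    have hca : polar Q c a = 1 := by
      simp only [hc_def, ha_def, polar_add_left, polar_sub_left, polar_add_right, polar_self', hez, hez', hfz, hfz',
        hz, hzz']
      ring
    have hb : (rO Q c : V ≃ₗ[F] V) a = a + c := by
      rw [rO_app, hc, hca]; simp
    have hQb : Q (a + c) = 1 := by rw [← hb, O.map_app, ha]
    refine ⟨rO Q a * rO Q (a + c), hb ▸ rO_comm_mem Q a c, Or.inl ?_, ?_⟩
    · rw [Subgroup.coe_mul, mul_app, rO_fix (v := a + c), rO_fix (v := a)]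
      · simp only [ha_def, polar_add_left, polar_add_right, hze, hzf, hz'e, hz'f]; ring
      · simp only [ha_def, hc_def, polar_add_left, polar_sub_left, polar_add_right, polar_self', hze, hzf,
          hz'e, hz'f, he, hf, hef, hfe]
        ring
    · intro hmem
      have hbe : polar Q (a + c) e = -1 := by
        simp only [ha_def, hc_def, polar_add_left, polar_sub_left, polar_self', hze, hz'e, he, hfe]
        ring
      have hgz : polar Q (((rO Q a * rO Q (a + c) : O Q) : V ≃ₗ[F] V) e) ((rO Q a : V ≃ₗ[F] V) z) = 1 := by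
        rw [Subgroup.coe_mul, mul_app, O.polar_app, rO_app, hQb, hbe]
        simp only [ha_def, hc_def, polar_sub_left, polar_smul_left', polar_add_left, polar_self', hez, hfz, hz,
          hz'z]
        ring
      have hperp : (rO Q a : V ≃ₗ[F] V) z ∈ perp Q (Submodule.span F {e, f}) := by
        rw [rO_app]
        exact Submodule.sub_mem _ z.2 (Submodule.smul_mem _ _ (Submodule.add_mem _ z.2 z'.2))
      rw [hperp _ hmem] at hgz
      exact zero_ne_one hgz
  · have hdim' := hW'.finrank_hyperbolic_perp (u := z) (f := z') hz hz' (by rw [polar_restr]; exact hzz')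
    obtain ⟨w, hw⟩ := (hW'.nondeg_hyperbolic_perp (u := z) (f := z') hz hz' (by rw [polar_restr]; exact hzz')).exists_value
      (by omega) 1
    obtain ⟨hzw, hz'w⟩ := (mem_perp_span_pair _).1 w.2
    rw [polar_restr] at hzw hz'w
    rw [restr_apply, restr_apply] at hw
    set w' : V := ((w : perp Q (Submodule.span F {e, f})) : V) with hw'
    obtain ⟨hew, hfw⟩ := (mem_perp_span_pair Q).1 (w : perp Q (Submodule.span F {e, f})).2
    rw [← hw'] at hew hfw
    have hwe : polar Q w' e = 0 := by rw [polar_comm]; exact hew
    have hwf : polar Q w' f = 0 := by rw [polar_comm]; exact hfw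
    have hwz : polar Q w' (z : V) = 0 := by rw [polar_comm]; exact hzw
    have hwz' : polar Q w' (z' : V) = 0 := by rw [polar_comm]; exact hz'w
    set c : V := e + ((z : V) + w') with hc_def
    have hc : Q c = 1 := by
      simp only [hc_def, map_add_polar, polar_add_right, he, hz, hw, hez, hew, hzw]
      ring
    have hca : polar Q c a = 1 := by
      simp only [hc_def, ha_def, polar_add_left, polar_add_right, polar_self', hez, hez', hz, hzz', hwz, hwz']
      ring
    have hb : (rO Q c : V ≃ₗ[F] V) a = a - c := by
      rw [rO_app, hc, hca]; simp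
    have hQb : Q (a - c) = 1 := by rw [← hb, O.map_app, ha]
    refine ⟨rO Q a * rO Q (a - c), hb ▸ rO_comm_mem Q a c, ?_⟩
    have hbv : polar Q (a - c) (e + f) = -1 := by
      simp only [ha_def, hc_def, polar_sub_left, polar_add_left, polar_add_right, polar_self', he, hef, hze, hzf,
        hz'e, hz'f, hwe, hwf]
      ring
    have hfix : ∀ y, polar Q (z : V) y = 0 → polar Q (z' : V) y = 0 →
        (rO Q a : V ≃ₗ[F] V) y = y := fun y h1 h2 => rO_fix (by rw [ha_def, polar_add_left, h1, h2, add_zero])
    have hgf : polar Q (((rO Q a * rO Q (a - c) : O Q) : V ≃ₗ[F] V) (e + f)) f = 0 := by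
      have key := O.polar_app (rO Q a) ((rO Q (a - c) : V ≃ₗ[F] V) (e + f)) f
      rw [hfix f hzf hz'f] at key
      rw [Subgroup.coe_mul, mul_app, key, rO_app, hQb, hbv]
      simp only [ha_def, hc_def, polar_sub_left, polar_smul_left', polar_add_left, polar_self', hef, hf, hzf,
        hz'f, hwf]
      ring
    intro h
    rcases h with h | h <;> rw [h] at hgf
    · rw [polar_comm, hfv] at hgf; exact one_ne_zero hgf
    · rw [polar_neg_left, polar_comm, hfv, neg_eq_zero] at hgf; exact one_ne_zero hgf

end Cfsg.Agent.H96
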