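import Mathlib

set_option autoImplicit false

/-!
Independent generating sequences and the bound they give on groups of automorphisms.
-/

namespace Cfsg.Agent.H96

variable {A : Type*} [Group A]

/-- Each member is outside the subgroup generated by the earlier ones. -/
def StepSeq : (g : ℕ) → (Fin g → A) → Prop
  | 0, _ => True
  | g + 1, x => StepSeq g (x ∘ Fin.castSucc) ∧ x (Fin.last g) ∉ Subgroup.closure (Set.range (x ∘ Fin.castSucc))

theorem stepSeq_pow_le [Finite A] {q : ℕ} (hq : ∀ d, d ∣ Nat.card A → d ≠ 1 → q ≤ d) :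
    ∀ (g : ℕ) (x : Fin g → A), StepSeq g x → q ^ g ≤ Nat.card (Subgroup.closure (Set.range x)) := by
  intro g
  induction g with
  | zero => intro x _; rw [pow_zero]; exact Nat.card_pos
  | succ g ih =>
    intro x hx
    obtain ⟨h1, h2⟩ := hx
    set B := Subgroup.closure (Set.range (x ∘ Fin.castSucc)) with hB
    set C := Subgroup.closure (Set.range x) with hC
    have hle : B ≤ C := Subgroup.closure_mono (Set.range_comp_subset_range Fin.castSucc x)
    have hmul : B.relIndex C * Nat.card B = Nat.card C := by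
      rw [← Subgroup.relIndex_bot_left, ← Subgroup.relIndex_bot_left, mul_comm]
      exact Subgroup.relIndex_mul_relIndex _ _ _ bot_le hle
    have hne : B.relIndex C ≠ 1 := fun h =>
      h2 ((Subgroup.relIndex_eq_one.mp h) (Subgroup.subset_closure ⟨Fin.last g, rfl⟩))
    have hdvd : B.relIndex C ∣ Nat.card A :=
      (Dvd.intro _ hmul).trans (Subgroup.card_subgroup_dvd_card C)
    rw [pow_succ, ← hmul, mul_comm]
    exact Nat.mul_le_mul (hq _ hdvd hne) (ih _ h1)

theorem exists_stepSeq_generating [Finite A] (hq : ∀ d, d ∣ Nat.card A → d ≠ 1 → 2 ≤ d) :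
    ∃ (g : ℕ) (x : Fin g → A), StepSeq g x ∧ Subgroup.closure (Set.range x) = ⊤ := by
  by_contra hcon
  push Not at hcon
  have : ∀ g : ℕ, ∃ x : Fin g → A, StepSeq g x := by
    intro g
    induction g with
    | zero => exact ⟨Fin.elim0, trivial⟩
    | succ g ih =>
      obtain ⟨x, hx⟩ := ih
      obtain ⟨a, ha⟩ : ∃ a : A, a ∉ Subgroup.closure (Set.range x) := by
        by_contra h
        push Not at h
        exact hcon g x hx (eq_top_iff.mpr fun a _ => h a)
      refine ⟨Fin.snoc (α := fun _ => A) x a, ?_, ?_⟩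
      · rwa [Fin.snoc_comp_castSucc]
      · rwa [Fin.snoc_comp_castSucc, Fin.snoc_last]
  obtain ⟨x, hx⟩ := this (Nat.card A + 1)
  have h1 := stepSeq_pow_le hq _ x hx
  have h2 : Nat.card (Subgroup.closure (Set.range x)) ≤ Nat.card A := Finite.card_subtype_le _
  have h3 : Nat.card A + 1 < 2 ^ (Nat.card A + 1) := Nat.lt_two_pow_self
  omega

theorem stepSeq_map {g : ℕ} {x : Fin g → A} (φ : A ≃* A) (hx : StepSeq g x) : StepSeq g (φ ∘ x) := by
  induction g with
  | zero => trivial
  | succ g ih =>
    refine ⟨ih hx.1, fun h => hx.2 ?_⟩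
    have hr : Set.range ((φ ∘ x) ∘ Fin.castSucc) = φ.toMonoidHom '' Set.range (x ∘ Fin.castSucc) := by
      rw [← Set.range_comp]; rfl
    rw [hr, ← MonoidHom.map_closure] at h
    obtain ⟨a, ha, hax⟩ := h
    have : a = x (Fin.last g) := φ.injective hax
    rwa [← this]

theorem card_stepSeq_le [Finite A] (hq : ∀ d, d ∣ Nat.card A → d ≠ 1 → 2 ≤ d) :
    ∀ g : ℕ, Nat.card {x : Fin g → A // StepSeq g x} ≤ ∏ i ∈ Finset.range g, (Nat.card A - 2 ^ i) := by
  classical
  intro g
  haveI : Fintype A := Fintype.ofFinite A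
  induction g with
  | zero => simp [Nat.card_eq_fintype_card, Fintype.card_le_one_iff_subsingleton]; infer_instance
  | succ g ih =>
    rw [Finset.prod_range_succ]
    let f : {x : Fin (g + 1) → A // StepSeq (g + 1) x} →
        (Σ y : {x : Fin g → A // StepSeq g x}, {a : A // a ∉ Subgroup.closure (Set.range y.1)}) :=
      fun x => ⟨⟨x.1 ∘ Fin.castSucc, x.2.1⟩, ⟨x.1 (Fin.last g), x.2.2⟩⟩
    have hf : Function.Injective f := by
      intro x x' h
      apply Subtype.ext
      funext i
      induction i using Fin.lastCases with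
      | last =>
        have h1 := congrArg (fun s : (Σ y : {x : Fin g → A // StepSeq g x}, {a : A // a ∉ Subgroup.closure (Set.range y.1)}) => (s.2 : A)) h
        exact h1
      | cast i =>
        have h1 := congrArg (fun s : (Σ y : {x : Fin g → A // StepSeq g x}, {a : A // a ∉ Subgroup.closure (Set.range y.1)}) => s.1.1 i) h
        exact h1
    refine (Nat.card_le_card_of_injective f hf).trans ?_
    rw [Nat.card_sigma]
    refine (Finset.sum_le_card_nsmul _ _ (Nat.card A - 2 ^ g) fun y _ => ?_).trans ?_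
    · have h1 := stepSeq_pow_le hq g y.1 y.2
      have h2 : Nat.card {a : A // a ∉ Subgroup.closure (Set.range y.1)}
          = Nat.card A - Nat.card (Subgroup.closure (Set.range y.1)) := by
        rw [Nat.card_eq_fintype_card, Nat.card_eq_fintype_card, Nat.card_eq_fintype_card]
        exact Fintype.card_subtype_compl _
      omega
    · rw [Finset.card_univ, smul_eq_mul, ← Nat.card_eq_fintype_card]
      exact Nat.mul_le_mul_right _ ih

/-- A group acting faithfully by automorphisms is bounded through a generating sequence. -/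
theorem exists_aut_bound [Finite A] {B : Type*} [Group B] [Finite B] (ψ : B →* MulAut A)
    (hψ : Function.Injective ψ) {q : ℕ} (hq : ∀ d, d ∣ Nat.card A → d ≠ 1 → q ≤ d) :
    ∃ g : ℕ, q ^ g ≤ Nat.card A ∧ Nat.card B ≤ Nat.card A ^ g ∧
      Nat.card B ≤ ∏ i ∈ Finset.range g, (Nat.card A - 2 ^ i) := by
  classical
  have h2 : ∀ d, d ∣ Nat.card A → d ≠ 1 → 2 ≤ d := by
    intro d hd h1
    have : d ≠ 0 := by rintro rfl; exact Nat.card_pos.ne' (zero_dvd_iff.mp hd)
    omega
  obtain ⟨g, x, hx, hgen⟩ := exists_stepSeq_generating h2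
  refine ⟨g, ?_, ?_⟩
  · have := stepSeq_pow_le hq g x hx
    rwa [hgen, Subgroup.card_top] at this
  let f : B → {y : Fin g → A // StepSeq g y} := fun b => ⟨ψ b ∘ x, stepSeq_map (ψ b) hx⟩
  have hf : Function.Injective f := by
    intro b b' h
    apply hψ
    have h' : ∀ i, ψ b (x i) = ψ b' (x i) := fun i => congrFun (congrArg Subtype.val h) i
    have := MonoidHom.eq_of_eqOn_dense hgen (f := (ψ b).toMonoidHom) (g := (ψ b').toMonoidHom)
      (fun a ha => by obtain ⟨i, rfl⟩ := ha; exact h' i)
    exact MulEquiv.ext fun a => DFunLike.congr_fun this a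
  have h1 := Nat.card_le_card_of_injective f hf
  refine ⟨h1.trans ((Nat.card_le_card_of_injective _ Subtype.val_injective).trans ?_), h1.trans (card_stepSeq_le h2 g)⟩
  rw [Nat.card_fun, Nat.card_fin]

end Cfsg.Agent.H96
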