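import Mathlib

set_option autoImplicit false

/-!
Irredundant bases, minimal bases, and the exchange property behind the IBIS theorem.
-/

namespace Cfsg.Agent.H96

variable (G : Type*) {Ω : Type*} [Group G] [MulAction G Ω]

/-- Each point of the sequence is moved by an element fixing the earlier ones. -/
def IndepSeq {t : ℕ} (f : Fin t → Ω) : Prop :=
  ∀ i : Fin t, ∃ g : G, (∀ j : Fin t, j < i → g • f j = f j) ∧ g • f i ≠ f i

/-- The sequence has trivial pointwise stabiliser. -/
def BaseSeq {t : ℕ} (f : Fin t → Ω) : Prop :=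
  ∀ g : G, (∀ i : Fin t, g • f i = f i) → g = 1

/-- The set has trivial pointwise stabiliser. -/
def BaseSet (B : Finset Ω) : Prop :=
  ∀ g : G, (∀ x ∈ B, g • x = x) → g = 1

/-- A base none of whose points can be left out. -/
def MinBase (B : Finset Ω) : Prop :=
  BaseSet G B ∧ ∀ x ∈ B, ∃ g : G, (∀ y ∈ B, y ≠ x → g • y = y) ∧ g • x ≠ x

variable {G}

theorem IndepSeq.injective {t : ℕ} {f : Fin t → Ω} (h : IndepSeq G f) : Function.Injective f := by
  intro i j hij
  by_contra hne
  rcases lt_or_gt_of_ne hne with hlt | hlt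
  · obtain ⟨g, hg, hg'⟩ := h j
    exact hg' (hij ▸ hg i hlt)
  · obtain ⟨g, hg, hg'⟩ := h i
    exact hg' (hij ▸ hg j hlt)

theorem baseSet_image {t : ℕ} {f : Fin t → Ω} [DecidableEq Ω] :
    BaseSet G (Finset.univ.image f) ↔ BaseSeq G f := by
  simp [BaseSet, BaseSeq]

theorem MinBase.indepSeq {B : Finset Ω} (h : MinBase G B) {t : ℕ} {f : Fin t → Ω}
    (hinj : Function.Injective f) (hf : ∀ i, f i ∈ B) : IndepSeq G f := by
  intro i
  obtain ⟨g, hg, hg'⟩ := h.2 (f i) (hf i)
  exact ⟨g, fun j hj => hg (f j) (hf j) (fun e => (ne_of_lt hj) (hinj e)), hg'⟩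

/-- Every base contains a minimal base. -/
theorem exists_minBase [DecidableEq Ω] (B : Finset Ω) (hB : BaseSet G B) :
    ∃ B0 : Finset Ω, B0 ⊆ B ∧ MinBase G B0 := by
  induction B using Finset.strongInduction with
  | _ B ih =>
    by_cases hmin : ∀ x ∈ B, ∃ g : G, (∀ y ∈ B, y ≠ x → g • y = y) ∧ g • x ≠ x
    · exact ⟨B, Finset.Subset.refl B, hB, hmin⟩
    push Not at hmin
    obtain ⟨x, hx, hred⟩ := hmin
    obtain ⟨B0, h1, h2⟩ := ih (B.erase x) (Finset.erase_ssubset hx) (by
      intro g hg
      apply hB
      intro y hy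
      by_cases hyx : y = x
      · subst hyx
        exact hred g fun z hz hne => hg z (Finset.mem_erase.mpr ⟨hne, hz⟩)
      · exact hg y (Finset.mem_erase.mpr ⟨hyx, hy⟩))
    exact ⟨B0, h1.trans (Finset.erase_subset x B), h2⟩

/-- An independent sequence extends inside `range f ∪ B` to an irredundant base, for a base `B`. -/
theorem exists_extension [DecidableEq Ω] {B : Finset Ω} (hB : BaseSet G B) :
    ∀ (k : ℕ) {t : ℕ} (f : Fin t → Ω), IndepSeq G f → (B \ Finset.univ.image f).card ≤ k →
      ∃ (t' : ℕ) (f' : Fin t' → Ω), IndepSeq G f' ∧ BaseSeq G f' ∧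
        (∀ i, ∃ j, f' j = f i) ∧ ∀ j, f' j ∈ Finset.univ.image f ∪ B := by
  intro k
  induction k with
  | zero =>
    intro t f hf hcard
    refine ⟨t, f, hf, ?_, fun i => ⟨i, rfl⟩, fun j => Finset.mem_union_left _ (Finset.mem_image_of_mem _ (Finset.mem_univ j))⟩
    intro g hg
    apply hB
    intro x hx
    rw [Nat.le_zero, Finset.card_eq_zero, Finset.sdiff_eq_empty_iff_subset] at hcard
    obtain ⟨i, _, rfl⟩ := Finset.mem_image.mp (hcard hx)
    exact hg i
  | succ k ih =>
    intro t f hf hcard
    by_cases hbase : BaseSeq G f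
    · exact ⟨t, f, hf, hbase, fun i => ⟨i, rfl⟩,
        fun j => Finset.mem_union_left _ (Finset.mem_image_of_mem _ (Finset.mem_univ j))⟩
    rw [BaseSeq] at hbase
    push Not at hbase
    obtain ⟨g, hg, hg1⟩ := hbase
    obtain ⟨x, hx, hxm⟩ : ∃ x ∈ B, g • x ≠ x := by
      by_contra h
      push Not at h
      exact hg1 (hB g h)
    have hsnoc : IndepSeq G (Fin.snoc (α := fun _ => Ω) f x) := by
      intro i
      induction i using Fin.lastCases with
      | last =>
        refine ⟨g, fun j hj => ?_, by simpa using hxm⟩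
        obtain ⟨j', rfl⟩ := Fin.exists_castSucc_eq.mpr (ne_of_lt hj)
        simpa using hg j'
      | cast i =>
        obtain ⟨g', h1, h2⟩ := hf i
        refine ⟨g', fun j hj => ?_, by simpa using h2⟩
        obtain ⟨j', rfl⟩ := Fin.exists_castSucc_eq.mpr (ne_of_lt (lt_of_lt_of_le hj (Fin.le_last _)))
        simpa using h1 j' (by simpa using hj)
    have hlt : (B \ Finset.univ.image (Fin.snoc (α := fun _ => Ω) f x)).card < (B \ Finset.univ.image f).card := by
      apply Finset.card_lt_card
      rw [Finset.ssubset_iff_of_subset]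
      · refine ⟨x, Finset.mem_sdiff.mpr ⟨hx, fun h => ?_⟩, fun h => ?_⟩
        · obtain ⟨i, _, rfl⟩ := Finset.mem_image.mp h
          exact hxm (hg i)
        · exact (Finset.mem_sdiff.mp h).2 (Finset.mem_image.mpr ⟨Fin.last t, Finset.mem_univ _, Fin.snoc_last _ _⟩)
      · intro y hy
        rw [Finset.mem_sdiff] at hy ⊢
        refine ⟨hy.1, fun h => hy.2 ?_⟩
        obtain ⟨i, _, rfl⟩ := Finset.mem_image.mp h
        exact Finset.mem_image.mpr ⟨i.castSucc, Finset.mem_univ _, Fin.snoc_castSucc _ _ _⟩
    obtain ⟨t', f', h1, h2, h3, h4⟩ := ih _ hsnoc (by omega)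
    refine ⟨t', f', h1, h2, fun i => ?_, fun j => ?_⟩
    · obtain ⟨j, hj⟩ := h3 i.castSucc
      exact ⟨j, by rw [hj, Fin.snoc_castSucc]⟩
    · rcases Finset.mem_union.mp (h4 j) with h | h
      · obtain ⟨i, _, hi⟩ := Finset.mem_image.mp h
        rw [← hi]
        induction i using Fin.lastCases with
        | last => rw [Fin.snoc_last]; exact Finset.mem_union_right _ hx
        | cast i => rw [Fin.snoc_castSucc]; exact Finset.mem_union_left _ (Finset.mem_image_of_mem _ (Finset.mem_univ i))
      · exact Finset.mem_union_right _ h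

/-- An enumeration of a finite set as a sequence. -/
theorem exists_enum [DecidableEq Ω] (B : Finset Ω) :
    ∃ f : Fin B.card → Ω, Function.Injective f ∧ Finset.univ.image f = B := by
  refine ⟨fun i => (B.equivFin.symm i : Ω), fun i j h => B.equivFin.symm.injective (Subtype.ext h), ?_⟩
  ext x
  simp only [Finset.mem_image, Finset.mem_univ, true_and]
  constructor
  · rintro ⟨i, rfl⟩; exact (B.equivFin.symm i).2
  · intro hx; exact ⟨B.equivFin ⟨x, hx⟩, by simp⟩

/-- If every irredundant base has a minimal underlying set, all minimal bases have one size. -/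
theorem minBase_card_eq [DecidableEq Ω]
    (hyp : ∀ (t : ℕ) (f : Fin t → Ω), BaseSeq G f → IndepSeq G f → MinBase G (Finset.univ.image f)) :
    ∀ (k : ℕ) (B B' : Finset Ω), MinBase G B → MinBase G B' → (B \ B').card ≤ k → B.card = B'.card := by
  intro k
  induction k with
  | zero =>
    intro B B' hB hB' hk
    rw [Nat.le_zero, Finset.card_eq_zero, Finset.sdiff_eq_empty_iff_subset] at hk
    refine congrArg Finset.card (Finset.Subset.antisymm hk fun x hx => ?_)
    by_contra hxB
    obtain ⟨g, hg, hgx⟩ := hB'.2 x hx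
    have := hB.1 g fun y hy => hg y (hk hy) (fun e => hxB (e ▸ hy))
    rw [this, one_smul] at hgx
    exact hgx rfl
  | succ k ih =>
    intro B B' hB hB' hk
    rcases Finset.eq_empty_or_nonempty (B' \ B) with hemp | ⟨x, hx⟩
    · have hsub : B' ⊆ B := Finset.sdiff_eq_empty_iff_subset.mp hemp
      refine congrArg Finset.card (Finset.Subset.antisymm (fun x hx => ?_) hsub)
      by_contra hxB
      obtain ⟨g, hg, hgx⟩ := hB.2 x hx
      have := hB'.1 g fun y hy => hg y (hsub hy) (fun e => hxB (e ▸ hy))
      rw [this, one_smul] at hgx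
      exact hgx rfl
    rw [Finset.mem_sdiff] at hx
    obtain ⟨f, hfinj, hfim⟩ := exists_enum (insert x (B ∩ B'))
    have hfmem : ∀ i, f i ∈ B' := by
      intro i
      have : f i ∈ insert x (B ∩ B') := hfim ▸ Finset.mem_image_of_mem _ (Finset.mem_univ i)
      rcases Finset.mem_insert.mp this with h | h
      · exact h ▸ hx.1
      · exact (Finset.mem_inter.mp h).2
    obtain ⟨t', f', h1, h2, h3, h4⟩ := exists_extension hB.1 _ f (hB'.indepSeq hfinj hfmem) le_rfl
    set B1 := Finset.univ.image f' with hB1def
    have hB1 : MinBase G B1 := hyp t' f' h2 h1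
    have hsub1 : insert x (B ∩ B') ⊆ B1 := by
      rw [← hfim]
      intro y hy
      obtain ⟨i, _, rfl⟩ := Finset.mem_image.mp hy
      obtain ⟨j, hj⟩ := h3 i
      exact Finset.mem_image.mpr ⟨j, Finset.mem_univ j, hj⟩
    have hsub2 : ∀ y ∈ B1, y = x ∨ y ∈ B := by
      intro y hy
      obtain ⟨j, _, rfl⟩ := Finset.mem_image.mp hy
      have := h4 j
      rw [hfim, Finset.mem_union, Finset.mem_insert, Finset.mem_inter] at this
      tauto
    have hxB1 : x ∈ B1 := hsub1 (Finset.mem_insert_self _ _)
    -- exactly one point of `B` is dropped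
    obtain ⟨d, hdB, hdB1⟩ : ∃ d ∈ B, d ∉ B1 := by
      by_contra h
      push Not at h
      obtain ⟨g, hg, hgx⟩ := hB1.2 x hxB1
      have := hB.1 g fun y hy => hg y (h y hy) (fun e => hx.2 (e ▸ hy))
      rw [this, one_smul] at hgx
      exact hgx rfl
    have huniq : ∀ e ∈ B, e ∉ B1 → e = d := by
      intro e heB heB1
      by_contra hed
      obtain ⟨s, hsinj, hsim⟩ := exists_enum (B1.erase x)
      have hsmem : ∀ i, s i ∈ B ∧ s i ∈ B1 := by
        intro i
        have h : s i ∈ B1.erase x := hsim ▸ Finset.mem_image_of_mem _ (Finset.mem_univ i)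
        rw [Finset.mem_erase] at h
        exact ⟨(hsub2 _ h.2).resolve_left h.1, h.2⟩
      -- the sequence (s, e, x)
      let q : Fin ((B1.erase x).card + 1) → Ω := Fin.snoc (α := fun _ => Ω) s e
      have hqmem : ∀ i, q i ∈ B := by
        intro i
        induction i using Fin.lastCases with
        | last => simpa [q] using heB
        | cast i => simpa [q] using (hsmem i).1
      have hqinj : Function.Injective q := by
        refine Fin.snoc_injective_iff.mpr ⟨hsinj, ?_⟩
        rintro ⟨i, hi⟩
        exact heB1 (hi ▸ (hsmem i).2)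
      let p : Fin ((B1.erase x).card + 1 + 1) → Ω := Fin.snoc (α := fun _ => Ω) q x
      have hfix : ∀ g : G, (∀ i, g • q i = q i) → ∀ y ∈ B1, y ≠ x → g • y = y := by
        intro g hg y hy hyx
        have : y ∈ Finset.univ.image s := hsim.symm ▸ Finset.mem_erase.mpr ⟨hyx, hy⟩
        obtain ⟨i, _, rfl⟩ := Finset.mem_image.mp this
        simpa [q] using hg i.castSucc
      have hpb : BaseSeq G p := by
        intro g hg
        apply hB1.1
        intro y hy
        by_cases hyx : y = x
        · subst hyx; simpa [p] using hg (Fin.last _)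
        · exact hfix g (fun i => by simpa [p] using hg i.castSucc) y hy hyx
      have hpi : IndepSeq G p := by
        intro i
        induction i using Fin.lastCases with
        | last =>
          obtain ⟨g, hg, hgd⟩ := hB.2 d hdB
          have hq : ∀ i, g • q i = q i := by
            intro i
            refine hg _ (hqmem i) ?_
            induction i using Fin.lastCases with
            | last => simpa [q] using hed
            | cast i =>
              intro h
              simp only [q, Fin.snoc_castSucc] at h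
              exact hdB1 (h ▸ (hsmem i).2)
          refine ⟨g, fun j hj => ?_, ?_⟩
          · obtain ⟨j', rfl⟩ := Fin.exists_castSucc_eq.mpr (ne_of_lt hj)
            simpa [p] using hq j'
          · simp only [p, Fin.snoc_last]
            intro hgx
            have := hB1.1 g fun y hy => by
              by_cases hyx : y = x
              · exact hyx ▸ hgx
              · exact hfix g hq y hy hyx
            rw [this, one_smul] at hgd
            exact hgd rfl
        | cast i =>
          obtain ⟨g, h1', h2'⟩ := hB.indepSeq hqinj hqmem i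
          refine ⟨g, fun j hj => ?_, by simpa [p] using h2'⟩
          obtain ⟨j', rfl⟩ := Fin.exists_castSucc_eq.mpr (ne_of_lt (lt_of_lt_of_le hj (Fin.le_last _)))
          simpa [p] using h1' j' (by simpa using hj)
      obtain ⟨g, hg, hge⟩ := (hyp _ p hpb hpi).2 e
        (Finset.mem_image.mpr ⟨(Fin.last _).castSucc, Finset.mem_univ _, by simp [p, q]⟩)
      have : g = 1 := hB1.1 g fun y hy => by
        refine hg y ?_ (fun h => heB1 (h ▸ hy))
        by_cases hyx : y = x
        · subst hyx; exact Finset.mem_image.mpr ⟨Fin.last _, Finset.mem_univ _, by simp [p]⟩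
        · have : y ∈ Finset.univ.image s := hsim.symm ▸ Finset.mem_erase.mpr ⟨hyx, hy⟩
          obtain ⟨i, _, rfl⟩ := Finset.mem_image.mp this
          exact Finset.mem_image.mpr ⟨i.castSucc.castSucc, Finset.mem_univ _, by simp [p, q]⟩
      rw [this, one_smul] at hge
      exact hge rfl
    have hB1eq : B1 = insert x (B.erase d) := by
      ext y
      simp only [Finset.mem_insert, Finset.mem_erase]
      constructor
      · intro hy
        rcases hsub2 y hy with h | h
        · exact Or.inl h
        · exact Or.inr ⟨fun e => hdB1 (e ▸ hy), h⟩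
      · rintro (rfl | ⟨hne, hy⟩)
        · exact hxB1
        · by_contra hc
          exact hne (huniq y hy hc)
    have hdB' : d ∉ B' := fun h => hdB1 (hsub1 (Finset.mem_insert_of_mem (Finset.mem_inter.mpr ⟨hdB, h⟩)))
    have hcard1 : B1.card = B.card := by
      rw [hB1eq, Finset.card_insert_of_notMem (fun h => hx.2 (Finset.mem_of_mem_erase h)),
        Finset.card_erase_of_mem hdB]
      have := Finset.card_pos.mpr ⟨d, hdB⟩
      omega
    rw [← hcard1]
    refine ih B1 B' hB1 hB' ?_
    have hlt : (B1 \ B').card < (B \ B').card := by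
      apply Finset.card_lt_card
      rw [Finset.ssubset_iff_of_subset]
      · exact ⟨d, Finset.mem_sdiff.mpr ⟨hdB, hdB'⟩, fun h => hdB1 (Finset.mem_sdiff.mp h).1⟩
      · intro y hy
        rw [Finset.mem_sdiff] at hy ⊢
        refine ⟨(hsub2 y hy.1).resolve_left ?_, hy.2⟩
        rintro rfl
        exact hy.2 hx.1
    omega

end Cfsg.Agent.H96
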