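import Mathlib

set_option autoImplicit false

/-!
The numerical inequalities used for the composition length of primitive groups.
-/

namespace Cfsg.Agent.H96

theorem numeric_abelian_aux : ∀ L : ℕ, 5 ≤ L → 3 * (L * (L + 2)) + 4 ≤ 4 * 2 ^ L := by
  intro L hL
  induction L, hL using Nat.le_induction with
  | base => norm_num
  | succ L hL ih =>
    rw [pow_succ]
    nlinarith [Nat.mul_le_mul hL hL]

theorem numeric_nonabelian_aux : ∀ L : ℕ, 8 ≤ L → 3 * ((2 * L + 1) * (2 * L + 3)) + 4 ≤ 4 * 2 ^ L := by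
  intro L hL
  induction L, hL using Nat.le_induction with
  | base => norm_num
  | succ L hL ih =>
    rw [pow_succ]
    nlinarith [Nat.mul_le_mul hL hL]

/-- Crude bound for a large regular abelian normal subgroup. -/
theorem numeric_abelian {n g a b B : ℕ} (hn : 32 ≤ n) (ha : 2 ^ a ≤ n) (hg : 2 ^ g ≤ n) (hB : B ≤ n ^ g)
    (hb : 2 ^ b ≤ B) : 3 * (a + b) + 4 ≤ 4 * n := by
  set L := Nat.log 2 n
  have hL5 : 5 ≤ L := Nat.le_log_of_pow_le (by norm_num) (by norm_num; exact hn)
  have hlt : n < 2 ^ (L + 1) := Nat.lt_pow_succ_log_self (by norm_num) n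
  have hge : 2 ^ L ≤ n := Nat.pow_log_le_self 2 (by omega)
  have ha' : a ≤ L := Nat.le_log_of_pow_le (by norm_num) ha
  have hg' : g ≤ L := Nat.le_log_of_pow_le (by norm_num) hg
  have hb' : b ≤ (L + 1) * g := by
    refine (Nat.pow_le_pow_iff_right (by norm_num : 1 < 2)).mp ?_
    rw [pow_mul]
    exact hb.trans (hB.trans (Nat.pow_le_pow_left hlt.le g))
  have hb'' : b ≤ (L + 1) * L := hb'.trans (Nat.mul_le_mul_left _ hg')
  have := numeric_abelian_aux L hL5
  nlinarith

/-- Crude bound for a non-abelian minimal normal subgroup of order at most `n^2`. -/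
theorem numeric_nonabelian {n c g a b B : ℕ} (hn : 256 ≤ n) (hc : c ≤ n * n) (ha : 2 ^ a ≤ c) (hg : 2 ^ g ≤ c)
    (hB : B ≤ c ^ g) (hb : 2 ^ b ≤ B) : 3 * (a + b) + 4 ≤ 4 * n := by
  set L := Nat.log 2 n
  have hL8 : 8 ≤ L := Nat.le_log_of_pow_le (by norm_num) (by norm_num; exact hn)
  have hlt : n < 2 ^ (L + 1) := Nat.lt_pow_succ_log_self (by norm_num) n
  have hge : 2 ^ L ≤ n := Nat.pow_log_le_self 2 (by omega)
  have hc' : c < 2 ^ (2 * L + 2) := by
    rw [show 2 * L + 2 = (L + 1) + (L + 1) by ring, pow_add]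
    exact lt_of_le_of_lt hc (Nat.mul_lt_mul_of_lt_of_le hlt hlt.le (by positivity))
  have ha' : a ≤ 2 * L + 1 := Nat.lt_succ_iff.mp ((Nat.pow_lt_pow_iff_right (by norm_num)).mp (lt_of_le_of_lt ha hc'))
  have hg' : g ≤ 2 * L + 1 := Nat.lt_succ_iff.mp ((Nat.pow_lt_pow_iff_right (by norm_num)).mp (lt_of_le_of_lt hg hc'))
  have hb' : b ≤ (2 * L + 2) * g := by
    refine (Nat.pow_le_pow_iff_right (by norm_num : 1 < 2)).mp ?_
    rw [pow_mul]
    exact hb.trans (hB.trans (Nat.pow_le_pow_left hc'.le g))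
  have hb'' : b ≤ (2 * L + 2) * (2 * L + 1) := hb'.trans (Nat.mul_le_mul_left _ hg')
  have := numeric_nonabelian_aux L hL8
  nlinarith

theorem le_log_exp {b m : ℕ} {B : ℕ} (hb : 2 ^ b ≤ B) (hB : B < 2 ^ (m + 1)) : b ≤ m :=
  Nat.lt_succ_iff.mp ((Nat.pow_lt_pow_iff_right (by norm_num)).mp (lt_of_le_of_lt hb hB))

/-- The small affine degrees. -/
theorem numeric_small {n p k g a b B : ℕ} (hp : p.Prime) (hk : 2 ≤ k) (hn : n = p ^ k) (hn32 : n < 32)
    (ha : a ≤ k) (hg : g ≤ k) (hprod : B ≤ ∏ i ∈ Finset.range g, (n - 2 ^ i))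
    (hb : 2 ^ b ≤ B) (hb' : B = 2 ^ b ∨ 3 * 2 ^ b ≤ 2 * B) (hB : B ∣ (n - 1).factorial) :
    3 * (a + b) + 4 ≤ 4 * n := by
  have hk5 : k ≤ 4 := by
    by_contra h
    have : 2 ^ 5 ≤ p ^ k := (Nat.pow_le_pow_left hp.two_le 5).trans (Nat.pow_le_pow_right hp.pos (by omega))
    omega
  have hp5 : p ≤ 5 := by
    by_contra h
    have : 6 ^ 2 ≤ p ^ k := (Nat.pow_le_pow_left (by omega : 6 ≤ p) 2).trans (Nat.pow_le_pow_right hp.pos hk)
    omega
  have hp2 := hp.two_le
  have hBpos : 0 < B := lt_of_lt_of_le (pow_pos (by norm_num) b) hb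
  interval_cases p <;> interval_cases k <;> norm_num at hn <;> subst n <;> (try omega) <;> (try norm_num at hp)
  all_goals interval_cases g <;> norm_num [Finset.prod_range_succ] at hprod
  all_goals (try (have := le_log_exp (m := 0) hb (by omega); omega))
  all_goals (try (have := le_log_exp (m := 2) hb (by omega); omega))
  all_goals (try (have := le_log_exp (m := 5) hb (by omega); omega))
  all_goals (try (have := le_log_exp (m := 9) hb (by omega); omega))
  all_goals (try (have := le_log_exp (m := 14) hb (by omega); omega))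
  all_goals (
    -- degree eight
    have hb7 : b ≤ 7 := le_log_exp hb (by omega)
    rcases (by omega : b ≤ 6 ∨ b = 7) with h6 | rfl
    · omega
    · rcases hb' with h | h
      · subst h; exact absurd hB (by decide)
      · norm_num at h; omega)

end Cfsg.Agent.H96
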