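import Mathlib
import Cfsg.Agent.H96.MinimalFactors

set_option autoImplicit false

/-!
Subgroups of a product of simple groups that map onto every factor and meet every factor trivially.
-/

namespace Cfsg.Agent.H96

open scoped Pointwise

namespace SimpleFactors

variable {G : Type*} [Group G] [Finite G] {N : Subgroup G} (F : SimpleFactors N)

/-- The product of the factors other than `T`. -/
noncomputable def others (T : Subgroup G) : Subgroup G :=
  open scoped Classical in (F.s.erase T).sup id

theorem others_le (T : Subgroup G) : F.others T ≤ N := by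
  classical
  exact (Finset.sup_mono (Finset.erase_subset _ _)).trans F.sup_eq.le

theorem others_le_centralizer {T : Subgroup G} (hT : T ∈ F.s) :
    F.others T ≤ Subgroup.centralizer (T : Set G) := by
  classical
  exact sup_erase_le_centralizer F (Finset.erase_subset _ _) hT (Finset.notMem_erase _ _)

theorem inf_others {T : Subgroup G} (hT : T ∈ F.s) : T ⊓ F.others T = ⊥ := by
  classical
  exact inf_sup_eq_bot F (Finset.erase_subset _ _) hT (Finset.notMem_erase _ _)

theorem sup_others {T : Subgroup G} (hT : T ∈ F.s) : T ⊔ F.others T = N := by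
  classical
  refine Eq.trans ?_ F.sup_eq
  conv_rhs => rw [← Finset.insert_erase hT, Finset.sup_insert]
  rfl

theorem le_others {T U : Subgroup G} (hU : U ∈ F.s) (h : U ≠ T) : U ≤ F.others T := by
  classical
  exact Finset.le_sup (f := id) (Finset.mem_erase.mpr ⟨h, hU⟩)

theorem exists_decomp {T : Subgroup G} (hT : T ∈ F.s) {x : G} (hx : x ∈ N) :
    ∃ u ∈ T, ∃ v ∈ F.others T, x = u * v := by
  rw [← F.sup_others hT] at hx
  have hset : (↑(T ⊔ F.others T) : Set G) = (T : Set G) * (F.others T : Set G) :=
    Subgroup.coe_mul_of_right_le_normalizer_left T (F.others T)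
      ((F.others_le_centralizer hT).trans (Subgroup.centralizer_le_normalizer _))
  have hx' : x ∈ (↑(T ⊔ F.others T) : Set G) := hx
  rw [hset] at hx'
  obtain ⟨u, hu, v, hv, rfl⟩ := Set.mem_mul.mp hx'
  exact ⟨u, hu, v, hv, rfl⟩

theorem eq_one_of_forall_others {x : G} (hx : x ∈ N) (h : ∀ T ∈ F.s, x ∈ F.others T) : x = 1 := by
  classical
  have key : ∀ t : Finset (Subgroup G), t ⊆ F.s → x ∈ t.sup id → x = 1 := by
    intro t ht
    induction t using Finset.induction_on with
    | empty => intro hx; simpa using hx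
    | insert T t hT ih =>
      rw [Finset.insert_subset_iff] at ht
      intro hx
      refine ih ht.2 ?_
      rw [Finset.sup_insert, id_eq] at hx
      have hset : (↑(T ⊔ t.sup id) : Set G) = (T : Set G) * ((t.sup id : Subgroup G) : Set G) :=
        Subgroup.coe_mul_of_right_le_normalizer_left T (t.sup id)
          ((sup_erase_le_centralizer F ht.2 ht.1 hT).trans (Subgroup.centralizer_le_normalizer _))
      have hx' : x ∈ (↑(T ⊔ t.sup id) : Set G) := hx
      rw [hset] at hx'
      obtain ⟨u, hu, v, hv, huv⟩ := Set.mem_mul.mp hx'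
      have hv' : v ∈ F.others T := by
        refine (Finset.sup_le fun U hU => ?_ : t.sup id ≤ F.others T) hv
        exact F.le_others (ht.2 hU) (fun e => hT (e ▸ hU))
      have hu' : u ∈ T ⊓ F.others T := by
        refine Subgroup.mem_inf.mpr ⟨hu, ?_⟩
        have := mul_mem (h T ht.1) (inv_mem hv')
        rwa [← huv, mul_inv_cancel_right] at this
      rw [F.inf_others ht.1, Subgroup.mem_bot] at hu'
      rw [← huv, hu', one_mul]
      exact hv
  exact key F.s (Finset.Subset.refl _) (F.sup_eq.symm ▸ hx)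

/-- A subgroup onto every factor and meeting every factor trivially is small. -/
theorem subdirect_bound {c : ℕ} (hc : ∀ T ∈ F.s, Nat.card T = c) (A : Subgroup G) (hAN : A ≤ N)
    (hsurj : ∀ T ∈ F.s, A ⊔ F.others T = N) (htriv : ∀ T ∈ F.s, A ⊓ T = ⊥) :
    ∃ r : ℕ, 2 * r ≤ F.s.card ∧ Nat.card A ≤ c ^ r := by
  classical
  let K : Subgroup G → Subgroup A := fun T => (F.others T).subgroupOf A
  have hnormN : ∀ T ∈ F.s, ∀ u ∈ N, ∀ v ∈ F.others T, u * v * u⁻¹ ∈ F.others T := by
    intro T hT u hu v hv
    obtain ⟨t, ht, w, hw, rfl⟩ := F.exists_decomp hT hu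
    have h1 : w * v * w⁻¹ ∈ F.others T := mul_mem (mul_mem hw hv) (inv_mem hw)
    have h2 : t * (w * v * w⁻¹) = (w * v * w⁻¹) * t :=
      Subgroup.mem_centralizer_iff.mp (F.others_le_centralizer hT h1) t ht
    rw [show t * w * v * (t * w)⁻¹ = t * (w * v * w⁻¹) * t⁻¹ by group, h2, mul_inv_cancel_right]
    exact h1
  -- the maps onto the factors
  have hφ : ∀ T ∈ F.s, ∃ φ : A →* T, Function.Surjective φ ∧ φ.ker = K T := by
    intro T hT
    have hcm : ∀ (a : T) (b : F.others T), Commute (a : G) (b : G) := fun a b =>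
      Subgroup.mem_centralizer_iff.mp (F.others_le_centralizer hT b.2) _ a.2
    have huniq : ∀ u ∈ T, ∀ v ∈ F.others T, ∀ u' ∈ T, ∀ v' ∈ F.others T, u * v = u' * v' → u = u' := by
      intro u hu v hv u' hu' v' hv' h
      have h1 : u'⁻¹ * u = v' * v⁻¹ := by
        rw [eq_mul_inv_iff_mul_eq, mul_assoc, h, inv_mul_cancel_left]
      have h2 : u'⁻¹ * u ∈ T ⊓ F.others T :=
        Subgroup.mem_inf.mpr ⟨mul_mem (inv_mem hu') hu, h1 ▸ mul_mem hv' (inv_mem hv)⟩
      rw [F.inf_others hT, Subgroup.mem_bot, inv_mul_eq_one] at h2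
      exact h2.symm
    choose u hu v hv huv using fun a : A => F.exists_decomp hT (hAN a.2)
    let φ : A →* T :=
      { toFun := fun a => ⟨u a, hu a⟩
        map_one' := Subtype.ext (huniq _ (hu 1) _ (hv 1) 1 (one_mem T) 1 (one_mem _) (by rw [← huv, one_mul]; rfl))
        map_mul' := fun a b => Subtype.ext (by
          refine huniq (u (a * b)) (hu _) (v (a * b)) (hv _) (u a * u b) (mul_mem (hu a) (hu b)) (v a * v b) (mul_mem (hv a) (hv b)) ?_
          have hc' : u b * v a = v a * u b := hcm ⟨_, hu b⟩ ⟨_, hv a⟩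
          calc u (a * b) * v (a * b) = (a : G) * b := (huv (a * b)).symm
            _ = u a * (v a * u b) * v b := by rw [huv a, huv b]; group
            _ = u a * u b * (v a * v b) := by rw [← hc']; group) }
    refine ⟨φ, fun t => ?_, ?_⟩
    · have ht : (t : G) ∈ N := F.le T hT t.2
      rw [← hsurj T hT] at ht
      have hset : (↑(A ⊔ F.others T) : Set G) = (A : Set G) * (F.others T : Set G) := by
        refine Subgroup.coe_mul_of_left_le_normalizer_right A (F.others T) fun a ha => ?_
        rw [Subgroup.mem_normalizer_iff]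
        intro y
        refine ⟨hnormN T hT a (hAN ha) y, fun hy => ?_⟩
        simpa [mul_assoc] using hnormN T hT a⁻¹ (inv_mem (hAN ha)) _ hy
      have ht' : (t : G) ∈ (↑(A ⊔ F.others T) : Set G) := ht
      rw [hset] at ht'
      obtain ⟨a, ha, w, hw, haw⟩ := Set.mem_mul.mp ht'
      refine ⟨⟨a, ha⟩, Subtype.ext ?_⟩
      refine huniq _ (hu _) (v ⟨a, ha⟩ * w) (mul_mem (hv _) hw) _ t.2 1 (one_mem _) ?_
      rw [← mul_assoc, ← huv, mul_one]
      exact haw
    · ext a
      rw [MonoidHom.mem_ker, Subtype.ext_iff]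
      show u a = 1 ↔ (a : G) ∈ F.others T
      constructor
      · intro h
        rw [huv a, h, one_mul]
        exact hv a
      · intro h
        exact huniq _ (hu a) _ (hv a) 1 (one_mem T) _ h (by rw [← huv, one_mul])
  have hKidx : ∀ T ∈ F.s, (K T).index = c := by
    intro T hT
    obtain ⟨φ, hs, hk⟩ := hφ T hT
    rw [← hk, Subgroup.index_ker, MonoidHom.range_eq_top.mpr hs, Subgroup.card_top, hc T hT]
  -- intersections of other kernels are not contained in a kernel
  have hkey : ∀ T ∈ F.s, ∀ t : Finset (Subgroup G), t ⊆ F.s → (∀ U ∈ t, K U ≠ K T) → ¬ t.inf K ≤ K T := by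
    intro T hT t
    obtain ⟨φ, hs, hk⟩ := hφ T hT
    haveI := F.simple T hT
    induction t using Finset.induction_on with
    | empty =>
      intro _ _ h
      rw [Finset.inf_empty, top_le_iff, ← hk, MonoidHom.ker_eq_top_iff] at h
      obtain ⟨x, hx⟩ := exists_ne (1 : T)
      obtain ⟨a, rfl⟩ := hs x
      exact hx (by rw [h]; rfl)
    | insert U t hUt ih =>
      intro ht hne hle
      rw [Finset.insert_subset_iff] at ht
      rw [Finset.inf_insert] at hle
      have hU : ¬ K U ≤ K T := by
        intro h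
        refine hne U (Finset.mem_insert_self _ _) (Subgroup.eq_of_le_of_card_ge h ?_)
        have h1 := (K U).card_mul_index
        have h2 := (K T).card_mul_index
        rw [hKidx U ht.1, ← h2, hKidx T hT] at h1
        refine (Nat.eq_of_mul_eq_mul_right ?_ h1).ge
        rw [← hc T hT]; exact Nat.card_pos
      have hB : ¬ t.inf K ≤ K T := ih ht.2 fun V hV => hne V (Finset.mem_insert_of_mem hV)
      have hnormK : ∀ V ∈ F.s, (K V).Normal := fun V hV => by
        obtain ⟨ψ, -, hψ⟩ := hφ V hV
        rw [← hψ]; infer_instance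
      have htop : ∀ B : Subgroup A, B.Normal → ¬ B ≤ K T → B.map φ = ⊤ := by
        intro B hBn hnle
        refine (IsSimpleGroup.eq_bot_or_eq_top_of_normal _ (hBn.map φ hs)).resolve_left fun h => hnle ?_
        rw [Subgroup.map_eq_bot_iff, hk] at h
        exact h
      have hBn : (t.inf K).Normal := by
        refine Finset.inf_induction (inferInstance : (⊤ : Subgroup A).Normal)
          (fun a ha b hb => @Subgroup.normal_inf_normal _ _ a b ha hb) fun V hV => hnormK V (ht.2 hV)
      apply F.nonabelian T hT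
      refine ⟨⟨fun x y => ?_⟩⟩
      obtain ⟨a, ha, rfl⟩ := (htop _ (hnormK U ht.1) hU).ge (Subgroup.mem_top x)
      obtain ⟨b, hb, rfl⟩ := (htop _ hBn hB).ge (Subgroup.mem_top y)
      have hcmem : a * b * a⁻¹ * b⁻¹ ∈ K T := by
        refine hle (Subgroup.mem_inf.mpr ⟨?_, ?_⟩)
        · rw [mul_assoc, mul_assoc, ← mul_assoc b]
          exact mul_mem ha ((hnormK U ht.1).conj_mem _ (inv_mem ha) b)
        · exact mul_mem (hBn.conj_mem b hb a) (inv_mem hb)
      rw [← hk, MonoidHom.mem_ker, map_mul, map_mul, map_mul, map_inv, map_inv] at hcmem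
      exact mul_inv_eq_iff_eq_mul.mp (mul_inv_eq_one.mp hcmem)
  have hinfbot : F.s.inf K = ⊥ := by
    rw [eq_bot_iff]
    intro a ha
    rw [Subgroup.mem_bot]
    apply Subtype.ext
    exact F.eq_one_of_forall_others (hAN a.2) fun T hT => Finset.inf_le (f := K) hT ha
  have hfib : ∀ T ∈ F.s, ∃ U ∈ F.s, U ≠ T ∧ K U = K T := by
    intro T hT
    by_contra hcon
    push Not at hcon
    have h1 := hkey T hT (F.s.erase T) (Finset.erase_subset _ _)
      fun U hU => hcon U (Finset.mem_of_mem_erase hU) (Finset.ne_of_mem_erase hU)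
    obtain ⟨a, ha, hna⟩ := SetLike.not_le_iff_exists.mp h1
    apply hna
    obtain ⟨u, hu, v, hv, huv⟩ := F.exists_decomp hT (hAN a.2)
    have hv1 : v = 1 := by
      refine F.eq_one_of_forall_others (F.others_le T hv) fun U hU => ?_
      by_cases hUT : U = T
      · rw [hUT]; exact hv
      have h2 : (a : G) ∈ F.others U := Finset.inf_le (f := K) (Finset.mem_erase.mpr ⟨hUT, hU⟩) ha
      have h3 := mul_mem (inv_mem (F.le_others hT (Ne.symm hUT) hu)) h2
      rwa [huv, inv_mul_cancel_left] at h3
    rw [hv1, mul_one] at huv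
    have h4 : (a : G) ∈ A ⊓ T := Subgroup.mem_inf.mpr ⟨a.2, huv ▸ hu⟩
    rw [htriv T hT, Subgroup.mem_bot] at h4
    show (a : G) ∈ F.others T
    rw [h4]; exact one_mem _
  set R := F.s.image K with hR
  refine ⟨R.card, ?_, ?_⟩
  · have h1 : ∀ y ∈ R, 2 ≤ (F.s.filter fun T => K T = y).card := by
      intro y hy
      obtain ⟨T, hT, rfl⟩ := Finset.mem_image.mp hy
      obtain ⟨U, hU, hUT, hKU⟩ := hfib T hT
      exact Finset.one_lt_card.mpr ⟨U, Finset.mem_filter.mpr ⟨hU, hKU⟩, T, Finset.mem_filter.mpr ⟨hT, rfl⟩, hUT⟩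
    have h2 := Finset.card_nsmul_le_sum R (fun y => (F.s.filter fun T => K T = y).card) 2 h1
    rw [← Finset.card_eq_sum_card_fiberwise fun T hT => Finset.mem_image_of_mem K hT, smul_eq_mul] at h2
    omega
  · have h1 : ∀ t : Finset (Subgroup A), t ⊆ R → (t.inf id).index ≤ c ^ t.card := by
      intro t ht
      induction t using Finset.induction_on with
      | empty => simp
      | insert B t hBt ih =>
        rw [Finset.insert_subset_iff] at ht
        obtain ⟨T, hT, rfl⟩ := Finset.mem_image.mp ht.1
        rw [Finset.inf_insert, Finset.card_insert_of_notMem hBt, pow_succ, mul_comm]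
        refine Subgroup.index_inf_le.trans ?_
        rw [id_eq, hKidx T hT]
        exact Nat.mul_le_mul_left _ (ih ht.2)
    have h2 := h1 R (Finset.Subset.refl _)
    rw [hR, Finset.inf_image, Function.id_comp, hinfbot, Subgroup.index_bot] at h2
    exact h2

end SimpleFactors

end Cfsg.Agent.H96
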