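import Mathlib
import Cfsg.Agent.H96.Subdirect
import Cfsg.Agent.H96.GenCount
import Cfsg.Agent.H96.LengthNumeric

set_option autoImplicit false

/-!
The composition length of a primitive permutation group in terms of a point stabiliser.
-/

namespace Cfsg.Agent.H96

open MulAction

theorem clen_le_of_prime_pow (G : Type*) [Group G] [Finite G] {p k : ℕ} (hp : p.Prime)
    (hc : Nat.card G = p ^ k) : clen G ≤ k := by
  obtain ⟨H, h0, hl, hcn⟩ := seriesLen_clen G
  have key : ∀ i : Fin (clen G + 1), ∃ e, (i : ℕ) ≤ e ∧ Nat.card (H i) = p ^ e := by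
    intro i
    induction i using Fin.induction with
    | zero => exact ⟨0, le_rfl, by rw [h0, Subgroup.card_bot, pow_zero]⟩
    | succ i ih =>
      obtain ⟨e, he, hce⟩ := ih
      obtain ⟨f, -, hf⟩ := (Nat.dvd_prime_pow hp).mp (hc ▸ Subgroup.card_subgroup_dvd_card (H i.succ))
      refine ⟨f, ?_, hf⟩
      have h1 : Nat.card (H i.castSucc) < Nat.card (H i.succ) := by
        refine lt_of_le_of_ne (Subgroup.card_le_of_le (hcn i).1.le) fun h2 => ?_
        exact (hcn i).1.ne (Subgroup.eq_of_le_of_card_ge (hcn i).1.le h2.ge)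
      rw [hce, hf, Nat.pow_lt_pow_iff_right hp.one_lt] at h1
      simp only [Fin.val_succ, Fin.val_castSucc] at *
      omega
  obtain ⟨e, he, hce⟩ := key (Fin.last _)
  rw [hl, Subgroup.card_top, hc] at hce
  rw [Nat.pow_right_injective hp.two_le hce]
  simpa using he

variable {Ω : Type*} [Finite Ω] {K : Subgroup (Equiv.Perm Ω)}

/-- In a transitive normal subgroup, an element fixing a point and centralising it is trivial. -/
theorem eq_one_of_fix_of_commute {N : Subgroup K} [IsPretransitive N Ω] {a : Ω} {s : K}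
    (hs : s • a = a) (hc : ∀ m ∈ N, s * m = m * s) : s = 1 := by
  apply Subtype.ext
  refine Equiv.ext fun x => ?_
  obtain ⟨m, rfl⟩ := exists_smul_eq N a x
  show (s : K) • ((m : K) • a) = (m : K) • a
  rw [smul_smul, hc m m.2, ← smul_smul, hs]

/-- The conjugation action of a point stabiliser on a transitive normal subgroup. -/
theorem exists_conj_hom (N : Subgroup K) [N.Normal] [IsPretransitive N Ω] (a : Ω) :
    ∃ ψ : stabilizer K a →* MulAut N, Function.Injective ψ := by
  refine ⟨(MulAut.conjNormal (H := N)).comp (stabilizer K a).subtype, ?_⟩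
  rw [← MonoidHom.ker_eq_bot_iff, eq_bot_iff]
  intro s hs
  rw [Subgroup.mem_bot]
  refine Subtype.ext (eq_one_of_fix_of_commute (N := N) (a := a) s.2 fun m hm => ?_)
  have h1 := congrArg (fun e : MulAut N => ((e ⟨m, hm⟩ : N) : K)) (MonoidHom.mem_ker.mp hs)
  simp only [MonoidHom.comp_apply, Subgroup.coe_subtype, MulAut.conjNormal_apply, MulAut.one_apply] at h1
  exact mul_inv_eq_iff_eq_mul.mp h1

theorem card_stabilizer_dvd_factorial (a : Ω) :
    Nat.card (stabilizer K a) ∣ (Nat.card Ω - 1).factorial := by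
  classical
  haveI : Fintype Ω := Fintype.ofFinite Ω
  let f : stabilizer K a →* Equiv.Perm {x : Ω // x ≠ a} :=
    { toFun := fun s => Equiv.Perm.subtypePerm ((s : K) : Equiv.Perm Ω) (fun x => by
        constructor
        · intro hx h
          apply hx
          rw [h]
          exact s.2
        · intro hx h
          apply hx
          have h2 : ((s : K) : Equiv.Perm Ω) a = a := s.2
          exact ((s : K) : Equiv.Perm Ω).injective (h.trans h2.symm))
      map_one' := Equiv.ext fun x => rfl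
      map_mul' := fun s t => Equiv.ext fun x => rfl }
  have hf : Function.Injective f := by
    intro s t h
    apply Subtype.ext
    apply Subtype.ext
    refine Equiv.ext fun x => ?_
    by_cases hx : x = a
    · subst hx
      have h1 : ((s : K) : Equiv.Perm Ω) x = x := s.2
      have h2 : ((t : K) : Equiv.Perm Ω) x = x := t.2
      rw [h1, h2]
    · exact congrArg Subtype.val (Equiv.Perm.congr_fun h ⟨x, hx⟩)
  have h := Subgroup.card_dvd_of_injective f hf
  have hc : Nat.card {x : Ω // x ≠ a} = Nat.card Ω - 1 := by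
    rw [Nat.card_eq_fintype_card, Nat.card_eq_fintype_card, Fintype.card_subtype_compl]
    simp
  rwa [Nat.card_perm, hc] at h

/-- The counting identity coming from a transitive normal subgroup. -/
theorem clen_transitive_split (N : Subgroup K) [N.Normal] [IsPretransitive N Ω] (a : Ω) :
    clen K + clen ↥(N ⊓ stabilizer K a : Subgroup K) = clen N + clen (stabilizer K a) := by
  set S := stabilizer K a
  let θ := (QuotientGroup.mk' N).comp S.subtype
  have hsur : Function.Surjective θ := by
    intro q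
    obtain ⟨k, rfl⟩ := QuotientGroup.mk'_surjective N q
    obtain ⟨m, hm⟩ := exists_smul_eq N a (k • a)
    have hmem : (m : K)⁻¹ * k ∈ S := by
      rw [mem_stabilizer_iff, mul_smul, inv_smul_eq_iff]
      exact hm.symm
    refine ⟨⟨_, hmem⟩, ?_⟩
    show (((m : K)⁻¹ * k : K) : K ⧸ N) = (k : K ⧸ N)
    rw [QuotientGroup.mk_mul, QuotientGroup.mk_inv, (QuotientGroup.eq_one_iff (N := N) (m : K)).mpr m.2,
      inv_one, one_mul]
  have hk : θ.ker = N.subgroupOf S := by
    ext x
    rw [MonoidHom.mem_ker, Subgroup.mem_subgroupOf]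
    exact QuotientGroup.eq_one_iff (N := N) (x : K)
  have h1 := clen_eq_ker_add_range θ
  rw [hk, MonoidHom.range_eq_top.mpr hsur, clen_congr Subgroup.topEquiv] at h1
  have h2 : clen (N.subgroupOf S) = clen ↥(N ⊓ S : Subgroup K) := by
    rw [← Subgroup.inf_subgroupOf_right]
    exact clen_congr (Subgroup.subgroupOfEquivOfLe inf_le_right)
  have h3 := clen_eq_add K N
  omega

theorem card_transitive_normal (N : Subgroup K) [IsPretransitive N Ω] (a : Ω) :
    Nat.card N = Nat.card Ω * Nat.card ↥(N ⊓ stabilizer K a : Subgroup K) := by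
  have h1 := (stabilizer N a).card_mul_index
  rw [index_stabilizer_of_transitive] at h1
  have h2 : Nat.card (stabilizer N a) = Nat.card ↥(N ⊓ stabilizer K a : Subgroup K) :=
    Nat.card_congr
      { toFun := fun x => ⟨((x : N) : K), (x : N).2, x.2⟩
        invFun := fun y => ⟨⟨(y : K), y.2.1⟩, y.2.2⟩
        left_inv := fun x => rfl
        right_inv := fun y => rfl }
  rw [← h1, h2, mul_comm]

theorem abelian_normal_bound (N : Subgroup K) [hN : N.Normal] [IsPretransitive N Ω] (hne : N ≠ ⊥)
    (hmin : ∀ M : Subgroup K, M.Normal → M ≤ N → M = ⊥ ∨ M = N) (hab : IsMulCommutative N) (a : Ω)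
    (hS : 3 * clen (stabilizer K a) + 8 ≤ 4 * Nat.card Ω) :
    3 * clen K + 4 ≤ 4 * Nat.card Ω := by
  have hA : (N ⊓ stabilizer K a : Subgroup K) = ⊥ := by
    rw [eq_bot_iff]
    intro s hs
    rw [Subgroup.mem_bot]
    exact eq_one_of_fix_of_commute (N := N) (a := a) hs.2 fun m hm =>
      congrArg Subtype.val (hab.is_comm.comm ⟨s, hs.1⟩ ⟨m, hm⟩)
  have hsplit := clen_transitive_split N a
  have hcard := card_transitive_normal N a
  rw [hA] at hsplit hcard
  rw [clen_of_subsingleton (G := (⊥ : Subgroup K))] at hsplit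
  rw [Subgroup.card_bot, mul_one] at hcard
  haveI : Nontrivial N := (Subgroup.nontrivial_iff_ne_bot N).mpr hne
  obtain ⟨p, hp, hpd⟩ := Nat.exists_prime_and_dvd (Finite.one_lt_card (α := N)).ne'
  haveI : Fact p.Prime := ⟨hp⟩
  let M : Subgroup K :=
    { carrier := {x | x ∈ N ∧ x ^ p = 1}
      one_mem' := ⟨one_mem N, one_pow p⟩
      mul_mem' := by
        rintro x y ⟨hx, hx'⟩ ⟨hy, hy'⟩
        refine ⟨mul_mem hx hy, ?_⟩
        have hc : Commute x y := congrArg Subtype.val (hab.is_comm.comm ⟨x, hx⟩ ⟨y, hy⟩)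
        rw [hc.mul_pow, hx', hy', one_mul]
      inv_mem' := by
        rintro x ⟨hx, hx'⟩
        exact ⟨inv_mem hx, by rw [inv_pow, hx', inv_one]⟩ }
  have hMn : M.Normal := ⟨fun x hx g => ⟨hN.conj_mem x hx.1 g, by rw [conj_pow, hx.2, mul_one, mul_inv_cancel]⟩⟩
  have hMN : M = N := by
    refine (hmin M hMn fun x hx => hx.1).resolve_left fun h => ?_
    obtain ⟨x, hx⟩ := exists_prime_orderOf_dvd_card' p hpd
    have hx1 : (x : K) ∈ M := ⟨x.2, by rw [← Subgroup.coe_pow, ← hx, pow_orderOf_eq_one, Subgroup.coe_one]⟩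
    rw [h, Subgroup.mem_bot] at hx1
    have : x = 1 := Subtype.ext hx1
    rw [this, orderOf_one] at hx
    exact hp.one_lt.ne hx
  have hP : IsPGroup p N := fun x => ⟨1, by
    rw [pow_one]
    have hx : (x : K) ∈ M := hMN.symm ▸ x.2
    exact Subtype.ext hx.2⟩
  obtain ⟨k, hk⟩ := hP.exists_card_eq
  have haN : clen N ≤ k := clen_le_of_prime_pow N hp hk
  rcases Nat.lt_or_ge k 2 with hk2 | hk2
  · omega
  obtain ⟨ψ, hψ⟩ := exists_conj_hom N a
  obtain ⟨g, hg1, hg2, hg3⟩ := exists_aut_bound ψ hψ (q := p) fun d hd hd1 => by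
    obtain ⟨i, -, rfl⟩ := (Nat.dvd_prime_pow hp).mp (hk ▸ hd)
    refine Nat.le_self_pow ?_ p
    rintro rfl
    exact hd1 (pow_zero p)
  have hnk : Nat.card Ω = p ^ k := by rw [← hcard, hk]
  rw [hcard] at hg2 hg3
  rcases Nat.lt_or_ge (Nat.card Ω) 32 with h32 | h32
  · have hgk : g ≤ k := (Nat.pow_le_pow_iff_right hp.one_lt).mp (hk ▸ hg1)
    have := numeric_small hp hk2 hnk h32 haN hgk hg3 (pow_clen_le _) (two_pow_clen_le _)
      (card_stabilizer_dvd_factorial a)
    omega
  · have hg' : 2 ^ g ≤ Nat.card Ω := (Nat.pow_le_pow_left hp.two_le g).trans (hg1.trans hcard.le)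
    have := numeric_abelian h32 (hcard ▸ pow_clen_le N) hg' hg2 (pow_clen_le _)
    omega

namespace SimpleFactors

variable {G : Type*} [Group G] {N : Subgroup G} (F : SimpleFactors N)

theorem le_normalizer {T : Subgroup G} (hT : T ∈ F.s) : N ≤ Subgroup.normalizer (T : Set G) := by
  classical
  refine le_trans F.sup_eq.ge (Finset.sup_le fun V hV => ?_)
  by_cases hVT : V = T
  · rw [hVT]; exact Subgroup.le_normalizer
  · exact (F.commute T hT V hV (Ne.symm hVT)).trans (Subgroup.centralizer_le_normalizer _)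

/-- A property of factors stable under conjugation holds for all factors or for none. -/
theorem all_of_invariant (hmin : ∀ M : Subgroup G, M.Normal → M ≤ N → M = ⊥ ∨ M = N) (P : Subgroup G → Prop)
    (hP : ∀ g : G, ∀ T ∈ F.s, P T → P (T.map (MulAut.conj g).toMonoidHom))
    (hex : ∃ T ∈ F.s, P T) : ∀ T ∈ F.s, P T := by
  classical
  obtain ⟨T₀, hT₀, hPT₀⟩ := hex
  set t := F.s.filter P with ht
  have hn : (t.sup id).Normal := by
    refine ⟨fun x hx g => ?_⟩
    have : (t.sup id).map (MulAut.conj g).toMonoidHom ≤ t.sup id := by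
      rw [Subgroup.map_le_iff_le_comap]
      refine Finset.sup_le fun U hU => ?_
      rw [← Subgroup.map_le_iff_le_comap]
      obtain ⟨hU1, hU2⟩ := Finset.mem_filter.mp hU
      exact Finset.le_sup (f := id) (Finset.mem_filter.mpr ⟨F.conj_mem g U hU1, hP g U hU1 hU2⟩)
    exact this ⟨x, hx, rfl⟩
  have hle : t.sup id ≤ N := (Finset.sup_mono (Finset.filter_subset _ _)).trans F.sup_eq.le
  have hne : ∀ T ∈ F.s, T ≠ ⊥ := fun T hT h => by
    haveI := F.simple T hT
    exact (Subgroup.nontrivial_iff_ne_bot T).mp IsSimpleGroup.toNontrivial h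
  have htop : t.sup id = N := (hmin _ hn hle).resolve_left fun h =>
    hne T₀ hT₀ (le_bot_iff.mp (h ▸ Finset.le_sup (f := id) (Finset.mem_filter.mpr ⟨hT₀, hPT₀⟩)))
  intro T hT
  by_contra hPT
  have h := inf_sup_eq_bot F (Finset.filter_subset P F.s) hT fun h => hPT (Finset.mem_filter.mp h).2
  rw [← ht, htop, inf_eq_left.mpr (F.le T hT)] at h
  exact hne T hT h

theorem map_others [Finite G] [N.Normal] {T : Subgroup G} (hT : T ∈ F.s) (g : G) :
    (F.others T).map (MulAut.conj g).toMonoidHom ≤ F.others (T.map (MulAut.conj g).toMonoidHom) := by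
  classical
  rw [Subgroup.map_le_iff_le_comap]
  refine Finset.sup_le fun U hU => ?_
  obtain ⟨hUT, hUs⟩ := Finset.mem_erase.mp hU
  rw [← Subgroup.map_le_iff_le_comap]
  refine F.le_others (F.conj_mem g U hUs) fun h => hUT ?_
  exact Subgroup.map_injective (MulAut.conj g).injective h

end SimpleFactors

theorem nonabelian_normal_bound [IsPreprimitive K Ω] [Nontrivial Ω] (N : Subgroup K) [hN : N.Normal]
    [IsPretransitive N Ω] (hne : N ≠ ⊥)
    (hmin : ∀ M : Subgroup K, M.Normal → M ≤ N → M = ⊥ ∨ M = N) (hab : ¬ IsMulCommutative N) (a : Ω)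
    (hS : 3 * clen (stabilizer K a) + 8 ≤ 4 * Nat.card Ω) :
    3 * clen K + 4 ≤ 4 * Nat.card Ω := by
  classical
  obtain ⟨F⟩ := exists_simpleFactors N hne hmin hab
  obtain ⟨T₀, hT₀⟩ := F.nonempty
  set c := Nat.card T₀ with hcdef
  have hcT : ∀ T ∈ F.s, Nat.card T = c := by
    refine F.all_of_invariant hmin (fun T => Nat.card T = c) (fun g T _ h => ?_) ⟨T₀, hT₀, rfl⟩
    rw [← h]
    exact (Nat.card_congr (T.equivMapOfInjective _ (MulAut.conj g).injective).toEquiv).symm
  obtain ⟨hNc, hNk⟩ := F.clen_eq hcT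
  have hc16 : 16 ≤ c := by
    haveI := F.simple T₀ hT₀
    exact sixteen_le_card (F.nonabelian T₀ hT₀)
  have hsplit := clen_transitive_split N a
  have hcard := card_transitive_normal N a
  set S := stabilizer K a
  set A : Subgroup K := N ⊓ S with hAdef
  by_cases hsmall : clen N ≤ clen A + 1
  · omega
  -- no factor is met
  have htriv : ∀ T ∈ F.s, A ⊓ T = ⊥ := by
    by_contra hex
    push Not at hex
    have hall := F.all_of_invariant hmin (fun T => A ⊓ T ≠ ⊥) (fun g T hT h => ?_) hex
    · have := F.card_le_clen_of_meets A hall inf_le_left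
      omega
    obtain ⟨m, hm⟩ := exists_smul_eq N a (g • a)
    obtain ⟨s, hs, rfl⟩ : ∃ s ∈ S, g = (m : K) * s := by
      refine ⟨(m : K)⁻¹ * g, ?_, by group⟩
      rw [mem_stabilizer_iff, mul_smul, inv_smul_eq_iff]
      exact hm.symm
    have hmap : T.map (MulAut.conj ((m : K) * s)).toMonoidHom = T.map (MulAut.conj s).toMonoidHom := by
      refine le_antisymm ?_ ?_
      · rintro _ ⟨x, hx, rfl⟩
        have h2 := normalizer_conj_mem (F.le_normalizer (F.conj_mem s T hT) m.2)
          (Subgroup.mem_map_of_mem (MulAut.conj s).toMonoidHom hx)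
        simpa [mul_assoc] using h2
      · rintro _ ⟨x, hx, rfl⟩
        have h2 := normalizer_conj_mem (F.le_normalizer (F.conj_mem ((m : K) * s) T hT) (inv_mem m.2))
          (Subgroup.mem_map_of_mem (MulAut.conj ((m : K) * s)).toMonoidHom hx)
        simpa [mul_assoc] using h2
    rw [hmap]
    intro hbot
    apply h
    rw [eq_bot_iff]
    intro x hx
    have hx2 : s * x * s⁻¹ ∈ A ⊓ T.map (MulAut.conj s).toMonoidHom :=
      ⟨⟨hN.conj_mem x hx.1.1 s, S.mul_mem (S.mul_mem hs hx.1.2) (S.inv_mem hs)⟩, x, hx.2, rfl⟩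
    rw [hbot, Subgroup.mem_bot, conj_eq_one_iff] at hx2
    exact Subgroup.mem_bot.mpr hx2
  -- the point stabiliser is a small subdirect subgroup
  have hr : ∃ r, 2 * r ≤ F.s.card ∧ Nat.card A ≤ c ^ r := by
    by_cases hsurj : ∀ T ∈ F.s, A ⊔ F.others T = N
    · exact F.subdirect_bound hcT A inf_le_left hsurj htriv
    push Not at hsurj
    obtain ⟨T₁, hT₁, hT₁ne⟩ := hsurj
    let P : Subgroup K := N ⊓ F.s.inf fun T => A ⊔ F.others T
    have hAP : A ≤ P := le_inf inf_le_left (Finset.le_inf fun T _ => le_sup_left)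
    have hconjP : ∀ s ∈ S, ∀ x ∈ P, s * x * s⁻¹ ∈ P := by
      intro s hs x hx
      refine Subgroup.mem_inf.mpr ⟨hN.conj_mem x hx.1 s, ?_⟩
      have key : F.s.inf (fun T => A ⊔ F.others T) ≤
          (F.s.inf fun T => A ⊔ F.others T).comap (MulAut.conj s).toMonoidHom := by
        intro y hy
        rw [Subgroup.mem_comap]
        have hall : ∀ U ∈ F.s, (MulAut.conj s).toMonoidHom y ∈ A ⊔ F.others U := by
          intro U hU
          set T := U.map (MulAut.conj s⁻¹).toMonoidHom with hT
          have hTs : T ∈ F.s := F.conj_mem s⁻¹ U hU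
          have hTU : T.map (MulAut.conj s).toMonoidHom = U := by
            rw [hT, Subgroup.map_map]
            convert U.map_id
            ext z
            simp [mul_assoc]
          have h1 : y ∈ A ⊔ F.others T := Finset.inf_le (f := fun T => A ⊔ F.others T) hTs hy
          have h2 := Subgroup.mem_map_of_mem (MulAut.conj s).toMonoidHom h1
          rw [Subgroup.map_sup] at h2
          have h3 : A.map (MulAut.conj s).toMonoidHom ≤ A := by
            rintro _ ⟨z, hz, rfl⟩
            exact ⟨hN.conj_mem z hz.1 s, S.mul_mem (S.mul_mem hs hz.2) (S.inv_mem hs)⟩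
          have h4 : (F.others T).map (MulAut.conj s).toMonoidHom ≤ F.others U := by
            rw [← hTU]; exact F.map_others hTs s
          exact (sup_le_sup h3 h4) h2
        exact Finset.inf_induction (p := fun B : Subgroup K => (MulAut.conj s).toMonoidHom y ∈ B)
          (Subgroup.mem_top _) (fun B hB C hC => Subgroup.mem_inf.mpr ⟨hB, hC⟩) hall
      exact key hx.2
    have hSP : S ≤ Subgroup.normalizer (P : Set K) := by
      intro s hs
      rw [Subgroup.mem_normalizer_iff]
      intro x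
      refine ⟨hconjP s hs x, fun hx => ?_⟩
      simpa [mul_assoc] using hconjP s⁻¹ (inv_mem hs) _ hx
    have hPS : P ≤ S := by
      rcases (le_sup_left : S ≤ S ⊔ P).lt_or_eq with h | h
      · exfalso
        have h := (IsPreprimitive.isCoatom_stabilizer_of_isPreprimitive (G := K) a).2 _ h
        apply hT₁ne
        refine le_antisymm (sup_le inf_le_left (F.others_le T₁)) fun x hx => ?_
        have hx' : x ∈ (↑(S ⊔ P) : Set K) := by rw [h]; exact Subgroup.mem_top x
        rw [Subgroup.coe_mul_of_left_le_normalizer_right S P hSP] at hx'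
        obtain ⟨s, hs, y, hy, rfl⟩ := Set.mem_mul.mp hx'
        have hsA : s ∈ A := by
          refine ⟨?_, hs⟩
          have := mul_mem hx (inv_mem hy.1)
          rwa [mul_inv_cancel_right] at this
        exact mul_mem (Subgroup.mem_sup_left hsA) (Finset.inf_le (f := fun T => A ⊔ F.others T) hT₁ hy.2)
      · exact le_sup_right.trans h.ge
    refine ⟨0, by omega, ?_⟩
    have hA1 : A = ⊥ := by
      rw [eq_bot_iff]
      intro x hx
      refine Subgroup.mem_bot.mpr (F.eq_one_of_forall_others hx.1 fun T hT => ?_)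
      obtain ⟨u, hu, v, hv, huv⟩ := F.exists_decomp hT hx.1
      have huP : u ∈ P := by
        refine Subgroup.mem_inf.mpr ⟨F.le T hT hu, ?_⟩
        refine Finset.inf_induction (p := fun B : Subgroup K => u ∈ B) (Subgroup.mem_top _)
          (fun B hB C hC => Subgroup.mem_inf.mpr ⟨hB, hC⟩) fun U hU => ?_
        by_cases hUT : U = T
        · subst hUT
          have : u = x * v⁻¹ := by rw [huv, mul_inv_cancel_right]
          rw [this]
          exact mul_mem (Subgroup.mem_sup_left hx) (Subgroup.mem_sup_right (inv_mem hv))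
        · exact Subgroup.mem_sup_right (F.le_others hT (Ne.symm hUT) hu)
      have huA : u ∈ A ⊓ T := Subgroup.mem_inf.mpr ⟨⟨huP.1, hPS huP⟩, hu⟩
      rw [htriv T hT, Subgroup.mem_bot] at huA
      rw [huv, huA, one_mul]
      exact hv
    rw [hA1, Subgroup.card_bot, pow_zero]
  have hr' : ∃ r, 2 * r ≤ F.s.card ∧ r + 2 ≤ F.s.card ∧ Nat.card A ≤ c ^ r := by
    by_cases hA : A = ⊥
    · exact ⟨0, by omega, by omega, by rw [hA, Subgroup.card_bot, pow_zero]⟩
    obtain ⟨r, hr1, hr2⟩ := hr
    haveI : Nontrivial A := (Subgroup.nontrivial_iff_ne_bot A).mpr hA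
    have := clen_normal_lt (G := A) (M := ⊥) bot_ne_top
    exact ⟨r, hr1, by omega, hr2⟩
  obtain ⟨r, hr1, hr2, hr3⟩ := hr'
  set k := F.s.card
  have hn : c ^ (k - r) ≤ Nat.card Ω := by
    have h1 : c ^ (k - r) * c ^ r ≤ Nat.card Ω * c ^ r := by
      rw [← pow_add, Nat.sub_add_cancel (by omega), ← hNc, hcard]
      exact Nat.mul_le_mul_left _ hr3
    exact Nat.le_of_mul_le_mul_right h1 (pow_pos (by omega) r)
  have h256 : 256 ≤ Nat.card Ω :=
    le_trans (le_trans (Nat.pow_le_pow_left hc16 2) (Nat.pow_le_pow_right (by omega) (by omega))) hn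
  have hsq : Nat.card N ≤ Nat.card Ω * Nat.card Ω := by
    refine le_trans ?_ (Nat.mul_le_mul hn hn)
    rw [hNc, ← pow_add]
    exact Nat.pow_le_pow_right (by omega) (by omega)
  obtain ⟨ψ, hψ⟩ := exists_conj_hom N a
  obtain ⟨g, hg1, hg2, -⟩ := exists_aut_bound ψ hψ (q := 2) fun d hd hd1 => by
    have : d ≠ 0 := by rintro rfl; exact Nat.card_pos.ne' (zero_dvd_iff.mp hd)
    omega
  have := numeric_nonabelian (b := clen S) h256 hsq (pow_clen_le N) hg1 hg2 (pow_clen_le _)
  omega

/-- The primitive step. -/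
theorem primitive_bound [Nontrivial Ω] [IsPreprimitive K Ω] (a : Ω)
    (hS : 3 * clen (stabilizer K a) + 8 ≤ 4 * Nat.card Ω) :
    3 * clen K + 4 ≤ 4 * Nat.card Ω := by
  classical
  haveI : Fintype K := Fintype.ofFinite _
  haveI : Fintype (Subgroup K) := Fintype.ofFinite _
  haveI : Nontrivial K := by
    obtain ⟨b, hb⟩ := exists_ne a
    obtain ⟨k, hk⟩ := exists_smul_eq K a b
    exact ⟨⟨k, 1, fun h => hb (by rw [← hk, h, one_smul])⟩⟩
  obtain ⟨N, hNC, hNmin⟩ := (Finset.univ.filter fun M : Subgroup K => M.Normal ∧ M ≠ ⊥).exists_min_image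
    (fun M : Subgroup K => Nat.card M)
    ⟨⊤, Finset.mem_filter.mpr ⟨Finset.mem_univ _, inferInstance, top_ne_bot⟩⟩
  obtain ⟨-, hN, hne⟩ := Finset.mem_filter.mp hNC
  have hmin : ∀ M : Subgroup K, M.Normal → M ≤ N → M = ⊥ ∨ M = N := by
    intro M hM hle
    by_cases h0 : M = ⊥
    · exact Or.inl h0
    · exact Or.inr (Subgroup.eq_of_le_of_card_ge hle (hNmin M (Finset.mem_filter.mpr ⟨Finset.mem_univ _, hM, h0⟩)))
  haveI := hN
  haveI : IsPretransitive N Ω := by
    refine IsQuasiPreprimitive.isPretransitive_of_normal fun h => hne ?_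
    rw [eq_bot_iff]
    intro m hm
    rw [Subgroup.mem_bot]
    apply Subtype.ext
    refine Equiv.ext fun x => ?_
    have hx : x ∈ fixedPoints N Ω := h ▸ Set.mem_univ x
    exact hx ⟨m, hm⟩
  by_cases hab : IsMulCommutative N
  · exact abelian_normal_bound N hne hmin hab a hS
  · exact nonabelian_normal_bound N hne hmin hab a hS

end Cfsg.Agent.H96
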