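import Mathlib
import Cfsg.Agent.H96.PermPrimitive

set_option autoImplicit false

/-!
The composition length of a permutation group of degree `n` with `r` orbits is at most
four thirds of `n - r`.
-/

namespace Cfsg.Agent.H96

universe u

open MulAction
open scoped Pointwise

/-- The bound for every permutation group on fewer than `n` points. -/
def LengthBoundBelow (n : ℕ) : Prop :=
  ∀ (Ω : Type u) [Finite Ω], Nat.card Ω < n → ∀ K : Subgroup (Equiv.Perm Ω),
    3 * clen K + 4 * Nat.card (orbitRel.Quotient K Ω) ≤ 4 * Nat.card Ω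

theorem card_orbits_pos {Ω : Type u} [Finite Ω] [Nonempty Ω] (K : Subgroup (Equiv.Perm Ω)) :
    1 ≤ Nat.card (orbitRel.Quotient K Ω) := by
  haveI : Nonempty (orbitRel.Quotient K Ω) := ⟨Quotient.mk'' (Classical.arbitrary Ω)⟩
  exact Nat.card_pos

theorem bound_intransitive {n : ℕ} (ih : LengthBoundBelow.{u} n) {Ω : Type u} [Finite Ω]
    (hn : Nat.card Ω = n) (K : Subgroup (Equiv.Perm Ω)) (hr : 2 ≤ Nat.card (orbitRel.Quotient K Ω)) :
    3 * clen K + 4 * Nat.card (orbitRel.Quotient K Ω) ≤ 4 * n := by
  classical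
  haveI : Finite (orbitRel.Quotient K Ω) := Finite.of_surjective _ Quotient.mk''_surjective
  haveI : Nontrivial (orbitRel.Quotient K Ω) := Finite.one_lt_card_iff_nontrivial.mp hr
  obtain ⟨q, q', hqq⟩ := exists_pair_ne (orbitRel.Quotient K Ω)
  obtain ⟨a, rfl⟩ := Quotient.mk''_surjective q
  obtain ⟨b, rfl⟩ := Quotient.mk''_surjective q'
  set Q : Ω → orbitRel.Quotient K Ω := fun x => Quotient.mk'' x with hQ
  have hQk : ∀ (k : K) (x : Ω), Q ((k : Equiv.Perm Ω) x) = Q x := fun k x =>
    Quotient.sound ⟨k, rfl⟩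
  let inO : Ω → Prop := fun x => Q x = Q a
  let f : K →* Equiv.Perm {x : Ω // inO x} :=
    { toFun := fun k => Equiv.Perm.subtypePerm (k : Equiv.Perm Ω) (fun x => by show Q _ = Q a ↔ Q x = Q a; rw [hQk])
      map_one' := Equiv.ext fun x => rfl
      map_mul' := fun s t => Equiv.ext fun x => rfl }
  let g : f.ker →* Equiv.Perm {x : Ω // ¬ inO x} :=
    { toFun := fun k => Equiv.Perm.subtypePerm ((k : K) : Equiv.Perm Ω)
        (fun x => by show ¬ Q _ = Q a ↔ ¬ Q x = Q a; rw [hQk])
      map_one' := Equiv.ext fun x => rfl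
      map_mul' := fun s t => Equiv.ext fun x => rfl }
  have hg : Function.Injective g := by
    intro s t h
    apply Subtype.ext
    apply Subtype.ext
    refine Equiv.ext fun x => ?_
    by_cases hx : inO x
    · have h1 := congrArg Subtype.val (Equiv.Perm.congr_fun (MonoidHom.mem_ker.mp s.2) ⟨x, hx⟩)
      have h2 := congrArg Subtype.val (Equiv.Perm.congr_fun (MonoidHom.mem_ker.mp t.2) ⟨x, hx⟩)
      exact h1.trans h2.symm
    · exact congrArg Subtype.val (Equiv.Perm.congr_fun h ⟨x, hx⟩)
  have hsum : Nat.card {x : Ω // inO x} + Nat.card {x : Ω // ¬ inO x} = n := by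
    rw [← hn, ← Nat.card_sum]
    exact Nat.card_congr (Equiv.sumCompl inO)
  haveI : Nonempty {x : Ω // inO x} := ⟨⟨a, rfl⟩⟩
  haveI : Nonempty {x : Ω // ¬ inO x} := ⟨⟨b, fun h => hqq h.symm⟩⟩
  have hp1 : 0 < Nat.card {x : Ω // inO x} := Nat.card_pos
  have hp2 : 0 < Nat.card {x : Ω // ¬ inO x} := Nat.card_pos
  have h1 := ih {x : Ω // inO x} (by omega) f.range
  have h1' := card_orbits_pos f.range
  have h2 := ih {x : Ω // ¬ inO x} (by omega) g.range
  rw [← clen_congr (MonoidHom.ofInjective hg)] at h2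
  -- the kernel has at least as many orbits as are left
  have h3 : Nat.card (orbitRel.Quotient K Ω) ≤ Nat.card (orbitRel.Quotient g.range {x : Ω // ¬ inO x}) + 1 := by
    let F : Option (orbitRel.Quotient g.range {x : Ω // ¬ inO x}) → orbitRel.Quotient K Ω := fun o =>
      o.elim (Q a) (Quotient.lift (fun x => Q x.1) (by
        rintro x y ⟨⟨_, k, rfl⟩, rfl⟩
        exact hQk (k : K) y.1))
    have hF : Function.Surjective F := by
      intro q
      obtain ⟨x, rfl⟩ := Quotient.mk''_surjective q
      by_cases hx : inO x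
      · exact ⟨none, hx.symm⟩
      · exact ⟨some (Quotient.mk'' ⟨x, hx⟩), rfl⟩
    refine (Nat.card_le_card_of_surjective F hF).trans_eq ?_
    exact Finite.card_option
  have h4 := clen_eq_ker_add_range f
  omega

theorem bound_blocks {n : ℕ} (ih : LengthBoundBelow.{u} n) {Ω : Type u} [Finite Ω]
    (hn : Nat.card Ω = n) (K : Subgroup (Equiv.Perm Ω)) [IsPretransitive K Ω] {B : Set Ω}
    (hB : IsBlock K B) (hB0 : B.Nonempty) (hB1 : ¬ B.Subsingleton) (hBu : B ≠ Set.univ) :
    3 * clen K + 4 ≤ 4 * n := by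
  classical
  have hkey := hB.ncard_block_mul_ncard_orbit_eq hB0
  have hb1 : 1 < B.ncard := by
    rw [← not_le, Set.ncard_le_one_iff_subsingleton]
    exact hB1
  have hbn : B.ncard < n := hn ▸ Set.ncard_univ Ω ▸
    Set.ncard_lt_ncard (Set.ssubset_univ_iff.mpr hBu)
  have hcard : Nat.card (orbit K B) = (orbit K B).ncard := Nat.card_coe_set_eq _
  set c := (orbit K B).ncard with hc
  have hc1 : 2 ≤ c := by
    rw [hn] at hkey
    by_contra h
    interval_cases c <;> omega
  have hcn : c < n := by
    rw [hn] at hkey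
    nlinarith
  let φ : K →* Equiv.Perm (orbit K B) := MulAction.toPermHom K (orbit K B)
  have h1 := ih (orbit K B) (by omega) φ.range
  haveI : Nonempty (orbit K B) := ⟨⟨B, mem_orbit_self B⟩⟩
  have h1' := card_orbits_pos φ.range
  rw [hcard] at h1
  -- the kernel fixes every block
  set W : Subgroup (Equiv.Perm Ω) := φ.ker.map K.subtype with hW
  have hWlen : clen φ.ker = clen W := clen_congr (φ.ker.equivMapOfInjective _ K.subtype_injective)
  have hblock : ∀ x : Ω, ∃ k : K, x ∈ k • B := by
    intro x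
    obtain ⟨y, hy⟩ := hB0
    obtain ⟨k, rfl⟩ := exists_smul_eq K y x
    exact ⟨k, Set.smul_mem_smul_set hy⟩
  choose kx hkx using hblock
  let blk : Ω → orbit K B := fun x => ⟨kx x • B, mem_orbit _ _⟩
  have huniq : ∀ (x : Ω) (k : K), x ∈ k • B → k • B = kx x • B := fun x k hx =>
    hB.smul_eq_smul_of_nonempty ⟨x, hx, hkx x⟩
  have hr : c ≤ Nat.card (orbitRel.Quotient W Ω) := by
    let F : orbitRel.Quotient W Ω → orbit K B := Quotient.lift blk (by
      rintro x y ⟨⟨_, w, hw, rfl⟩, rfl⟩
      apply Subtype.ext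
      show kx _ • B = kx y • B
      have hfix : w • (kx y • B) = kx y • B :=
        congrArg Subtype.val (Equiv.Perm.congr_fun (MonoidHom.mem_ker.mp hw) ⟨kx y • B, mem_orbit _ _⟩)
      rw [← hfix, smul_smul]
      refine (huniq _ (w * kx y) ?_).symm
      rw [mul_smul]
      exact Set.smul_mem_smul_set (hkx y))
    have hF : Function.Surjective F := by
      rintro ⟨_, k, rfl⟩
      obtain ⟨y, hy⟩ := hB0
      refine ⟨Quotient.mk'' (k • y), Subtype.ext ?_⟩
      exact (huniq (k • y) k (Set.smul_mem_smul_set hy)).symm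
    rw [← hcard]
    haveI : Finite (orbitRel.Quotient W Ω) := Finite.of_surjective _ Quotient.mk''_surjective
    exact Nat.card_le_card_of_surjective F hF
  have h2 := bound_intransitive ih hn W (hc1.trans hr)
  have h4 := clen_eq_ker_add_range φ
  omega

theorem stabilizer_two_orbits {Ω : Type u} [Finite Ω] [Nontrivial Ω] (K : Subgroup (Equiv.Perm Ω)) (a : Ω) :
    2 ≤ Nat.card (orbitRel.Quotient ((stabilizer K a).map K.subtype : Subgroup (Equiv.Perm Ω)) Ω) := by
  classical
  set W : Subgroup (Equiv.Perm Ω) := (stabilizer K a).map K.subtype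
  haveI : Finite (orbitRel.Quotient W Ω) := Finite.of_surjective _ Quotient.mk''_surjective
  let F : orbitRel.Quotient W Ω → Bool := Quotient.lift (fun x => decide (x = a)) (by
    rintro x y ⟨⟨_, s, hs, rfl⟩, rfl⟩
    have hsa : (s : Equiv.Perm Ω) a = a := hs
    refine decide_eq_decide.mpr ⟨fun h => ?_, fun h => ?_⟩
    · exact (s : Equiv.Perm Ω).injective (h.trans hsa.symm)
    · show (s : Equiv.Perm Ω) y = a
      rw [h, hsa])
  have hF : Function.Surjective F := by
    intro b
    obtain ⟨y, hy⟩ := exists_ne a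
    cases b
    · exact ⟨Quotient.mk'' y, decide_eq_false hy⟩
    · exact ⟨Quotient.mk'' a, decide_eq_true rfl⟩
  have := Nat.card_le_card_of_surjective F hF
  simpa using this

/-- The composition length of a permutation group. -/
theorem perm_length_bound : ∀ n : ℕ, LengthBoundBelow.{u} n := by
  intro n
  induction n with
  | zero => intro Ω _ h; omega
  | succ n ih =>
    intro Ω _ hlt K
    classical
    rcases Nat.lt_or_eq_of_le (Nat.lt_succ_iff.mp hlt) with h | h
    · exact ih Ω h K
    rw [h]
    haveI : Finite (orbitRel.Quotient K Ω) := Finite.of_surjective _ Quotient.mk''_surjective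
    have hle : Nat.card (orbitRel.Quotient K Ω) ≤ n :=
      h ▸ Nat.card_le_card_of_surjective _ Quotient.mk''_surjective
    rcases subsingleton_or_nontrivial Ω with hΩ | hΩ
    · haveI : Subsingleton (Equiv.Perm Ω) := ⟨fun s t => Equiv.ext fun x => Subsingleton.elim _ _⟩
      rw [clen_of_subsingleton (G := K)]
      omega
    by_cases hr : 2 ≤ Nat.card (orbitRel.Quotient K Ω)
    · exact bound_intransitive ih h K hr
    have hr1 : Nat.card (orbitRel.Quotient K Ω) = 1 := by
      have := card_orbits_pos K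
      omega
    haveI : IsPretransitive K Ω := by
      haveI : Subsingleton (orbitRel.Quotient K Ω) := Finite.card_le_one_iff_subsingleton.mp hr1.le
      exact pretransitive_iff_subsingleton_quotient K Ω |>.mpr inferInstance
    rw [hr1, mul_one]
    by_cases hprim : IsPreprimitive K Ω
    · obtain ⟨a⟩ : Nonempty Ω := inferInstance
      have hs := bound_intransitive ih h _ (stabilizer_two_orbits K a)
      rw [← clen_congr ((stabilizer K a).equivMapOfInjective _ K.subtype_injective)] at hs
      have h2 := stabilizer_two_orbits K a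
      have := primitive_bound (K := K) a (by rw [h]; omega)
      rwa [h] at this
    · obtain ⟨B, hB, hBt⟩ : ∃ B : Set Ω, IsBlock K B ∧ ¬ IsTrivialBlock B := by
        by_contra hcon
        push Not at hcon
        exact hprim { isTrivialBlock_of_isBlock := fun {B} hB => hcon B hB }
      simp only [IsTrivialBlock, not_or] at hBt
      have hne : B.Nonempty := by
        rw [Set.nonempty_iff_ne_empty]
        rintro rfl
        exact hBt.1 Set.subsingleton_empty
      exact bound_blocks ih h K hB hne hBt.1 hBt.2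

/-- Faithful actions. -/
theorem faithful_length_bound (G : Type*) (Ω : Type u) [Group G] [Finite G] [MulAction G Ω]
    [FaithfulSMul G Ω] [Finite Ω] :
    3 * clen G + 4 * Nat.card (orbitRel.Quotient G Ω) ≤ 4 * Nat.card Ω := by
  have h := perm_length_bound (Nat.card Ω + 1) Ω (Nat.lt_succ_self _) (MulAction.toPermHom G Ω).range
  rw [← clen_congr (MonoidHom.ofInjective (MulAction.toPerm_injective (α := G) (β := Ω)))] at h
  refine le_trans (le_of_eq ?_) h
  congr 2
  refine Nat.card_congr (Quotient.congr (Equiv.refl Ω) fun x y => ?_)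
  constructor
  · rintro ⟨g, rfl⟩
    exact ⟨⟨_, g, rfl⟩, rfl⟩
  · rintro ⟨⟨_, g, rfl⟩, rfl⟩
    exact ⟨g, rfl⟩

end Cfsg.Agent.H96
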