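import Mathlib
import Cfsg.Prelude.Def_RootSubgroups
import Cfsg.Agent.H87.SL2Pair
import Cfsg.Agent.H87.RootBasic

set_option autoImplicit false

/-!
Assembling classes of abstract root subgroups from one parameter subgroups, and the copy of SL₂ on a
pair of vectors with a dual pair of functionals.
-/

namespace Cfsg.Agent.H96

open Subgroup Matrix Cfsg.Agent.H87

section Abstract

variable {G : Type*} [Group G] {k : Type*} [Field k]

/-- An image of SL₂ with central kernel gives a rank one pair. -/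
theorem rankOne_of_hom (φ : SpecialLinearGroup (Fin 2) k →* G)
    (hker : φ.ker ≤ center (SpecialLinearGroup (Fin 2) k)) :
    Cfsg.IsRankOnePair ((Cfsg.upperUnipotentSL2 k).map φ) ((Cfsg.lowerUnipotentSL2 k).map φ) ∧
      Cfsg.IsPSL2PairOver k ((Cfsg.upperUnipotentSL2 k).map φ) ((Cfsg.lowerUnipotentSL2 k).map φ) := by
  have hU : ∀ x ∈ Cfsg.upperUnipotentSL2 k, φ x = 1 → x = 1 := fun x hx h => by
    obtain ⟨t, rfl⟩ := mem_upper_iff.1 hx
    have := congrArg (fun g : SpecialLinearGroup (Fin 2) k => (g : Matrix (Fin 2) (Fin 2) k) 0 0)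
      (mem_center_iff.1 (hker h) (lowMat 1))
    simp [lowMat_coe, upMat_coe, Matrix.mul_fin_two] at this
    rw [this, upMat_zero]
  have hL : ∀ x ∈ Cfsg.lowerUnipotentSL2 k, φ x = 1 → x = 1 := fun x hx h => by
    obtain ⟨t, rfl⟩ := mem_lower_iff.1 hx
    have := congrArg (fun g : SpecialLinearGroup (Fin 2) k => (g : Matrix (Fin 2) (Fin 2) k) 0 0)
      (mem_center_iff.1 (hker h) (upMat 1))
    simp [lowMat_coe, upMat_coe, Matrix.mul_fin_two] at this
    rw [this, lowMat_zero]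
  have hconj : ∀ (A : Subgroup (SpecialLinearGroup (Fin 2) k)) (g : SpecialLinearGroup (Fin 2) k),
      Cfsg.conjBy (A.map φ) (φ g) = (Cfsg.conjBy A g).map φ := fun A g => by
    simp only [Cfsg.conjBy, map_map]
    congr 1
    ext x
    simp
  have hcond : ∀ {A B : Subgroup (SpecialLinearGroup (Fin 2) k)}, (∀ x ∈ B, φ x = 1 → x = 1) →
      Cfsg.RankOneCondition A B → Cfsg.RankOneCondition (A.map φ) (B.map φ) := by
    rintro A B hB h _ ⟨a, ha, rfl⟩ hne
    obtain ⟨b, hb, hb1, e⟩ := h a ha (fun e => hne (by rw [e, map_one]))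
    refine ⟨φ b, mem_map_of_mem φ hb, fun e' => hb1 (hB b hb e'), ?_⟩
    rw [← map_inv, ← map_inv, hconj, hconj, e]
  have p := rankOne_symm (sl2_pair (k := k))
  haveI := p.nilpotent_left
  haveI := p.nilpotent_right
  refine ⟨⟨?_, Group.nilpotent_of_surjective _ (φ.subgroupMap_surjective _),
    Group.nilpotent_of_surjective _ (φ.subgroupMap_surjective _), hcond hL p.cond_left, hcond hU p.cond_right⟩,
    φ, ?_, hker, rfl, rfl⟩
  · intro e
    obtain ⟨y, hy, hy'⟩ := e ▸ mem_map_of_mem φ (upMat_mem (1 : k))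
    obtain ⟨t, rfl⟩ := mem_lower_iff.1 hy
    have hz : (lowMat t)⁻¹ * upMat 1 ∈ center (SpecialLinearGroup (Fin 2) k) :=
      hker (by rw [MonoidHom.mem_ker, map_mul, map_inv, hy', inv_mul_cancel])
    have := congrArg (fun g : SpecialLinearGroup (Fin 2) k => (g : Matrix (Fin 2) (Fin 2) k) 0 0)
      (mem_center_iff.1 hz (lowMat 1))
    simp [lowMat_inv, lowMat_coe, upMat_coe, Matrix.mul_fin_two] at this
  · rw [← Subgroup.map_sup, sup_comm, lower_sup_upper, MonoidHom.range_eq_map]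

theorem not_commute_of_rankOne {A B : Subgroup G} (h : Cfsg.IsRankOnePair A B) : ⁅A, B⁆ ≠ ⊥ := by
  intro hb
  obtain ⟨a, ha, ha1⟩ := (Subgroup.bot_or_exists_ne_one A).resolve_left (left_ne_bot h)
  obtain ⟨b, hbB, -, e⟩ := h.cond_left a ha ha1
  rw [conjBy_eq_of_commute (fun x hx => (commute_of_bot hb hx (inv_mem hbB)).symm),
    conjBy_eq_of_commute (fun x hx => commute_of_bot hb (inv_mem ha) hx)] at e
  exact h.ne e

theorem not_commCase_of_rankOne {S : Set (Subgroup G)} {A B : Subgroup G} (h : Cfsg.IsRankOnePair A B)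
    (hA : ∀ x ∈ A, ∀ y ∈ A, x * y = y * x) : ¬ Cfsg.RootCommutatorCase S A B := by
  rintro ⟨-, hc, -, -⟩
  refine not_commute_of_rankOne h (bot_of_commute fun x hx y hy => ?_)
  obtain ⟨a, ha, ha1⟩ := (Subgroup.bot_or_exists_ne_one A).resolve_left (left_ne_bot h)
  obtain ⟨b, hbB, -, e⟩ := h.cond_left a ha ha1
  have hy' : a⁻¹ * y * a ∈ Cfsg.conjBy A b⁻¹ := by
    rw [e, mem_conjBy, inv_inv]
    simpa [mul_assoc] using hy
  rw [mem_conjBy, inv_inv] at hy'
  set a' := b * (a⁻¹ * y * a) * b⁻¹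
  have hcom : b⁻¹ * a' * b * a'⁻¹ ∈ ⁅A, B⁆ := by
    rw [commutator_comm]
    simpa [commutatorElement_def] using commutator_mem_commutator (inv_mem hbB) hy'
  have hyac : y = a * ((b⁻¹ * a' * b * a'⁻¹) * a') * a⁻¹ := by simp only [a']; group
  have c1 : Commute x (b⁻¹ * a' * b * a'⁻¹) := (hc _ hcom x (mem_sup_left hx)).symm
  rw [hyac]
  exact ((Commute.mul_right (hA x hx a ha) (c1.mul_right (hA x hx a' hy'))).mul_right (hA x hx _ (inv_mem ha))).eq

theorem conj_of_rankOne {A B : Subgroup G} (h : Cfsg.IsRankOnePair A B) : ∃ g : G, B = Cfsg.conjBy A g := by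
  obtain ⟨a, ha, ha1⟩ := (Subgroup.bot_or_exists_ne_one A).resolve_left (left_ne_bot h)
  obtain ⟨b, -, -, e⟩ := h.cond_left a ha ha1
  exact ⟨a * b⁻¹, by rw [conjBy_mul, e, conjBy_conjBy_inv]⟩

/-- A family with the three cases, connected by rank one pairs, is a class of k-root subgroups. -/
theorem rootClass_of {S : Set (Subgroup G)} (hne : S.Nonempty)
    (hcomm : ∀ A ∈ S, ∀ x ∈ A, ∀ y ∈ A, x * y = y * x) (hbot : ∀ A ∈ S, A ≠ ⊥)
    (hgen : (⨆ A ∈ S, A) = ⊤) (hconj : ∀ A ∈ S, ∀ g : G, Cfsg.conjBy A g ∈ S)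
    (hpair : ∀ A ∈ S, ∀ B ∈ S, ⁅A, B⁆ = ⊥ ∨ (Cfsg.IsRankOnePair A B ∧ Cfsg.IsPSL2PairOver k A B) ∨
      Cfsg.RootCommutatorCase S A B)
    (hconn : Cfsg.IsConnectedFamily (Cfsg.FAdj S) S) :
    Cfsg.IsRootSubgroupClass S ∧ Cfsg.IsKRootSubgroupSet k S := by
  have hset : Cfsg.IsRootSubgroupSet S :=
    { commutative := fun A hA => ⟨⟨fun x y => Subtype.ext (hcomm A hA _ x.2 _ y.2)⟩⟩
      ne_bot := hbot
      generates := hgen
      conj_mem := hconj
      pair := fun A hA B hB => (hpair A hA B hB).imp_right (Or.imp_left And.left) }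
  refine ⟨⟨hset, hne, fun A hA B hB => ?_⟩, hset, fun A hA B hB h => ?_⟩
  · have hr := hconn A hA B hB
    clear hB
    induction hr with
    | refl => exact ⟨1, (conjBy_one A).symm⟩
    | tail _ hCD ih =>
      obtain ⟨g, rfl⟩ := ih
      obtain ⟨g', e⟩ := conj_of_rankOne hCD.2.2
      exact ⟨g' * g, by rw [e, conjBy_mul]⟩
  · rcases hpair A hA B hB with h' | h' | h'
    · exact absurd h' (not_commute_of_rankOne h)
    · exact h'.2
    · exact absurd h' (not_commCase_of_rankOne h (hcomm A hA))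

/-- Without the commutator case the family is degenerate. -/
theorem degenerate_of {S : Set (Subgroup G)} (hcomm : ∀ A ∈ S, ∀ x ∈ A, ∀ y ∈ A, x * y = y * x)
    (hbot : ∀ A ∈ S, A ≠ ⊥) (hpair : ∀ A ∈ S, ∀ B ∈ S, ⁅A, B⁆ = ⊥ ∨ Cfsg.IsRankOnePair A B) :
    Cfsg.IsDegenerateRootSet S := fun A hA B hB h => by
  rcases hpair A hA B hB with h' | h'
  · exact hbot _ h.1 h'
  · exact not_commCase_of_rankOne h' (hcomm A hA) h

/-- The commutator case for one parameter subgroups. -/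
theorem commCase_of {S : Set (Subgroup G)} {A B C : Subgroup G} (X Y Z : k → G) (hX0 : X 0 = 1) (hY0 : Y 0 = 1)
    (hA : ∀ g, g ∈ A ↔ ∃ s, X s = g) (hB : ∀ g, g ∈ B ↔ ∃ s, Y s = g) (hC : ∀ g, g ∈ C ↔ ∃ s, Z s = g)
    {d : k} (hd : d ≠ 0) (hxy : ∀ s t, X s * Y t * (X s)⁻¹ * (Y t)⁻¹ = Z (s * t * d))
    (hzx : ∀ r s, Z r * X s = X s * Z r) (hzy : ∀ r s, Z r * Y s = Y s * Z r) (hCS : C ∈ S) :
    Cfsg.RootCommutatorCase S A B := by
  have hle : ⁅A, B⁆ ≤ C := commutator_le.2 fun a ha b hb => by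
    obtain ⟨s, rfl⟩ := (hA a).1 ha
    obtain ⟨t, rfl⟩ := (hB b).1 hb
    exact (hC _).2 ⟨s * t * d, by rw [commutatorElement_def, hxy]⟩
  have hca : ∀ a ∈ A, a ≠ 1 → C ≤ closure ((fun b : G => a * b * a⁻¹ * b⁻¹) '' (B : Set G)) := by
    intro a ha ha1 c hc
    obtain ⟨s, rfl⟩ := (hA a).1 ha
    obtain ⟨r, rfl⟩ := (hC c).1 hc
    have hs : s ≠ 0 := fun e => ha1 (e ▸ hX0)
    refine subset_closure ⟨Y (r / (s * d)), (hB _).2 ⟨_, rfl⟩, ?_⟩
    show X s * _ * (X s)⁻¹ * _ = _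
    rw [hxy]; congr 1; field_simp
  have hcb : ∀ b ∈ B, b ≠ 1 → C ≤ closure ((fun a : G => a * b * a⁻¹ * b⁻¹) '' (A : Set G)) := by
    intro b hb hb1 c hc
    obtain ⟨t, rfl⟩ := (hB b).1 hb
    obtain ⟨r, rfl⟩ := (hC c).1 hc
    have ht : t ≠ 0 := fun e => hb1 (e ▸ hY0)
    refine subset_closure ⟨X (r / (t * d)), (hA _).2 ⟨_, rfl⟩, ?_⟩
    show _ * Y t * _ * (Y t)⁻¹ = _
    rw [hxy]; congr 1; field_simp
  have hge : C ≤ ⁅A, B⁆ := by
    intro c hc
    obtain ⟨r, rfl⟩ := (hC c).1 hc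
    have := commutator_mem_commutator ((hA _).2 ⟨r / d, rfl⟩) ((hB _).2 ⟨1, rfl⟩)
    rwa [commutatorElement_def, hxy, mul_one, div_mul_cancel₀ r hd] at this
  have he : ⁅A, B⁆ = C := le_antisymm hle hge
  refine ⟨he ▸ hCS, ?_, ?_, ?_⟩ <;> rw [he]
  · intro c hc x hx
    obtain ⟨r, rfl⟩ := (hC c).1 hc
    have hsup : A ⊔ B ≤ centralizer {Z r} := sup_le
      (fun y hy => by obtain ⟨s, rfl⟩ := (hA y).1 hy; exact mem_centralizer_singleton_iff.2 (hzx r s).symm)
      (fun y hy => by obtain ⟨s, rfl⟩ := (hB y).1 hy; exact mem_centralizer_singleton_iff.2 (hzy r s).symm)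
    exact (mem_centralizer_singleton_iff.1 (hsup hx)).symm
  · intro a ha ha1
    refine le_antisymm ((closure_le _).2 ?_) (hca a ha ha1)
    rintro _ ⟨b, hb, rfl⟩
    exact hle (by simpa [commutatorElement_def] using commutator_mem_commutator ha hb)
  · intro b hb hb1
    refine le_antisymm ((closure_le _).2 ?_) (hcb b hb hb1)
    rintro _ ⟨a, ha, rfl⟩
    exact hle (by simpa [commutatorElement_def] using commutator_mem_commutator ha hb)

/-- A one parameter subgroup. -/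
def param (X : k → G) (hX : ∀ s t, X (s + t) = X s * X t) : Subgroup G where
  carrier := Set.range X
  one_mem' := ⟨0, mul_eq_left.1 (by rw [← hX, add_zero] : X 0 * X 0 = X 0)⟩
  mul_mem' := by rintro _ _ ⟨s, rfl⟩ ⟨t, rfl⟩; exact ⟨s + t, hX s t⟩
  inv_mem' := by
    rintro _ ⟨s, rfl⟩
    refine ⟨-s, eq_inv_of_mul_eq_one_left ?_⟩
    rw [← hX, neg_add_cancel]
    exact mul_eq_left.1 (by rw [← hX, add_zero] : X 0 * X 0 = X 0)

theorem mem_param {X : k → G} {hX : ∀ s t, X (s + t) = X s * X t} {g : G} :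
    g ∈ param X hX ↔ ∃ s, X s = g := Iff.rfl

theorem param_comm {X : k → G} {hX : ∀ s t, X (s + t) = X s * X t} :
    ∀ x ∈ param X hX, ∀ y ∈ param X hX, x * y = y * x := by
  rintro _ ⟨s, rfl⟩ _ ⟨t, rfl⟩
  rw [← hX, ← hX, add_comm]

theorem map_upper_eq (φ : SpecialLinearGroup (Fin 2) k →* G) (X : k → G) (hX : ∀ s t, X (s + t) = X s * X t)
    {c : k} (hc : c ≠ 0) (h : ∀ t, φ (upMat t) = X (c * t)) : (Cfsg.upperUnipotentSL2 k).map φ = param X hX := by
  ext g
  constructor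
  · rintro ⟨x, hx, rfl⟩
    obtain ⟨t, rfl⟩ := mem_upper_iff.1 hx
    exact ⟨c * t, (h t).symm⟩
  · rintro ⟨s, rfl⟩
    exact ⟨upMat (c⁻¹ * s), upMat_mem _, by rw [h, mul_inv_cancel_left₀ hc]⟩

theorem map_lower_eq (φ : SpecialLinearGroup (Fin 2) k →* G) (X : k → G) (hX : ∀ s t, X (s + t) = X s * X t)
    {c : k} (hc : c ≠ 0) (h : ∀ t, φ (lowMat t) = X (c * t)) : (Cfsg.lowerUnipotentSL2 k).map φ = param X hX := by
  ext g
  constructor
  · rintro ⟨x, hx, rfl⟩
    obtain ⟨t, rfl⟩ := mem_lower_iff.1 hx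
    exact ⟨c * t, (h t).symm⟩
  · rintro ⟨s, rfl⟩
    exact ⟨lowMat (c⁻¹ * s), lowMat_mem _, by rw [h, mul_inv_cancel_left₀ hc]⟩

end Abstract

section Block

variable {k : Type*} [CommRing k] {ι : Type*} [Fintype ι] [DecidableEq ι]

/-- The matrix acting as A on the span of two columns and trivially on the common kernel of two rows. -/
def blockMat (U : Matrix ι (Fin 2) k) (V : Matrix (Fin 2) ι k) (A : Matrix (Fin 2) (Fin 2) k) : Matrix ι ι k :=
  1 + U * (A - 1) * V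

variable {U : Matrix ι (Fin 2) k} {V : Matrix (Fin 2) ι k}

theorem blockMat_mul (h : V * U = 1) (A B : Matrix (Fin 2) (Fin 2) k) :
    blockMat U V A * blockMat U V B = blockMat U V (A * B) := by
  have e : U * (A - 1) * V * (U * (B - 1) * V) = U * ((A - 1) * (B - 1)) * V := by
    simp only [Matrix.mul_assoc]
    rw [← Matrix.mul_assoc V U, h, Matrix.one_mul]
  rw [blockMat, blockMat, blockMat, Matrix.add_mul, Matrix.one_mul, Matrix.mul_add, Matrix.mul_one, e,
    show A * B - 1 = (A - 1) + (B - 1) + (A - 1) * (B - 1) by noncomm_ring]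
  simp only [Matrix.mul_add, Matrix.add_mul]
  abel

theorem blockMat_one : blockMat U V 1 = 1 := by simp [blockMat]

theorem det_blockMat (h : V * U = 1) (A : Matrix (Fin 2) (Fin 2) k) : (blockMat U V A).det = A.det := by
  rw [blockMat, Matrix.mul_assoc, Matrix.det_one_add_mul_comm, Matrix.mul_assoc, h, Matrix.mul_one, add_sub_cancel]

theorem blockMat_mulVec (U : Matrix ι (Fin 2) k) (V : Matrix (Fin 2) ι k) (A : Matrix (Fin 2) (Fin 2) k)
    (x : ι → k) :
    blockMat U V A *ᵥ x = x + ((A 0 0 - 1) * (V 0 ⬝ᵥ x) + A 0 1 * (V 1 ⬝ᵥ x)) • Uᵀ 0 +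
      (A 1 0 * (V 0 ⬝ᵥ x) + (A 1 1 - 1) * (V 1 ⬝ᵥ x)) • Uᵀ 1 := by
  rw [blockMat, add_mulVec, one_mulVec, ← mulVec_mulVec, ← mulVec_mulVec, add_assoc]
  congr 1
  funext i
  simp only [mulVec, dotProduct, Fin.sum_univ_two, Pi.add_apply, Pi.smul_apply, smul_eq_mul, Matrix.sub_apply,
    Matrix.one_apply, transpose_apply]
  simp
  ring

theorem blockMat_injective (h : V * U = 1) : Function.Injective (blockMat U V) := fun A B e => by
  have := congrArg (fun M => V * (M - 1) * U) e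
  simp only [blockMat, add_sub_cancel_left, Matrix.mul_assoc, h, Matrix.mul_one] at this
  rw [← Matrix.mul_assoc, h, Matrix.one_mul, ← Matrix.mul_assoc, h, Matrix.one_mul] at this
  exact sub_left_injective this

/-- Two columns. -/
def cols (p r : ι → k) : Matrix ι (Fin 2) k := Matrix.of fun i => ![p i, r i]

theorem cols_zero (p r : ι → k) : (cols p r)ᵀ 0 = p := by funext i; simp [cols]

theorem cols_one (p r : ι → k) : (cols p r)ᵀ 1 = r := by funext i; simp [cols]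

theorem rows_mul_cols {α β p r : ι → k} (h1 : α ⬝ᵥ p = 1) (h2 : α ⬝ᵥ r = 0) (h3 : β ⬝ᵥ p = 0)
    (h4 : β ⬝ᵥ r = 1) : Matrix.of ![α, β] * cols p r = 1 := by
  ext a b
  fin_cases a <;> fin_cases b <;>
    simp [Matrix.mul_apply, cols, dotProduct] at h1 h2 h3 h4 ⊢ <;> assumption

end Block

end Cfsg.Agent.H96
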