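import Cfsg.Agent.H96.RootFamily
import Cfsg.Agent.Orthogonal.Eichler

set_option autoImplicit false

/-!
The Siegel transvection groups of singular lines of a non-degenerate quadratic space.
-/

namespace Cfsg.Agent.H96.SiegelRoot

open QuadraticMap Module Matrix Cfsg.Agent.H87 Cfsg.Agent.Orthogonal

variable {F V G : Type*} [Field F] [AddCommGroup V] [Module F V] [Group G] {Q : QuadraticForm F V} (e : G ≃* O Q)

/-- The map of a group element. -/
def ap (g : G) (x : V) : V := (e g : V ≃ₗ[F] V) x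

theorem ap_ext {g h : G} (H : ∀ x, ap e g x = ap e h x) : g = h := e.injective (O.ext_app H)

theorem ap_mul (g h : G) (x : V) : ap e (g * h) x = ap e g (ap e h x) := by simp only [ap, map_mul]; rfl

theorem ap_one (x : V) : ap e 1 x = x := by simp only [ap, map_one]; rfl

/-- A singular line given by a basis. -/
def Line (Q : QuadraticForm F V) (p r : V) : Prop :=
  LinearIndependent F ![p, r] ∧ Q p = 0 ∧ Q r = 0 ∧ polar Q p r = 0

theorem Line.ne_left {p r : V} (h : Line Q p r) : p ≠ 0 := h.1.ne_zero 0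

theorem Line.ne_right {p r : V} (h : Line Q p r) : r ≠ 0 := h.1.ne_zero 1

theorem Line.pp {p r : V} (h : Line Q p r) : polar Q p p = 0 := by rw [polar_self', h.2.1, mul_zero]

theorem Line.rr {p r : V} (h : Line Q p r) : polar Q r r = 0 := by rw [polar_self', h.2.2.1, mul_zero]

theorem Line.rp {p r : V} (h : Line Q p r) : polar Q r p = 0 := by rw [polar_comm, h.2.2.2]

theorem Line.change {p r : V} (h : Line Q p r) {a b c d : F} (hd : a * d - b * c ≠ 0) :
    Line Q (a • p + b • r) (c • p + d • r) := by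
  obtain ⟨hli, hp, hr, hpr⟩ := h
  refine ⟨LinearIndependent.pair_iff.2 fun s t e => ?_, ?_, ?_, ?_⟩
  · have h2 := LinearIndependent.pair_iff.1 hli (s * a + t * c) (s * b + t * d) (by rw [← e]; module)
    exact ⟨(mul_eq_zero.1 (by linear_combination d * h2.1 - c * h2.2 : s * (a * d - b * c) = 0)).resolve_right hd,
      (mul_eq_zero.1 (by linear_combination a * h2.2 - b * h2.1 : t * (a * d - b * c) = 0)).resolve_right hd⟩
  · rw [map_add_polar, qmap_smul, qmap_smul, polar_smul_left', polar_smul_right', hp, hr, hpr]; ring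
  · rw [map_add_polar, qmap_smul, qmap_smul, polar_smul_left', polar_smul_right', hp, hr, hpr]; ring
  · simp only [polar_add_left, polar_add_right, polar_smul_left', polar_smul_right', polar_self', hp, hr, hpr,
      polar_comm (⇑Q) r p]
    ring

theorem Line.map {p r : V} (h : Line Q p r) (g : G) : Line Q (ap e g p) (ap e g r) := by
  obtain ⟨hli, hp, hr, hpr⟩ := h
  refine ⟨LinearIndependent.pair_iff.2 fun s t h' => LinearIndependent.pair_iff.1 hli s t ?_, ?_, ?_, ?_⟩
  · apply (e g : V ≃ₗ[F] V).injective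
    rw [map_add, map_smul, map_smul, map_zero]; exact h'
  · rw [ap, O.map_app, hp]
  · rw [ap, O.map_app, hr]
  · rw [ap, ap, O.polar_app, hpr]

/-- The Siegel transvection with parameter `s`. -/
noncomputable def X {p r : V} (h : Line Q p r) (s : F) : G :=
  e.symm (sie p (s • r) h.2.1 (by rw [polar_smul_right', h.2.2.2, mul_zero]))

theorem ap_X {p r : V} (h : Line Q p r) (s : F) (x : V) :
    ap e (X e h s) x = x + (s * polar Q r x) • p - (s * polar Q p x) • r := by
  simp only [ap, X, MulEquiv.apply_symm_apply, sie_app, qmap_smul, h.2.2.1, polar_smul_left']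
  module

theorem X_add {p r : V} (h : Line Q p r) (s t : F) : X e h (s + t) = X e h s * X e h t := by
  rw [X, X, X, ← map_mul, sie_mul]
  exact congrArg _ (sie_congr _ _ _ _ rfl (add_smul s t r))

theorem X_conj {p r : V} (h : Line Q p r) (g : G) (s : F) :
    g * X e h s * g⁻¹ = X e (h.map e g) s := by
  apply e.injective
  rw [map_mul, map_mul, map_inv, X, X, e.apply_symm_apply, e.apply_symm_apply, sie_conj]
  exact sie_congr _ _ _ _ rfl (map_smul _ _ _)

theorem X_change {p r p' r' : V} (h : Line Q p r) (h' : Line Q p' r') {a b c d : F} (hp : p' = a • p + b • r)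
    (hr : r' = c • p + d • r) (s : F) : X e h' s = X e h (s * (a * d - b * c)) := by
  refine ap_ext e fun x => ?_
  rw [ap_X, ap_X, hp, hr]
  simp only [polar_add_left, polar_smul_left']
  module

/-- The transvection group of a singular line. -/
def L (e : G ≃* O Q) (p r : V) : Subgroup G :=
  Subgroup.closure {σ | ∀ v, polar Q v p = 0 → polar Q v r = 0 → ap e σ v = v}

theorem exists_dual [FiniteDimensional F V] (hQ : Nondeg Q) {p r : V} (h : LinearIndependent F ![p, r]) :
    ∃ a b : V, polar Q p a = 1 ∧ polar Q r a = 0 ∧ polar Q p b = 0 ∧ polar Q r b = 1 := by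
  let f : V →ₗ[F] F × F := (Q.polarBilin p).prod (Q.polarBilin r)
  have hf : Function.Surjective f := by
    rw [← LinearMap.range_eq_top]
    by_contra hne
    obtain ⟨φ, hφ0, hφ⟩ := Submodule.exists_le_ker_of_lt_top _ (lt_top_iff_ne_top.2 hne)
    have key : ∀ x, φ (1, 0) * polar Q p x + φ (0, 1) * polar Q r x = 0 := fun x => by
      have h1 : φ (f x) = 0 := hφ (LinearMap.mem_range_self f x)
      have e1 : f x = polar Q p x • ((1 : F), (0 : F)) + polar Q r x • ((0 : F), (1 : F)) := by
        simp [f, polarBilin_apply']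
      rw [e1, map_add, map_smul, map_smul, smul_eq_mul, smul_eq_mul] at h1
      linear_combination h1
    have h0 : φ (1, 0) • p + φ (0, 1) • r = 0 := hQ _ fun x => by
      rw [polar_add_left, polar_smul_left', polar_smul_left', key]
    obtain ⟨h1, h2⟩ := LinearIndependent.pair_iff.1 h _ _ h0
    refine hφ0 (LinearMap.ext fun z => ?_)
    rw [show z = z.1 • ((1 : F), (0 : F)) + z.2 • ((0 : F), (1 : F)) by simp, map_add, map_smul, map_smul, h1, h2]
    simp
  obtain ⟨a, ha⟩ := hf (1, 0)
  obtain ⟨b, hb⟩ := hf (0, 1)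
  exact ⟨a, b, congrArg Prod.fst ha, congrArg Prod.snd ha, congrArg Prod.fst hb, congrArg Prod.snd hb⟩

theorem L_eq [FiniteDimensional F V] (hQ : Nondeg Q) {p r : V} (h : Line Q p r) :
    L e p r = param (X e h) (X_add e h) := by
  refine le_antisymm ((Subgroup.closure_le _).2 fun σ hσ => ?_) ?_
  · obtain ⟨a, b, hpa, hra, hpb, hrb⟩ := exists_dual hQ h.1
    obtain ⟨hli, hp, hr, hpr⟩ := id h
    let W : V → V := fun x => x - polar Q p x • a - polar Q r x • b
    have hW : ∀ x, ap e σ (W x) = W x := fun x => hσ _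
      (by rw [polar_comm]; simp only [W, polar_sub_right, polar_smul_right', hpa, hpb]; ring)
      (by rw [polar_comm]; simp only [W, polar_sub_right, polar_smul_right', hra, hrb]; ring)
    have hσx : ∀ x, ap e σ x = x + polar Q p x • (ap e σ a - a) + polar Q r x • (ap e σ b - b) := fun x => by
      have h1 := hW x
      simp only [W, ap, map_sub, map_smul] at h1 ⊢
      linear_combination (norm := module) h1
    have hspan : ∀ y, (∀ x, polar Q y (W x) = 0) → y = polar Q y a • p + polar Q y b • r := fun y hy => by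
      refine eq_of_sub_eq_zero (hQ _ fun x => ?_)
      have h1 := hy x
      simp only [W, polar_sub_right, polar_smul_right'] at h1
      simp only [polar_sub_left, polar_add_left, polar_smul_left']
      linear_combination h1
    have horth : ∀ y x, polar Q (ap e σ y - y) (W x) = 0 := fun y x => by
      rw [polar_sub_left]
      nth_rewrite 1 [← hW x]
      rw [ap, ap, O.polar_app, sub_self]
    have ea := hspan _ (horth a)
    have eb := hspan _ (horth b)
    set α := polar Q (ap e σ a - a) a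
    set β := polar Q (ap e σ a - a) b
    set γ := polar Q (ap e σ b - b) a
    set δ := polar Q (ap e σ b - b) b
    have ea' : ap e σ a = a + (α • p + β • r) := by rw [← ea]; abel
    have eb' : ap e σ b = b + (γ • p + δ • r) := by rw [← eb]; abel
    have e1 : Q (ap e σ a) = Q a := O.map_app _ _
    have e2 : Q (ap e σ b) = Q b := O.map_app _ _
    have e3 : polar Q (ap e σ a) (ap e σ b) = polar Q a b := O.polar_app _ _ _
    rw [ea'] at e1; rw [eb'] at e2; rw [ea', eb'] at e3
    simp only [map_add_polar, qmap_smul, polar_add_left, polar_add_right, polar_smul_left', polar_smul_right', hp,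
      hr, hpr, h.pp, h.rr, h.rp, polar_comm (⇑Q) a p, polar_comm (⇑Q) a r, polar_comm (⇑Q) b p,
      polar_comm (⇑Q) b r, hpa, hra, hpb, hrb] at e1 e2 e3
    have hα : α = 0 := by linear_combination e1
    have hδ : δ = 0 := by linear_combination e2
    have hγ : γ = -β := by linear_combination e3
    refine ⟨-β, ap_ext e fun x => ?_⟩
    rw [ap_X, hσx, ea', eb', hα, hδ, hγ]
    module
  · rintro _ ⟨s, rfl⟩
    refine Subgroup.subset_closure fun v hvp hvr => ?_
    rw [ap_X, polar_comm (⇑Q) r v, polar_comm (⇑Q) p v, hvp, hvr]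
    simp

theorem L_change [FiniteDimensional F V] (hQ : Nondeg Q) {p r : V} (h : Line Q p r) {a b c d : F}
    (hd : a * d - b * c ≠ 0) : L e (a • p + b • r) (c • p + d • r) = L e p r := by
  rw [L_eq e hQ (h.change hd), L_eq e hQ h]
  ext g
  simp only [mem_param]
  exact ⟨fun ⟨s, hs⟩ => ⟨_, (X_change e h (h.change hd) rfl rfl s).symm.trans hs⟩,
    fun ⟨s, hs⟩ => ⟨s / (a * d - b * c), by rw [X_change e h (h.change hd) rfl rfl, div_mul_cancel₀ s hd]; exact hs⟩⟩

theorem L_swap [FiniteDimensional F V] (hQ : Nondeg Q) {p r : V} (h : Line Q p r) : L e r p = L e p r := by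
  have := L_change e hQ h (a := (0 : F)) (b := 1) (c := 1) (d := 0) (by simp)
  simpa using this

theorem Line.swap {p r : V} (h : Line Q p r) : Line Q r p := by
  have := h.change (a := (0 : F)) (b := 1) (c := 1) (d := 0) (by simp)
  simpa using this

/-- The linear map acting as `A` on two opposite lines. -/
def twoBlock (p r p' r' : V) (Q : QuadraticForm F V) (A : Matrix (Fin 2) (Fin 2) F) : V →ₗ[F] V :=
  LinearMap.id + ((A 0 0 - 1) • Q.polarBilin p' + A 0 1 • Q.polarBilin r).smulRight p +
    (A 1 0 • Q.polarBilin p' + (A 1 1 - 1) • Q.polarBilin r).smulRight r' +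
    ((A 0 0 - 1) • Q.polarBilin r' - A 0 1 • Q.polarBilin p).smulRight r +
    ((A 1 1 - 1) • Q.polarBilin p - A 1 0 • Q.polarBilin r').smulRight p'

theorem twoBlock_apply (p r p' r' : V) (A : Matrix (Fin 2) (Fin 2) F) (x : V) :
    twoBlock p r p' r' Q A x = x + ((A 0 0 - 1) * polar Q p' x + A 0 1 * polar Q r x) • p +
      (A 1 0 * polar Q p' x + (A 1 1 - 1) * polar Q r x) • r' +
      ((A 0 0 - 1) * polar Q r' x - A 0 1 * polar Q p x) • r +
      ((A 1 1 - 1) * polar Q p x - A 1 0 * polar Q r' x) • p' := rfl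

theorem twoBlock_mul {p r p' r' : V} (h : Line Q p r) (h' : Line Q p' r') (h1 : polar Q p p' = 1)
    (h2 : polar Q p r' = 0) (h3 : polar Q r p' = 0) (h4 : polar Q r r' = 1) (A B : Matrix (Fin 2) (Fin 2) F)
    (x : V) :
    twoBlock p r p' r' Q (A * B) x = twoBlock p r p' r' Q A (twoBlock p r p' r' Q B x) := by
  simp only [twoBlock_apply, Matrix.mul_apply, Fin.sum_univ_two, polar_add_right, polar_smul_right', h.pp, h.rr,
    h.rp, h.2.2.2, h'.pp, h'.rr, h'.rp, h'.2.2.2, h1, h2, h3, h4, polar_comm (⇑Q) p' p, polar_comm (⇑Q) p' r,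
    polar_comm (⇑Q) r' p, polar_comm (⇑Q) r' r]
  match_scalars <;> ring

theorem twoBlock_one (p r p' r' : V) (x : V) :
    twoBlock p r p' r' Q (1 : Matrix (Fin 2) (Fin 2) F) x = x := by
  simp [twoBlock_apply]

theorem rankOne_hom [FiniteDimensional F V] {p r p' r' : V} (h : Line Q p r) (h' : Line Q p' r')
    (h1 : polar Q p p' = 1) (h2 : polar Q p r' = 0) (h3 : polar Q r p' = 0) (h4 : polar Q r r' = 1)
    {G₀ : Subgroup G} (hm : ∀ s, X e h s ∈ G₀) (hm' : ∀ s, X e h' s ∈ G₀) :
    ∃ φ : SpecialLinearGroup (Fin 2) F →* G₀, φ.ker ≤ Subgroup.center _ ∧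
      (∀ t, (φ (upMat t) : G) = X e h t) ∧ ∀ t, (φ (lowMat t) : G) = X e h' (-1 * t) := by
  have hmul : ∀ (A B : SpecialLinearGroup (Fin 2) F) (x : V), twoBlock p r p' r' Q ↑(A * B) x =
      twoBlock p r p' r' Q (A : Matrix (Fin 2) (Fin 2) F) (twoBlock p r p' r' Q (B : Matrix (Fin 2) (Fin 2) F) x) :=
    fun A B x => twoBlock_mul h h' h1 h2 h3 h4 _ _ x
  have hone : ∀ x : V, twoBlock p r p' r' Q ((1 : SpecialLinearGroup (Fin 2) F) : Matrix (Fin 2) (Fin 2) F) x = x :=
    fun x => twoBlock_one p r p' r' x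
  let φ₁ : SpecialLinearGroup (Fin 2) F →* (V ≃ₗ[F] V) :=
    { toFun := fun A => LinearEquiv.ofLinearMap (twoBlock p r p' r' Q A) (twoBlock p r p' r' Q ↑A⁻¹)
        (LinearMap.ext fun x => by
          have h5 := hmul A A⁻¹ x
          rw [mul_inv_cancel, hone] at h5
          exact h5.symm)
        (LinearMap.ext fun x => by
          have h5 := hmul A⁻¹ A x
          rw [inv_mul_cancel, hone] at h5
          exact h5.symm)
      map_one' := LinearEquiv.ext hone
      map_mul' := fun A B => LinearEquiv.ext (hmul A B) }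
  let ι : G₀ →* (V ≃ₗ[F] V) := ((O Q).subtype.comp e.toMonoidHom).comp G₀.subtype
  have hι : Function.Injective ι := fun a b hab => Subtype.ext (e.injective (Subtype.ext hab))
  have hup : ∀ t, φ₁ (upMat t) = ι ⟨_, hm t⟩ := fun t => LinearEquiv.ext fun x => by
    show twoBlock p r p' r' Q _ x = ap e (X e h t) x
    rw [twoBlock_apply, ap_X, upMat_coe]
    simp
    module
  have hlow : ∀ t, φ₁ (lowMat t) = ι ⟨_, hm' (-1 * t)⟩ := fun t => LinearEquiv.ext fun x => by
    show twoBlock p r p' r' Q _ x = ap e (X e h' (-1 * t)) x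
    rw [twoBlock_apply, ap_X, lowMat_coe]
    simp
    module
  have hrange : ∀ A, φ₁ A ∈ ι.range := fun A => by
    have : (⊤ : Subgroup (SpecialLinearGroup (Fin 2) F)) ≤ ι.range.comap φ₁ := by
      rw [← lower_sup_upper]
      refine sup_le (fun g hg => ?_) (fun g hg => ?_)
      · obtain ⟨t, rfl⟩ := mem_lower_iff.1 hg; exact ⟨_, (hlow t).symm⟩
      · obtain ⟨t, rfl⟩ := mem_upper_iff.1 hg; exact ⟨_, (hup t).symm⟩
    exact this trivial
  let φ : SpecialLinearGroup (Fin 2) F →* G₀ :=
    (MonoidHom.ofInjective hι).symm.toMonoidHom.comp (φ₁.codRestrict ι.range hrange)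
  have hval : ∀ A, ι (φ A) = φ₁ A := fun A =>
    congrArg Subtype.val ((MonoidHom.ofInjective hι).apply_symm_apply ⟨φ₁ A, hrange A⟩)
  refine ⟨φ, fun A hA => ?_, fun t => congrArg Subtype.val (hι ((hval _).trans (hup t))),
    fun t => congrArg Subtype.val (hι ((hval _).trans (hlow t)))⟩
  have hk : φ₁ A = 1 := by rw [← hval, MonoidHom.mem_ker.1 hA, map_one]
  have hx : ∀ x, twoBlock p r p' r' Q A x = x := fun x => LinearEquiv.ext_iff.1 hk x
  have a1 := congrArg (fun y => polar Q p' y) (hx p)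
  have a2 := congrArg (fun y => polar Q r y) (hx p)
  have a3 := congrArg (fun y => polar Q p' y) (hx r')
  have a4 := congrArg (fun y => polar Q r y) (hx r')
  simp [twoBlock_apply, polar_add_right, polar_smul_right', h.pp, h.rr, h.rp, h.2.2.2, h'.pp, h'.rr, h'.rp,
    h'.2.2.2, h1, h2, h3, h4, polar_comm (⇑Q) p' p, polar_comm (⇑Q) p' r, polar_comm (⇑Q) r' p,
    polar_comm (⇑Q) r' r] at a1 a2 a3 a4
  have hA1 : A = 1 := Subtype.ext <| Matrix.ext fun i j => by
    fin_cases i <;> fin_cases j <;> simp [a1, a2, a3, a4]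
  exact hA1 ▸ one_mem _

/-- Normal forms for the pairing matrix of two lines. -/
theorem pair_cases [FiniteDimensional F V] (hQ : Nondeg Q) {p r p' r' : V} (h : Line Q p r) (h' : Line Q p' r') :
    (polar Q p p' = 0 ∧ polar Q p r' = 0 ∧ polar Q r p' = 0 ∧ polar Q r r' = 0) ∨
    (∃ a b, Line Q a b ∧ L e p' r' = L e a b ∧
      polar Q p a = 1 ∧ polar Q p b = 0 ∧ polar Q r a = 0 ∧ polar Q r b = 1) ∨
    (polar Q p p' * polar Q r r' = polar Q p r' * polar Q r p' ∧
      ∃ a b c d, Line Q a b ∧ Line Q c d ∧ L e p r = L e a b ∧ L e p' r' = L e c d ∧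
      polar Q a c = 0 ∧ polar Q a d = 0 ∧ polar Q b c = 0 ∧ polar Q b d = 1) := by
  by_cases h0 : polar Q p p' = 0 ∧ polar Q p r' = 0 ∧ polar Q r p' = 0 ∧ polar Q r r' = 0
  · exact Or.inl h0
  right
  by_cases hdet : polar Q p p' * polar Q r r' = polar Q p r' * polar Q r p'
  swap
  · left
    set Δ := polar Q p p' * polar Q r r' - polar Q p r' * polar Q r p' with hΔ
    have hΔ0 : Δ ≠ 0 := sub_ne_zero.2 hdet
    have hd : polar Q r r' / Δ * (polar Q p p' / Δ) - -polar Q r p' / Δ * (-polar Q p r' / Δ) ≠ 0 := by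
      have : polar Q r r' / Δ * (polar Q p p' / Δ) - -polar Q r p' / Δ * (-polar Q p r' / Δ) = Δ⁻¹ := by
        field_simp; rw [hΔ]; ring
      rw [this]; exact inv_ne_zero hΔ0
    refine ⟨_, _, h'.change hd, (L_change e hQ h' hd).symm, ?_, ?_, ?_, ?_⟩ <;>
      simp only [polar_add_right, polar_smul_right'] <;> field_simp <;> rw [hΔ] <;> ring
  right
  refine ⟨hdet, ?_⟩
  have key : ∀ p r p' r', Line Q p r → Line Q p' r' →
      polar Q p p' * polar Q r r' = polar Q p r' * polar Q r p' → polar Q r r' ≠ 0 →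
      ∃ a b c d, Line Q a b ∧ Line Q c d ∧ L e p r = L e a b ∧ L e p' r' = L e c d ∧
      polar Q a c = 0 ∧ polar Q a d = 0 ∧ polar Q b c = 0 ∧ polar Q b d = 1 := by
    intro p r p' r' h h' hdet hne
    have d1 : (1 : F) * 1 - -(polar Q p r' / polar Q r r') * 0 ≠ 0 := by simp
    have d2 : (1 : F) * (polar Q r r')⁻¹ - -(polar Q r p' / polar Q r r') * 0 ≠ 0 := by simp [hne]
    refine ⟨_, _, _, _, h.change d1, h'.change d2, (L_change e hQ h d1).symm, (L_change e hQ h' d2).symm,
      ?_, ?_, ?_, ?_⟩ <;>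
      simp only [polar_add_left, polar_add_right, polar_smul_left', polar_smul_right'] <;> field_simp
    · linear_combination hdet
    all_goals ring
  by_cases e4 : polar Q r r' ≠ 0
  · exact key p r p' r' h h' hdet e4
  push Not at e4
  by_cases e3 : polar Q r p' ≠ 0
  · rw [← L_swap e hQ h']
    exact key p r r' p' h h'.swap (by linear_combination -hdet) e3
  push Not at e3
  by_cases e2 : polar Q p r' ≠ 0
  · rw [← L_swap e hQ h]
    exact key r p p' r' h.swap h' (by linear_combination -hdet) e2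
  push Not at e2
  rw [← L_swap e hQ h, ← L_swap e hQ h']
  exact key r p r' p' h.swap h'.swap (by linear_combination hdet) fun e1 => h0 ⟨e1, e2, e3, e4⟩

section Set

variable [FiniteDimensional F V]

/-- The Siegel transvection groups. -/
def S : Set (Subgroup G) := {A | ∃ p r, Line Q p r ∧ A = L e p r}

theorem rankOne_opp (hQ : Nondeg Q) {p r p' r' : V} (h : Line Q p r) (h' : Line Q p' r')
    (h1 : polar Q p p' = 1) (h2 : polar Q p r' = 0) (h3 : polar Q r p' = 0) (h4 : polar Q r r' = 1) :
    Cfsg.IsRankOnePair (L e p r) (L e p' r') := by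
  obtain ⟨φ, hker, hup, hlow⟩ := rankOne_hom e h h' h1 h2 h3 h4 (G₀ := ⊤) (fun _ => trivial) (fun _ => trivial)
  have hU : (Cfsg.upperUnipotentSL2 F).map ((⊤ : Subgroup G).subtype.comp φ) = L e p r := by
    rw [L_eq e hQ h]
    exact map_upper_eq _ _ _ one_ne_zero fun t => by rw [one_mul]; exact hup t
  have hL : (Cfsg.lowerUnipotentSL2 F).map ((⊤ : Subgroup G).subtype.comp φ) = L e p' r' := by
    rw [L_eq e hQ h']
    exact map_lower_eq _ _ _ (neg_ne_zero.2 one_ne_zero) hlow
  have hres := (rankOne_of_hom ((⊤ : Subgroup G).subtype.comp φ) fun A hA => hker (Subtype.ext hA)).1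
  rwa [hU, hL] at hres

theorem adj_of_det (hQ : Nondeg Q) {p r p' r' : V} (h : Line Q p r) (h' : Line Q p' r')
    (hdet : polar Q p p' * polar Q r r' ≠ polar Q p r' * polar Q r p') :
    Cfsg.FAdj (S e) (L e p r) (L e p' r') := by
  refine ⟨⟨p, r, h, rfl⟩, ⟨p', r', h', rfl⟩, ?_⟩
  rcases pair_cases e hQ h h' with ⟨a, b, c, d⟩ | ⟨a, b, hab, he, h1, h2, h3, h4⟩ | ⟨h0, -⟩
  · exact absurd (by rw [a, b, d]; ring) hdet
  · exact he ▸ rankOne_opp e hQ h hab h1 h2 h3 h4
  · exact absurd h0 hdet

omit [FiniteDimensional F V] in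
theorem exists_singular_pair (hQ : Nondeg Q) {p : V} (hp : p ≠ 0) (hp0 : Q p = 0) :
    ∃ u, Q u = 0 ∧ polar Q p u = 1 := by
  obtain ⟨a, ha⟩ := hQ.exists_polar_ne hp
  refine ⟨(polar Q p a)⁻¹ • a - Q ((polar Q p a)⁻¹ • a) • p, ?_, ?_⟩
  · simp only [qmap_sub, qmap_smul, hp0, polar_smul_right', polar_smul_left', polar_comm (⇑Q) a p]
    field_simp
    ring
  · rw [polar_sub_right, polar_smul_right', polar_smul_right', polar_self', hp0, inv_mul_cancel₀ ha]; ring

theorem connected (hQ : Nondeg Q) (hn : 5 ≤ finrank F V)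
    (hz : ∀ p p' : V, ∃ z, z ≠ 0 ∧ Q z = 0 ∧ polar Q p z = 0 ∧ polar Q p' z = 0) :
    Cfsg.IsConnectedFamily (Cfsg.FAdj (S e)) (S e) := by
  have share : ∀ p r r', Line Q p r → Line Q p r' →
      Relation.ReflTransGen (Cfsg.FAdj (S e)) (L e p r) (L e p r') := by
    intro p r r' h h'
    obtain ⟨hli, hp, hr, hpr⟩ := id h
    obtain ⟨u, hu, hpu⟩ := exists_singular_pair hQ h.ne_left hp
    have huu : polar Q u u = 0 := by rw [polar_self', hu, mul_zero]
    set r₁ := r - polar Q r u • p with hr₁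
    set r₂ := r' - polar Q r' u • p with hr₂
    have P1 : polar Q p r₁ = 0 ∧ polar Q r₁ u = 0 ∧ Q r₁ = 0 := by
      simp only [hr₁, polar_sub_left, polar_sub_right, polar_smul_left', polar_smul_right', qmap_sub, qmap_smul,
        hp, hr, hpr, h.pp, h.rp, hpu]
      exact ⟨by ring, by ring, by ring⟩
    have P2 : polar Q p r₂ = 0 ∧ polar Q r₂ u = 0 ∧ Q r₂ = 0 := by
      simp only [hr₂, polar_sub_left, polar_sub_right, polar_smul_left', polar_smul_right', qmap_sub, qmap_smul,
        hp, h'.2.2.1, h'.2.2.2, h.pp, h'.rp, hpu]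
      exact ⟨by ring, by ring, by ring⟩
    have r1ne : r₁ ≠ 0 := fun h0 => by
      have := (LinearIndependent.pair_iff.1 hli (-polar Q r u) 1 (by rw [← h0, hr₁]; module)).2
      exact one_ne_zero this
    have r2ne : r₂ ≠ 0 := fun h0 => by
      have := (LinearIndependent.pair_iff.1 h'.1 (-polar Q r' u) 1 (by rw [← h0, hr₂]; module)).2
      exact one_ne_zero this
    suffices hv : ∃ v, Q v = 0 ∧ polar Q p v = 0 ∧ polar Q u v = 0 ∧ polar Q r₁ v ≠ 0 ∧ polar Q r₂ v ≠ 0 by
      obtain ⟨v, hv, hpv, huv, hv1, hv2⟩ := hv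
      have hline : Line Q u v := by
        refine ⟨LinearIndependent.pair_iff.2 fun s t hst => ?_, hu, hv, huv⟩
        have e1 := congrArg (fun y => polar Q p y) hst
        have e2 := congrArg (fun y => polar Q r₁ y) hst
        simp [polar_add_right, polar_smul_right', hpu, hpv, P1.2.1, hv1] at e1 e2
        exact ⟨e1, e2⟩
      have hd : ∀ ρ ρ', ρ = r₁ ∧ ρ' = r ∨ ρ = r₂ ∧ ρ' = r' →
          polar Q p u * polar Q ρ' v ≠ polar Q p v * polar Q ρ' u := by
        rintro ρ ρ' (⟨rfl, rfl⟩ | ⟨rfl, rfl⟩)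
        · rw [hpu, hpv, zero_mul, one_mul]
          simpa [hr₁, polar_sub_left, polar_smul_left', hpv] using hv1
        · rw [hpu, hpv, zero_mul, one_mul]
          simpa [hr₂, polar_sub_left, polar_smul_left', hpv] using hv2
      refine (Relation.ReflTransGen.single (adj_of_det e hQ h hline (hd r₁ r (Or.inl ⟨rfl, rfl⟩)))).tail ?_
      have h2 := adj_of_det e hQ h' hline (hd r₂ r' (Or.inr ⟨rfl, rfl⟩))
      exact ⟨h2.2.1, h2.1, Cfsg.RankOnePair_symm h2.2.2⟩
    by_cases h12 : polar Q r₁ r₂ = 0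
    · obtain ⟨x, hx1, hx2⟩ : ∃ x, polar Q r₁ x ≠ 0 ∧ polar Q r₂ x ≠ 0 := by
        obtain ⟨a, ha⟩ := hQ.exists_polar_ne r1ne
        obtain ⟨b, hb⟩ := hQ.exists_polar_ne r2ne
        by_cases ha' : polar Q r₂ a = 0
        · by_cases hb' : polar Q r₁ b = 0
          · refine ⟨a + b, ?_, ?_⟩ <;> rw [polar_add_right]
            · rwa [hb', add_zero]
            · rwa [ha', zero_add]
          · exact ⟨b, hb', hb⟩
        · exact ⟨a, ha, ha'⟩
      set v := x - polar Q p x • u - polar Q u x • p with hv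
      have q1 : polar Q p v = 0 ∧ polar Q u v = 0 := by
        simp only [hv, polar_sub_right, polar_smul_right', hpu, h.pp, huu, polar_comm (⇑Q) u p]
        constructor <;> ring
      have q2 : polar Q r₁ v = polar Q r₁ x ∧ polar Q r₂ v = polar Q r₂ x := by
        simp only [hv, polar_sub_right, polar_smul_right', polar_comm (⇑Q) r₁ p, polar_comm (⇑Q) r₂ p, P1.1, P2.1,
          P1.2.1, P2.2.1]
        constructor <;> ring
      refine ⟨v + -(Q v / polar Q r₁ x) • r₁, ?_, ?_, ?_, ?_, ?_⟩
      · rw [map_add_polar, qmap_smul, P1.2.2, polar_smul_right', polar_comm (⇑Q) v r₁, q2.1]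
        field_simp; ring
      · rw [polar_add_right, polar_smul_right', P1.1, q1.1]; ring
      · rw [polar_add_right, polar_smul_right', polar_comm (⇑Q) u r₁, P1.2.1, q1.2]; ring
      · rw [polar_add_right, polar_smul_right', polar_self', P1.2.2, q2.1]; simpa using hx1
      · rw [polar_add_right, polar_smul_right', polar_comm (⇑Q) r₂ r₁, h12, q2.2]; simpa using hx2
    · let proj : V → V := fun x => x - polar Q p x • u - polar Q u x • p -
        (polar Q r₁ x / polar Q r₁ r₂) • r₂ - (polar Q r₂ x / polar Q r₁ r₂) • r₁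
      have hproj : ∀ x, polar Q p (proj x) = 0 ∧ polar Q u (proj x) = 0 ∧ polar Q r₁ (proj x) = 0 ∧
          polar Q r₂ (proj x) = 0 := fun x => by
        simp only [proj, polar_sub_right, polar_smul_right', hpu, h.pp, huu, P1.1, P1.2.1, P2.1, P2.2.1,
          polar_comm (⇑Q) u p, polar_comm (⇑Q) u r₁, polar_comm (⇑Q) u r₂, polar_comm (⇑Q) r₁ p,
          polar_comm (⇑Q) r₂ p, polar_comm (⇑Q) r₂ r₁, polar_self', P1.2.2, P2.2.2]
        refine ⟨?_, ?_, ?_, ?_⟩ <;> field_simp <;> ring
      obtain ⟨z₀, hz₀⟩ : ∃ x, Q (proj x) ≠ 0 := by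
        by_contra hcon
        push Not at hcon
        have hzero : ∀ x, proj x = 0 := fun x => hQ _ fun y => by
          obtain ⟨a1, a2, a3, a4⟩ := hproj x
          have e1 : y = proj y + polar Q p y • u + polar Q u y • p + (polar Q r₁ y / polar Q r₁ r₂) • r₂ +
              (polar Q r₂ y / polar Q r₁ r₂) • r₁ := by simp only [proj]; module
          have e2 : polar Q (proj x) (proj y) = 0 := by
            have hsum : proj x + proj y = proj (x + y) := by
              simp only [proj, polar_add_right]; match_scalars <;> ring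
            rw [polar, hsum, hcon, hcon, hcon]; ring
          rw [e1]
          simp only [polar_add_right, polar_smul_right', polar_comm (⇑Q) (proj x) p, polar_comm (⇑Q) (proj x) u,
            polar_comm (⇑Q) (proj x) r₁, polar_comm (⇑Q) (proj x) r₂, a1, a2, a3, a4, e2]
          ring
        have hle : finrank F V ≤ 4 := by
          have htop : Submodule.span F (Set.range ![u, p, r₂, r₁]) = ⊤ := by
            rw [eq_top_iff]
            intro x _
            rw [Submodule.mem_span_range_iff_exists_fun]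
            refine ⟨![polar Q p x, polar Q u x, polar Q r₁ x / polar Q r₁ r₂, polar Q r₂ x / polar Q r₁ r₂], ?_⟩
            have h5 := hzero x
            simp only [proj] at h5
            simp [Fin.sum_univ_four]
            linear_combination (norm := module) -h5
          have h6 := finrank_range_le_card (R := F) ![u, p, r₂, r₁]
          rw [Set.finrank, htop, finrank_top, Fintype.card_fin] at h6
          exact h6
        omega
      obtain ⟨a1, a2, a3, a4⟩ := hproj z₀
      refine ⟨r₁ + -(Q (proj z₀) / polar Q r₁ r₂) • r₂ + proj z₀, ?_, ?_, ?_, ?_, ?_⟩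
      · simp only [map_add_polar, qmap_smul, polar_add_left, polar_smul_left', polar_smul_right', P1.2.2, P2.2.2,
          a3, a4]
        field_simp; ring
      · simp only [polar_add_right, polar_smul_right', P1.1, P2.1, a1]; ring
      · simp only [polar_add_right, polar_smul_right', polar_comm (⇑Q) u r₁, polar_comm (⇑Q) u r₂, P1.2.1,
          P2.2.1, a2]
        ring
      · simp only [polar_add_right, polar_smul_right', polar_self', P1.2.2, a3]
        simp [h12, hz₀]
      · simp only [polar_add_right, polar_smul_right', polar_self', P2.2.2, a4, polar_comm (⇑Q) r₂ r₁]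
        simpa using h12
  rintro _ ⟨p, r, h, rfl⟩ _ ⟨p', r', h', rfl⟩
  by_cases hpp : polar Q p p' = 0
  · by_cases hli : LinearIndependent F ![p, p']
    · have hl : Line Q p p' := ⟨hli, h.2.1, h'.2.1, hpp⟩
      refine (share p r p' h hl).trans ?_
      rw [← L_swap e hQ hl]
      exact share p' p r' hl.swap h'
    · rw [linearIndependent_fin2] at hli
      simp only [Matrix.cons_val_one, Matrix.cons_val_zero, not_and, not_forall, not_not] at hli
      obtain ⟨a, ha⟩ := hli h'.ne_left
      have ha0 : a ≠ 0 := fun h0 => h.ne_left (by rw [← ha, h0, zero_smul])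
      have hd : a * 1 - 0 * 0 ≠ (0 : F) := by simpa using ha0
      have e1 := L_change e hQ h' hd
      have h'' := h'.change hd
      simp only [zero_smul, add_zero, zero_add, one_smul, ha] at e1 h''
      rw [← e1]
      exact share p r r' h h''
  · obtain ⟨z, hz0, hz1, hzp, hzp'⟩ := hz p p'
    have hl : Line Q p z := by
      refine ⟨LinearIndependent.pair_iff.2 fun s t hst => ?_, h.2.1, hz1, hzp⟩
      have e1 := congrArg (fun y => polar Q p' y) hst
      simp [polar_add_right, polar_smul_right', hzp', polar_comm (⇑Q) p' p, hpp] at e1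
      subst e1
      exact ⟨rfl, by simpa [hz0] using hst⟩
    have hl' : Line Q p' z := by
      refine ⟨LinearIndependent.pair_iff.2 fun s t hst => ?_, h'.2.1, hz1, hzp'⟩
      have e1 := congrArg (fun y => polar Q p y) hst
      simp [polar_add_right, polar_smul_right', hzp, hpp] at e1
      subst e1
      exact ⟨rfl, by simpa [hz0] using hst⟩
    refine (share p r z h hl).trans ?_
    rw [← L_swap e hQ hl]
    refine (share z p p' hl.swap hl'.swap).trans ?_
    rw [L_swap e hQ hl']
    exact share p' z r' hl' h'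

theorem main (hQ : Nondeg Q) :
    Cfsg.IsKRootSubgroupSet F ((fun A : Subgroup G => A.subgroupOf (⨆ B ∈ S e, B)) '' S e) := by
  set T := (fun A : Subgroup G => A.subgroupOf (⨆ B ∈ S e, B)) '' S e with hTdef
  let G₀ := ⨆ B ∈ S e, B
  have hle : ∀ {p r : V} (h : Line Q p r) (s : F), X e h s ∈ G₀ := fun {p r} h s =>
    le_iSup₂ (f := fun B (_ : B ∈ S e) => B) (L e p r) ⟨p, r, h, rfl⟩ (by rw [L_eq e hQ h]; exact ⟨s, rfl⟩)
  let Y : ∀ {p r : V}, Line Q p r → Subgroup G₀ := fun {p r} h =>
    param (fun s => ⟨X e h s, hle h s⟩) (fun s t => Subtype.ext (X_add e h s t))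
  have hY : ∀ {p r : V} (h : Line Q p r), (L e p r).subgroupOf G₀ = Y h := fun {p r} h => by
    ext g
    rw [Subgroup.mem_subgroupOf, L_eq e hQ h]
    exact ⟨fun ⟨s, hs⟩ => ⟨s, Subtype.ext hs⟩, fun ⟨s, hs⟩ => ⟨s, congrArg Subtype.val hs⟩⟩
  have hYeq : ∀ {p r a b : V} (h : Line Q p r) (h' : Line Q a b), L e p r = L e a b → Y h = Y h' :=
    fun {p r a b} h h' he => by rw [← hY h, ← hY h', he]
  have hT : T = {A | ∃ (p r : V) (h : Line Q p r), A = Y h} := by
    ext A
    constructor
    · rintro ⟨B, ⟨p, r, h, rfl⟩, rfl⟩; exact ⟨p, r, h, hY h⟩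
    · rintro ⟨p, r, h, rfl⟩; exact ⟨_, ⟨p, r, h, rfl⟩, hY h⟩
  have hcomm : ∀ A ∈ T, ∀ x ∈ A, ∀ y ∈ A, x * y = y * x := by
    rw [hT]; rintro _ ⟨p, r, h, rfl⟩; exact param_comm
  have hbot : ∀ A ∈ T, A ≠ ⊥ := by
    rw [hT]; rintro _ ⟨p, r, h, rfl⟩ hb
    obtain ⟨a, b, hpa, hra, hpb, hrb⟩ := exists_dual hQ h.1
    have h1 := Subgroup.mem_bot.1 ((SetLike.ext_iff.1 hb _).1 (⟨1, rfl⟩ : (⟨X e h 1, hle h 1⟩ : G₀) ∈ Y h))
    have h2 := congrArg (fun g : G₀ => ap e (g : G) b) h1
    simp only [OneMemClass.coe_one, ap_one, ap_X, hrb, hpb] at h2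
    exact h.ne_left (by linear_combination (norm := module) h2)
  have hpair : ∀ A ∈ T, ∀ B ∈ T, ⁅A, B⁆ = ⊥ ∨
      (Cfsg.IsRankOnePair A B ∧ Cfsg.IsPSL2PairOver F A B) ∨ Cfsg.RootCommutatorCase T A B := by
    intro A hA B hB
    rw [hT] at hA hB
    obtain ⟨p, r, h, rfl⟩ := hA
    obtain ⟨p', r', h', rfl⟩ := hB
    have hfix : ∀ {a b c d : V} (hab : Line Q a b) (t : F), polar Q a c = 0 → polar Q b c = 0 →
        ap e (X e hab t) c = c := fun hab t e1 e2 => by rw [ap_X, e1, e2]; simp
    rcases pair_cases e hQ h h' with ⟨h1, h2, h3, h4⟩ | ⟨a, b, hab, he, h1, h2, h3, h4⟩ |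
      ⟨-, a, b, c, d, hab, hcd, he, he', h1, h2, h3, h4⟩
    · left
      refine bot_of_commute ?_
      rintro _ ⟨s, rfl⟩ _ ⟨t, rfl⟩
      refine Subtype.ext (ap_ext e fun v => ?_)
      simp only [Subgroup.coe_mul, ap_mul, ap_X, polar_add_right, polar_sub_right, polar_smul_right', h1, h2, h3,
        h4, polar_comm (⇑Q) p' p, polar_comm (⇑Q) p' r, polar_comm (⇑Q) r' p, polar_comm (⇑Q) r' r]
      module
    · right; left
      rw [hYeq h' hab he]
      obtain ⟨φ, hker, hup, hlow⟩ := rankOne_hom e h hab h1 h2 h3 h4 (hle h) (hle hab)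
      have hU : (Cfsg.upperUnipotentSL2 F).map φ = Y h :=
        map_upper_eq φ _ _ one_ne_zero fun t => Subtype.ext (by rw [one_mul]; exact hup t)
      have hL : (Cfsg.lowerUnipotentSL2 F).map φ = Y hab :=
        map_lower_eq φ _ _ (neg_ne_zero.2 one_ne_zero) fun t => Subtype.ext (hlow t)
      have hres := rankOne_of_hom φ hker
      rwa [hU, hL] at hres
    · rw [hYeq h hab he, hYeq h' hcd he']
      have cc : ∀ s t x, ap e (X e hab s * X e hcd t * (X e hab s)⁻¹ * (X e hcd t)⁻¹) x =
          x + (s * t) • (polar Q a x • c - polar Q c x • a) := fun s t x => by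
        rw [X_conj]
        have hi : (X e hcd t)⁻¹ = X e hcd (-t) := inv_eq_of_mul_eq_one_right (by
          rw [← X_add, add_neg_cancel]
          refine ap_ext e fun y => ?_
          rw [ap_X, ap_one]; simp)
        rw [hi, ap_mul, ap_X, ap_X, ap_X, ap_X]
        simp only [polar_add_left, polar_add_right, polar_sub_left, polar_sub_right, polar_smul_left',
          polar_smul_right', hcd.pp, hcd.rr, hcd.rp, hcd.2.2.2, hab.pp, hab.rr, hab.rp, hab.2.2.2, h1, h2, h3, h4,
          polar_comm (⇑Q) c a, polar_comm (⇑Q) c b, polar_comm (⇑Q) d a, polar_comm (⇑Q) d b]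
        match_scalars <;> ring
      by_cases hli : LinearIndependent F ![c, a]
      · right; right
        have hca : Line Q c a := ⟨hli, hcd.2.1, hab.2.1, by rw [polar_comm, h1]⟩
        refine commCase_of (k := F) (fun s => (⟨X e hab s, hle hab s⟩ : G₀)) (fun s => ⟨X e hcd s, hle hcd s⟩)
          (fun s => ⟨X e hca s, hle hca s⟩) ?_ ?_ (fun g => Iff.rfl) (fun g => Iff.rfl)
          (C := Y hca) (fun g => Iff.rfl) (one_ne_zero (α := F)) ?_ ?_ ?_ (hT ▸ ⟨c, a, hca, rfl⟩)
        · exact Subtype.ext (ap_ext e fun x => by simp [ap_X, ap_one])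
        · exact Subtype.ext (ap_ext e fun x => by simp [ap_X, ap_one])
        · intro s t
          refine Subtype.ext (ap_ext e fun x => ?_)
          simp only [Subgroup.coe_mul, Subgroup.coe_inv, cc, ap_X, mul_one]
          module
        · intro u s
          refine Subtype.ext (ap_ext e fun x => ?_)
          simp only [Subgroup.coe_mul, ap_mul, ap_X, polar_add_right, polar_sub_right, polar_smul_right', hab.pp,
            hab.rr, hab.rp, hab.2.2.2, hcd.pp, h1, h2, h3, h4, polar_comm (⇑Q) c a, polar_comm (⇑Q) c b]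
          module
        · intro u s
          refine Subtype.ext (ap_ext e fun x => ?_)
          simp only [Subgroup.coe_mul, ap_mul, ap_X, polar_add_right, polar_sub_right, polar_smul_right', hcd.pp,
            hcd.rr, hcd.rp, hcd.2.2.2, hab.pp, h1, h2, h3, h4, polar_comm (⇑Q) c a, polar_comm (⇑Q) c b,
            polar_comm (⇑Q) d a]
          module
      · left
        rw [linearIndependent_fin2] at hli
        simp only [Matrix.cons_val_one, Matrix.cons_val_zero, not_and, not_forall, not_not] at hli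
        obtain ⟨μ, hμ⟩ := hli hab.ne_left
        refine bot_of_commute ?_
        rintro _ ⟨s, rfl⟩ _ ⟨t, rfl⟩
        have h5 : X e hab s * X e hcd t * (X e hab s)⁻¹ * (X e hcd t)⁻¹ = 1 := ap_ext e fun x => by
          rw [cc, ap_one, ← hμ, polar_smul_left']
          module
        exact Subtype.ext (by
          simpa only [Subgroup.coe_mul] using (mul_inv_eq_iff_eq_mul.1 (mul_inv_eq_one.1 h5)))
  have hconj : ∀ A ∈ T, ∀ g : G₀, Cfsg.conjBy A g ∈ T := by
    rw [hT]
    rintro _ ⟨p, r, h, rfl⟩ g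
    refine ⟨_, _, h.map e (g : G), ?_⟩
    ext x
    constructor
    · rintro ⟨_, ⟨s, rfl⟩, rfl⟩; exact ⟨s, Subtype.ext (X_conj e h _ s).symm⟩
    · rintro ⟨s, rfl⟩; exact ⟨_, ⟨s, rfl⟩, Subtype.ext (X_conj e h _ s)⟩
  have hgen : (⨆ A ∈ T, A) = ⊤ := by
    have hsub : ∀ B ∈ S e, B ≤ (⨆ A ∈ T, A).map G₀.subtype := fun B hB x hx =>
      ⟨⟨x, le_iSup₂ (f := fun B (_ : B ∈ S e) => B) B hB hx⟩,
        le_iSup₂ (f := fun A (_ : A ∈ T) => A) _ ⟨B, hB, rfl⟩ hx, rfl⟩
    rw [eq_top_iff]
    intro g _
    obtain ⟨g', hg', e'⟩ := (iSup₂_le hsub : G₀ ≤ _) g.2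
    exact Subtype.ext e' ▸ hg'
  refine ⟨{ commutative := fun A hA => ⟨⟨fun x y => Subtype.ext (hcomm A hA _ x.2 _ y.2)⟩⟩
            ne_bot := hbot
            generates := hgen
            conj_mem := hconj
            pair := fun A hA B hB => (hpair A hA B hB).imp_right (Or.imp_left And.left) }, fun A hA B hB h => ?_⟩
  rcases hpair A hA B hB with h' | h' | h'
  · exact absurd h' (not_commute_of_rankOne h)
  · exact h'.2
  · exact absurd h' (not_commCase_of_rankOne h (hcomm A hA))

end Set

end Cfsg.Agent.H96.SiegelRoot
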