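import Mathlib

set_option autoImplicit false

/-!
Singer groups: multiplications of a field extension inside the linear group.
-/

namespace Cfsg.Agent.H96

variable (F K : Type*) [Field F] [Field K] [Algebra F K]

/-- Multiplication by the units of `K` as `F`-linear automorphisms. -/
noncomputable abbrev mulU : Kˣ →* (Module.End F K)ˣ :=
  Units.map ((Algebra.lmul F K : K →ₐ[F] Module.End F K) : K →* Module.End F K)

variable {F K}

theorem mulU_apply (a : Kˣ) (y : K) : ((mulU F K a : (Module.End F K)ˣ) : Module.End F K) y = (a : K) * y := rfl

theorem mulU_injective : Function.Injective (mulU F K) := by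
  intro a b h
  have := congrArg (fun u : (Module.End F K)ˣ => (u : Module.End F K) 1) h
  simpa [mulU_apply, Units.ext_iff] using this

theorem units_ext {g h : (Module.End F K)ˣ} (hh : ∀ y, (g : Module.End F K) y = (h : Module.End F K) y) : g = h :=
  Units.ext (LinearMap.ext hh)

theorem units_apply_inv_apply (g : (Module.End F K)ˣ) (y : K) :
    (g : Module.End F K) (((g⁻¹ : (Module.End F K)ˣ) : Module.End F K) y) = y := by
  rw [← Module.End.mul_apply, Units.mul_inv, Module.End.one_apply]

theorem units_inv_apply_apply (g : (Module.End F K)ˣ) (y : K) :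
    ((g⁻¹ : (Module.End F K)ˣ) : Module.End F K) ((g : Module.End F K) y) = y := by
  rw [← Module.End.mul_apply, Units.inv_mul, Module.End.one_apply]

end Cfsg.Agent.H96
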