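import Mathlib
import Cfsg.Agent.H96.TensorPower
import Cfsg.Agent.H96.OmegaBridge

set_option autoImplicit false

/-!
In characteristic two the stabiliser of a tensor power decomposition normalises a space spanned by
operators on the slots, and is smaller than that normaliser.
-/

namespace Cfsg.Agent.H96

open QuadraticMap Module Cfsg.Agent.Orthogonal TensorPower
open scoped commutatorElement

variable {F : Type*} [Field F] {k t : ℕ}

/-- The operators spanned by the identity and the slot operators from `U`. -/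
def slotSpan (t : ℕ) (U : Set ((Fin k → F) →ₗ[F] (Fin k → F))) : Submodule F (Sp F k t →ₗ[F] Sp F k t) :=
  Submodule.span F (insert LinearMap.id {m | ∃ i, ∃ b ∈ U, slot i b = m})

variable {U : Set ((Fin k → F) →ₗ[F] (Fin k → F))}

theorem slot_mem {i : Fin t} {b : (Fin k → F) →ₗ[F] (Fin k → F)} (hb : b ∈ U) : slot i b ∈ slotSpan t U :=
  Submodule.subset_span (Or.inr ⟨i, b, hb, rfl⟩)

theorem id_mem : (LinearMap.id : Sp F k t →ₗ[F] Sp F k t) ∈ slotSpan t U :=
  Submodule.subset_span (Or.inl rfl)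

/-- `g` maps the slot span into itself by conjugation. -/
def PresL (Q : QuadraticForm F (Sp F k t)) (U : Set ((Fin k → F) →ₗ[F] (Fin k → F))) (g : O Q) : Prop :=
  ∀ l ∈ slotSpan t U, ((g : Sp F k t ≃ₗ[F] Sp F k t) : Sp F k t →ₗ[F] Sp F k t) ∘ₗ l ∘ₗ
    (((g⁻¹ : O Q) : Sp F k t ≃ₗ[F] Sp F k t) : Sp F k t →ₗ[F] Sp F k t) ∈ slotSpan t U

theorem PresL.mk {Q : QuadraticForm F (Sp F k t)} (g : O Q)
    (h : ∀ (i : Fin t), ∀ b ∈ U, ((g : Sp F k t ≃ₗ[F] Sp F k t) : Sp F k t →ₗ[F] Sp F k t) ∘ₗ slot i b ∘ₗ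
      (((g⁻¹ : O Q) : Sp F k t ≃ₗ[F] Sp F k t) : Sp F k t →ₗ[F] Sp F k t) ∈ slotSpan t U) : PresL Q U g := by
  intro l hl
  induction hl using Submodule.span_induction with
  | mem m hm =>
    rcases hm with rfl | ⟨i, b, hb, rfl⟩
    · convert id_mem (U := U) (t := t) using 1
      refine LinearMap.ext fun x => ?_
      show (g : Sp F k t ≃ₗ[F] Sp F k t) (((g⁻¹ : O Q) : Sp F k t ≃ₗ[F] Sp F k t) x) = x
      rw [← mul_app, ← Subgroup.coe_mul, mul_inv_cancel]
      rfl
    · exact h i b hb
  | zero => simp only [LinearMap.zero_comp, LinearMap.comp_zero]; exact Submodule.zero_mem _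
  | add a b _ _ ha hb => simp only [LinearMap.add_comp, LinearMap.comp_add]; exact Submodule.add_mem _ ha hb
  | smul a b _ hb => simp only [LinearMap.smul_comp, LinearMap.comp_smul]; exact Submodule.smul_mem _ a hb

/-- The normaliser of the slot span. -/
def slotStab (Q : QuadraticForm F (Sp F k t)) (U : Set ((Fin k → F) →ₗ[F] (Fin k → F))) : Subgroup (O Q) where
  carrier := {g | PresL Q U g ∧ PresL Q U g⁻¹}
  one_mem' := by
    have h : PresL Q U 1 := fun l hl => by
      rw [inv_one]
      exact hl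
    exact ⟨h, by rw [inv_one]; exact h⟩
  mul_mem' := by
    have key : ∀ g h : O Q, PresL Q U g → PresL Q U h → PresL Q U (g * h) := fun g h hg hh l hl => by
      have := hg _ (hh l hl)
      rw [mul_inv_rev]
      exact this
    rintro g h ⟨hg, hg'⟩ ⟨hh, hh'⟩
    exact ⟨key g h hg hh, by rw [mul_inv_rev]; exact key _ _ hh' hg'⟩
  inv_mem' := fun {g} hg => ⟨hg.2, by rw [inv_inv]; exact hg.1⟩

/-- The data used for one factor. -/
structure SlotData (β : (Fin k → F) →ₗ[F] (Fin k → F) →ₗ[F] F) (U : Set ((Fin k → F) →ₗ[F] (Fin k → F)))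
    (a : (Fin k → F) →ₗ[F] (Fin k → F)) (τ : (Fin k → F) ≃ₗ[F] (Fin k → F)) : Prop where
  a_mem : a ∈ U
  a_sq : a ∘ₗ a = 0
  a_adj : ∀ x y, β (a x) y = β x (a y)
  anticomm : ∀ b ∈ U, ∃ μ : F, a ∘ₗ b + b ∘ₗ a = μ • LinearMap.id
  conj : ∀ (g : (Fin k → F) ≃ₗ[F] (Fin k → F)) (r : F), r ≠ 0 → (∀ x y, β (g x) (g y) = r * β x y) →
    ∀ b ∈ U, ∃ (μ : F) (b' : (Fin k → F) →ₗ[F] (Fin k → F)), b' ∈ U ∧
      (g : (Fin k → F) →ₗ[F] (Fin k → F)) ∘ₗ b = μ • (b' ∘ₗ (g : (Fin k → F) →ₗ[F] (Fin k → F)))
  τ_sq : ∀ x, τ (τ x) = x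
  τ_form : ∀ x y, β (τ x) (τ y) = β x y

variable {Q : QuadraticForm F (Sp F k t)} {β : (Fin k → F) →ₗ[F] (Fin k → F) →ₗ[F] F} {c : F}

theorem polar_ext {ψ φ ψ' φ' : Sp F k t →ₗ[F] Sp F k t}
    (h : ∀ x y, polar Q (ψ (pureT x)) (φ (pureT y)) = polar Q (ψ' (pureT x)) (φ' (pureT y))) (u v : Sp F k t) :
    polar Q (ψ u) (φ v) = polar Q (ψ' u) (φ' v) := by
  have h1 : ∀ x, (Q.polarBilin (ψ (pureT x))).comp φ = (Q.polarBilin (ψ' (pureT x))).comp φ' :=
    fun x => ext_pure fun y => h x y
  have h2 : (Q.polarBilin.flip (φ v)).comp ψ = (Q.polarBilin.flip (φ' v)).comp ψ' :=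
    ext_pure fun x => LinearMap.congr_fun (h1 x) v
  exact LinearMap.congr_fun h2 u

/-- An isometry from its behaviour on pure tensors. -/
noncomputable def isoOfPure (ψ : Sp F k t ≃ₗ[F] Sp F k t)
    (hB : ∀ x y, polar Q (ψ (pureT x)) (ψ (pureT y)) = polar Q (pureT x) (pureT y))
    (hQ : ∀ x, Q (ψ (pureT x)) = Q (pureT x)) : O Q :=
  ⟨ψ, fun v => by
    have hpol : ∀ u w, polar Q (ψ u) (ψ w) = polar Q u w := fun u w =>
      polar_ext (ψ := (ψ : Sp F k t →ₗ[F] Sp F k t)) (φ := (ψ : Sp F k t →ₗ[F] Sp F k t))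
        (ψ' := LinearMap.id) (φ' := LinearMap.id) hB u w
    let W : Submodule F (Sp F k t) :=
      { carrier := {u | Q (ψ u) = Q u}
        zero_mem' := by simp
        add_mem' := fun {u w} hu hw => by
          show Q (ψ (u + w)) = Q (u + w)
          rw [map_add, map_add_polar, map_add_polar, hu, hw, hpol]
        smul_mem' := fun r u hu => by
          show Q (ψ (r • u)) = Q (r • u)
          rw [map_smul, qmap_smul, qmap_smul, hu] }
    have hW : W = ⊤ := span_pure fun x => hQ x
    exact (hW ▸ Submodule.mem_top : v ∈ W)⟩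

theorem isoOfPure_app (ψ : Sp F k t ≃ₗ[F] Sp F k t)
    (hB : ∀ x y, polar Q (ψ (pureT x)) (ψ (pureT y)) = polar Q (pureT x) (pureT y))
    (hQ : ∀ x, Q (ψ (pureT x)) = Q (pureT x)) (v : Sp F k t) :
    ((isoOfPure ψ hB hQ : O Q) : Sp F k t ≃ₗ[F] Sp F k t) v = ψ v := rfl

theorem prod_update_form (x y : Fin t → Fin k → F) (i : Fin t) (v : Fin k → F) :
    (∏ l, β (Function.update x i v l) (y l)) = β v (y i) * ∏ l ∈ Finset.univ.erase i, β (x l) (y l) := by
  rw [← Finset.mul_prod_erase _ _ (Finset.mem_univ i), Function.update_self]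
  congr 1
  exact Finset.prod_congr rfl fun l hl => by rw [Function.update_of_ne (Finset.ne_of_mem_erase hl)]

theorem slot_adjoint (hB : ∀ x y, polar Q (pureT x) (pureT y) = c * ∏ l, β (x l) (y l))
    {a : (Fin k → F) →ₗ[F] (Fin k → F)} (ha : ∀ x y, β (a x) y = β x (a y)) (i : Fin t) (u v : Sp F k t) :
    polar Q (slot i a u) v = polar Q u (slot i a v) := by
  refine polar_ext (ψ := slot i a) (φ := LinearMap.id) (ψ' := LinearMap.id) (φ' := slot i a) (fun x y => ?_) u v
  simp only [LinearMap.id_apply, slot_pureT, hB]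
  congr 1
  refine Finset.prod_congr rfl fun l _ => ?_
  by_cases hl : l = i
  · subst hl; simp [ha]
  · simp [Function.update_of_ne hl]

theorem wreath_pres {a : (Fin k → F) →ₗ[F] (Fin k → F)} {τ : (Fin k → F) ≃ₗ[F] (Fin k → F)}
    (S : SlotData β U a τ) (hB : ∀ x y, polar Q (pureT x) (pureT y) = c * ∏ l, β (x l) (y l)) (hc : c ≠ 0)
    {e e' : Fin k → F} (hee : β e e' = 1) (g : O Q) (gs : Fin t → (Fin k → F) ≃ₗ[F] (Fin k → F))
    (π : Equiv.Perm (Fin t))
    (hg : ∀ x, (g : Sp F k t ≃ₗ[F] Sp F k t) (pureT x) = pureT fun l => gs l (x (π l))) : PresL Q U g := by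
  classical
  refine PresL.mk g fun i b hb => ?_
  set j := π.symm i with hj
  have hsim : ∃ r : F, r ≠ 0 ∧ ∀ x y, β (gs j x) (gs j y) = r * β x y := by
    have key : ∀ x y, β (gs j x) (gs j y) * (∏ l ∈ Finset.univ.erase j, β (gs l e) (gs l e')) = β x y := by
      intro x y
      have h := O.polar_app g (pureT (Function.update (fun _ => e) i x)) (pureT (Function.update (fun _ => e') i y))
      rw [hg, hg, hB, hB] at h
      have h' := mul_left_cancel₀ hc h
      rw [← Finset.mul_prod_erase _ _ (Finset.mem_univ j), ← Finset.mul_prod_erase (Finset.univ) _ (Finset.mem_univ i)] at h'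
      have e1 : ∏ l ∈ Finset.univ.erase i, β (Function.update (fun _ => e) i x l) (Function.update (fun _ => e') i y l) = 1 :=
        Finset.prod_eq_one fun l hl => by simp [Function.update_of_ne (Finset.ne_of_mem_erase hl), hee]
      rw [e1, mul_one] at h'
      simp only [hj, Equiv.apply_symm_apply, Function.update_self] at h'
      rw [← h']
      congr 1
      refine Finset.prod_congr rfl fun l hl => ?_
      have hne : π l ≠ i := fun h => Finset.ne_of_mem_erase hl (by rw [← π.symm_apply_apply l, h])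
      rw [Function.update_of_ne hne, Function.update_of_ne hne]
    have hne : (∏ l ∈ Finset.univ.erase j, β (gs l e) (gs l e')) ≠ 0 := fun h => by
      have := key e e'
      rw [h, mul_zero, hee] at this
      exact one_ne_zero this.symm
    exact ⟨_, inv_ne_zero hne, fun x y => by rw [← key x y]; field_simp⟩
  obtain ⟨r, hr, hsim⟩ := hsim
  obtain ⟨μ, b', hb', hbb⟩ := S.conj (gs j) r hr hsim b hb
  have hcomm : ((g : Sp F k t ≃ₗ[F] Sp F k t) : Sp F k t →ₗ[F] Sp F k t) ∘ₗ slot i b =
      (μ • slot j b') ∘ₗ ((g : Sp F k t ≃ₗ[F] Sp F k t) : Sp F k t →ₗ[F] Sp F k t) := by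
    refine ext_pure fun x => ?_
    simp only [LinearMap.comp_apply, LinearEquiv.coe_coe, LinearMap.smul_apply, slot_pureT, hg]
    rw [← pureT_smul]
    congr 1
    funext l
    by_cases hl : l = j
    · subst hl
      simp only [hj, Equiv.apply_symm_apply, Function.update_self]
      exact LinearMap.congr_fun hbb (x i)
    · have hne : π l ≠ i := fun h => hl (by rw [hj, ← h, Equiv.symm_apply_apply])
      rw [Function.update_of_ne hne, Function.update_of_ne hl]
  have hfin : ((g : Sp F k t ≃ₗ[F] Sp F k t) : Sp F k t →ₗ[F] Sp F k t) ∘ₗ slot i b ∘ₗ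
      (((g⁻¹ : O Q) : Sp F k t ≃ₗ[F] Sp F k t) : Sp F k t →ₗ[F] Sp F k t) = μ • slot j b' := by
    rw [← LinearMap.comp_assoc, hcomm]
    refine LinearMap.ext fun v => ?_
    simp only [LinearMap.comp_apply, LinearEquiv.coe_coe]
    rw [← mul_app, ← Subgroup.coe_mul, mul_inv_cancel]
    rfl
  rw [hfin]
  exact Submodule.smul_mem _ _ (slot_mem hb')

theorem slot_group {a : (Fin k → F) →ₗ[F] (Fin k → F)} {τ : (Fin k → F) ≃ₗ[F] (Fin k → F)}
    (S : SlotData β U a τ) (h2 : (2 : F) = 0) [Finite F] (hQ : Nondeg Q) (hdim : 5 ≤ finrank F (Sp F k t))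
    (hB : ∀ x y, polar Q (pureT x) (pureT y) = c * ∏ l, β (x l) (y l)) (hc : c ≠ 0)
    (hpure : ∀ x, Q (pureT x) = 0) (hs : ∀ x y, β x y = β y x)
    {i₀ i₁ : Fin t} (hi : i₀ ≠ i₁)
    (hiso : ∀ x : Fin t → Fin k → F,
      (∏ l, β (x l) (Function.update (Function.update x i₁ (a (x i₁))) i₀ (a (x i₀)) l)) = 0)
    {e e' : Fin k → F} (hee : β e e' = 1)
    -- an element of the normaliser outside the stabiliser
    {p q z z' r s w w' : Fin k → F} (hq : a p + τ (a (τ p)) = q) (hr : a r = s)
    (h00 : β p z = 1) (h01 : β p z' = 0) (h10 : β q z = 0) (h11 : β q z' = 1)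
    (k00 : β r w = 1) (k01 : β r w' = 0) (k10 : β s w = 0) (k11 : β s w' = 1)
    -- an element of Ω outside the normaliser
    {X u W Z : Fin t → Fin k → F} {j : Fin t} (hj : j ≠ i₀)
    (hXu : (∏ l ∈ Finset.univ.erase i₀, β (u l) (X l)) = 0) (huW : (∏ l, β (u l) (W l)) = 0)
    (hXW : β (W i₀) (X i₀) = 0) (haX : (∏ l, β (W l) (Function.update X i₀ (a (X i₀)) l)) = 1)
    (huZ : (∏ l, β (u l) (Z l)) = 1) (hXZ0 : β (X i₀) (Z i₀) = 0) (hXZ : β (X j) (Z j) = 0) :
    (∀ (g : O Q) (gs : Fin t → (Fin k → F) ≃ₗ[F] (Fin k → F)) (π : Equiv.Perm (Fin t)),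
      (∀ x, (g : Sp F k t ≃ₗ[F] Sp F k t) (pureT x) = pureT fun l => gs l (x (π l))) → PresL Q U g) ∧
    (∃ g ∈ commutator (O Q), g ∈ slotStab Q U ∧ ¬ ∀ x, ∃ y, (g : Sp F k t ≃ₗ[F] Sp F k t) (pureT x) = pureT y) ∧
    ∃ g ∈ commutator (O Q), g ∉ slotStab Q U := by
  classical
  refine ⟨fun g gs π hg => wreath_pres S hB hc hee g gs π hg, ?_, ?_⟩
  · have hdd : ∀ v : Sp F k t, v + v = 0 := fun v => by rw [← two_smul F v, h2, zero_smul]
    set N : Sp F k t →ₗ[F] Sp F k t := slot i₀ a ∘ₗ slot i₁ a with hN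
    have hcomm : slot i₀ a ∘ₗ slot i₁ a = slot i₁ a ∘ₗ slot i₀ a := slot_comm hi a a
    have hNN : ∀ v, N (N v) = 0 := fun v => by
      show slot i₀ a (slot i₁ a (slot i₀ a (slot i₁ a v))) = 0
      rw [show slot i₁ a (slot i₀ a (slot i₁ a v)) = slot i₀ a (slot i₁ a (slot i₁ a v)) from
        (LinearMap.congr_fun hcomm _).symm, ← LinearMap.comp_apply (slot i₁ a) (slot i₁ a), slot_comp, S.a_sq,
        slot_zero, LinearMap.zero_apply, map_zero, map_zero]
    have hNadj : ∀ v v', polar Q (N v) v' = polar Q v (N v') := fun v v' => by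
      show polar Q (slot i₀ a (slot i₁ a v)) v' = polar Q v (slot i₀ a (slot i₁ a v'))
      rw [slot_adjoint hB S.a_adj, slot_adjoint hB S.a_adj,
        show slot i₁ a (slot i₀ a v') = slot i₀ a (slot i₁ a v') from (LinearMap.congr_fun hcomm v').symm]
    have hNpure : ∀ x, N (pureT x) = pureT (Function.update (Function.update x i₁ (a (x i₁))) i₀ (a (x i₀))) :=
      fun x => by simp [hN, slot_pureT, Function.update_of_ne hi]
    have hinv : Function.Involutive ⇑((LinearMap.id : Sp F k t →ₗ[F] Sp F k t) + N) := fun v => by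
      show v + N v + N (v + N v) = v
      rw [map_add, hNN, add_zero, add_assoc, hdd, add_zero]
    let g0 : O Q := isoOfPure (LinearEquiv.ofInvolutive (LinearMap.id + N) hinv)
      (fun x y => by
        show polar Q (pureT x + N (pureT x)) (pureT y + N (pureT y)) = _
        rw [polar_add_left, polar_add_right, polar_add_right, ← hNadj (N (pureT x)), hNN, polar_zero_left,
          hNadj (pureT x) (pureT y)]
        linear_combination (polar Q (pureT x) (N (pureT y))) * h2)
      (fun x => by
        show Q (pureT x + N (pureT x)) = _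
        rw [map_add_polar, hNpure, hpure, hpure, hB, hiso, mul_zero, add_zero, add_zero])
    have hg0 : ∀ v, (g0 : Sp F k t ≃ₗ[F] Sp F k t) v = v + N v := fun v => rfl
    have hττ : (τ : (Fin k → F) →ₗ[F] (Fin k → F)) ∘ₗ (τ : (Fin k → F) →ₗ[F] (Fin k → F)) = LinearMap.id :=
      LinearMap.ext S.τ_sq
    have hinvT : Function.Involutive (slot (t := t) i₀ (τ : (Fin k → F) →ₗ[F] (Fin k → F))) := fun v => by
      rw [← LinearMap.comp_apply, slot_comp, hττ, slot_id]; rfl
    let h : O Q := isoOfPure (LinearEquiv.ofInvolutive _ hinvT)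
      (fun x y => by
        show polar Q (slot i₀ _ (pureT x)) (slot i₀ _ (pureT y)) = _
        rw [slot_pureT, slot_pureT, hB, hB]
        congr 1
        refine Finset.prod_congr rfl fun l _ => ?_
        by_cases hl : l = i₀
        · subst hl; simp [S.τ_form]
        · simp [Function.update_of_ne hl])
      (fun x => by
        show Q (slot i₀ _ (pureT x)) = _
        rw [slot_pureT, hpure, hpure])
    have hh : ∀ v, (h : Sp F k t ≃ₗ[F] Sp F k t) v = slot i₀ (τ : (Fin k → F) →ₗ[F] (Fin k → F)) v := fun v => rfl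
    have cm : ∀ {i i' : Fin t}, i ≠ i' → ∀ (m m' : (Fin k → F) →ₗ[F] (Fin k → F)) (v : Sp F k t),
        slot i m (slot i' m' v) = slot i' m' (slot i m v) := fun hii m m' v =>
      LinearMap.congr_fun (slot_comm hii m m') v
    have sa : ∀ (i : Fin t) (v : Sp F k t), slot i a (slot i a v) = 0 := fun i v => by
      rw [← LinearMap.comp_apply, slot_comp, S.a_sq, slot_zero]; rfl
    have sab : ∀ (i : Fin t) (b : (Fin k → F) →ₗ[F] (Fin k → F)) (μ : F) (v : Sp F k t),
        a ∘ₗ b + b ∘ₗ a = μ • LinearMap.id → slot i a (slot i b v) + slot i b (slot i a v) = μ • v := by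
      intro i b μ v hb
      rw [← LinearMap.comp_apply, ← LinearMap.comp_apply (slot i b), slot_comp, slot_comp, ← LinearMap.add_apply,
        ← slot_add, hb, slot_smul, slot_id]
      rfl
    have hg0inv : g0⁻¹ = g0 := inv_eq_of_mul_eq_one_right (O.ext_app fun v => hinv v)
    have hhinv : h⁻¹ = h := inv_eq_of_mul_eq_one_right (O.ext_app fun v => hinvT v)
    have hg0L : g0 ∈ slotStab Q U := by
      have hp : PresL Q U g0 := by
        refine PresL.mk g0 fun i b hb => ?_
        rw [hg0inv]
        obtain ⟨μ, hμ⟩ := S.anticomm b hb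
        have e0 : ((g0 : Sp F k t ≃ₗ[F] Sp F k t) : Sp F k t →ₗ[F] Sp F k t) ∘ₗ slot i b ∘ₗ
            ((g0 : Sp F k t ≃ₗ[F] Sp F k t) : Sp F k t →ₗ[F] Sp F k t) =
            slot i b + (N ∘ₗ slot i b + slot i b ∘ₗ N) + N ∘ₗ slot i b ∘ₗ N := by
          refine LinearMap.ext fun v => ?_
          simp only [LinearMap.comp_apply, LinearEquiv.coe_coe, hg0, LinearMap.add_apply, map_add]
          abel
        rw [e0]
        have hNv : ∀ v, N v = slot i₀ a (slot i₁ a v) := fun v => rfl
        by_cases h0 : i = i₀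
        · subst h0
          have e1 : N ∘ₗ slot i b + slot i b ∘ₗ N = μ • slot i₁ a := LinearMap.ext fun v => by
            simp only [LinearMap.add_apply, LinearMap.comp_apply, LinearMap.smul_apply, hNv]
            rw [← cm hi b a v]
            exact sab i b μ _ hμ
          have e2 : N ∘ₗ slot i b ∘ₗ N = 0 := LinearMap.ext fun v => by
            simp only [LinearMap.comp_apply, LinearMap.zero_apply, hNv]
            rw [← cm hi b a, ← cm hi a a, sa]
            simp
          rw [e1, e2, add_zero]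
          exact Submodule.add_mem _ (slot_mem hb) (Submodule.smul_mem _ _ (slot_mem S.a_mem))
        by_cases h1 : i = i₁
        · subst h1
          have e1 : N ∘ₗ slot i b + slot i b ∘ₗ N = μ • slot i₀ a := LinearMap.ext fun v => by
            simp only [LinearMap.add_apply, LinearMap.comp_apply, LinearMap.smul_apply, hNv]
            rw [← cm hi a b, ← map_add, sab i b μ _ hμ, map_smul]
          have e2 : N ∘ₗ slot i b ∘ₗ N = 0 := LinearMap.ext fun v => by
            simp only [LinearMap.comp_apply, LinearMap.zero_apply, hNv]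
            rw [← cm hi a b, ← cm hi a a, sa]
          rw [e1, e2, add_zero]
          exact Submodule.add_mem _ (slot_mem hb) (Submodule.smul_mem _ _ (slot_mem S.a_mem))
        have e1 : N ∘ₗ slot i b = slot i b ∘ₗ N := LinearMap.ext fun v => by
          simp only [LinearMap.comp_apply, hNv]
          rw [cm (Ne.symm h1) a b, cm (Ne.symm h0) a b]
        have e2 : N ∘ₗ slot i b ∘ₗ N = 0 := LinearMap.ext fun v => by
          show N (slot i b (N v)) = 0
          rw [show N (slot i b (N v)) = slot i b (N (N v)) from LinearMap.congr_fun e1 _, hNN, map_zero]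
        rw [e1, e2, add_zero, show slot i b ∘ₗ N + slot i b ∘ₗ N = 0 from LinearMap.ext fun v => hdd _, add_zero]
        exact slot_mem hb
      exact ⟨hp, by rw [hg0inv]; exact hp⟩
    have hhL : h ∈ slotStab Q U := by
      have hp : PresL Q U h := by
        refine wreath_pres S hB hc hee h (Function.update (fun _ => LinearEquiv.refl F _) i₀ τ) 1 fun x => ?_
        rw [hh, slot_pureT]
        congr 1
        funext l
        by_cases hl : l = i₀
        · subst hl; simp
        · simp [Function.update_of_ne hl]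
      exact ⟨hp, by rw [hhinv]; exact hp⟩
    refine ⟨⁅g0, h⁆, Subgroup.commutator_mem_commutator (Subgroup.mem_top _) (Subgroup.mem_top _),
      mul_mem (mul_mem (mul_mem hg0L hhL) (inv_mem hg0L)) (inv_mem hhL), fun hall => ?_⟩
    set x : Fin t → Fin k → F := Function.update (Function.update (fun _ => e) i₁ r) i₀ p with hx
    obtain ⟨y, hy⟩ := hall x
    have hN' : ∀ v, slot i₀ (τ : (Fin k → F) →ₗ[F] (Fin k → F)) (N (slot i₀ (τ : (Fin k → F) →ₗ[F] (Fin k → F)) v)) =
        slot i₀ ((τ : (Fin k → F) →ₗ[F] (Fin k → F)) ∘ₗ a ∘ₗ (τ : (Fin k → F) →ₗ[F] (Fin k → F))) (slot i₁ a v) := by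
      intro v
      show slot i₀ _ (slot i₀ a (slot i₁ a (slot i₀ _ v))) = _
      rw [← LinearMap.comp_apply (slot i₁ a), ← slot_comm hi, LinearMap.comp_apply, ← slot_comp, ← slot_comp]
      rfl
    have hval : ((⁅g0, h⁆ : O Q) : Sp F k t ≃ₗ[F] Sp F k t) (pureT x) =
        pureT x + pureT (Function.update (Function.update x i₁ s) i₀ q) := by
      rw [commutatorElement_def, hg0inv, hhinv]
      simp only [Subgroup.coe_mul, mul_app, hh, hg0, map_add]
      rw [show slot i₀ (τ : (Fin k → F) →ₗ[F] (Fin k → F)) (slot i₀ (τ : (Fin k → F) →ₗ[F] (Fin k → F)) (pureT x)) =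
        pureT x from hinvT _, hN']
      have hz : N (slot i₀ ((τ : (Fin k → F) →ₗ[F] (Fin k → F)) ∘ₗ a ∘ₗ (τ : (Fin k → F) →ₗ[F] (Fin k → F)))
          (slot i₁ a (pureT x))) = 0 := by
        show slot i₀ a (slot i₁ a (slot i₀ _ (slot i₁ a (pureT x)))) = 0
        rw [← cm hi, sa, map_zero, map_zero]
      rw [hz]
      have hxi₀ : x i₀ = p := Function.update_self _ _ _
      have hxi₁ : x i₁ = r := by rw [hx, Function.update_of_ne hi.symm, Function.update_self]
      rw [hNpure, slot_pureT, slot_pureT, hxi₀, hxi₁, hr, Function.update_of_ne hi, hxi₀]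
      show _ = pureT x + pureT (Function.update (Function.update x i₁ s) i₀ q)
      rw [← hq, pureT_add]
      simp only [LinearMap.comp_apply, LinearEquiv.coe_coe]
      abel
    rw [hval] at hy
    let zz : (Fin k → F) → (Fin k → F) → Fin t → Fin k → F := fun A B =>
      Function.update (Function.update (fun _ => e') i₁ B) i₀ A
    have hM : ∀ A B, β p A * β r B + β q A * β s B =
        β (y i₀) A * (β (y i₁) B * ∏ l ∈ (Finset.univ.erase i₀).erase i₁, β (y l) e') := by
      intro A B
      have h3 := congrArg (fun v => polar Q v (pureT (zz A B))) hy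
      simp only [polar_add_left, hB, ← mul_add] at h3
      have h4 := mul_left_cancel₀ hc h3
      have split : ∀ v : Fin t → Fin k → F, ∏ l, β (v l) (zz A B l) =
          β (v i₀) A * (β (v i₁) B * ∏ l ∈ (Finset.univ.erase i₀).erase i₁, β (v l) e') := by
        intro v
        rw [← Finset.mul_prod_erase _ _ (Finset.mem_univ i₀),
          ← Finset.mul_prod_erase (Finset.univ.erase i₀) _ (Finset.mem_erase.2 ⟨hi.symm, Finset.mem_univ _⟩)]
        simp only [zz, Function.update_self, Function.update_of_ne hi.symm]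
        congr 2
        refine Finset.prod_congr rfl fun l hl => ?_
        rw [Function.update_of_ne (Finset.ne_of_mem_erase (Finset.mem_of_mem_erase hl)),
          Function.update_of_ne (Finset.ne_of_mem_erase hl)]
      rw [split, split, split] at h4
      have hone : ∀ v v' : Fin k → F,
          ∏ l ∈ (Finset.univ.erase i₀).erase i₁, β (Function.update (Function.update x i₁ v) i₀ v' l) e' = 1 := by
        intro v v'
        refine Finset.prod_eq_one fun l hl => ?_
        rw [Function.update_of_ne (Finset.ne_of_mem_erase (Finset.mem_of_mem_erase hl)),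
          Function.update_of_ne (Finset.ne_of_mem_erase hl), hx,
          Function.update_of_ne (Finset.ne_of_mem_erase (Finset.mem_of_mem_erase hl)),
          Function.update_of_ne (Finset.ne_of_mem_erase hl), hee]
      have hxx : x = Function.update (Function.update x i₁ r) i₀ p := by
        funext l
        by_cases hl : l = i₀
        · subst hl; simp [hx]
        · by_cases hl' : l = i₁
          · subst hl'; simp [hx, Function.update_of_ne hl]
          · simp [Function.update_of_ne hl, Function.update_of_ne hl']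
      rw [hone, hxx, hone] at h4
      simpa [Function.update_of_ne hi.symm] using h4
    have m00 := hM z w
    have m11 := hM z' w'
    have m01 := hM z w'
    have m10 := hM z' w
    rw [h00, h10, k00, k10] at m00
    rw [h01, h11, k01, k11] at m11
    rw [h00, h10, k01, k11] at m01
    rw [h01, h11, k00, k10] at m10
    simp only [mul_one, mul_zero, add_zero, zero_add] at m00 m11 m01 m10
    have : (1 : F) * 1 = 0 * 0 := by
      calc (1 : F) * 1 = _ := congrArg₂ (· * ·) m00 m11
        _ = _ := by ring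
        _ = 0 * 0 := (congrArg₂ (· * ·) m01 m10).symm
    simp at this
  · have huW' : polar Q (pureT u) (pureT W) = 0 := by rw [hB, huW, mul_zero]
    refine ⟨sie (pureT u) (pureT W) (hpure u) huW',
      by rw [← sieGroup_eq_commutator hQ hdim]; exact sie_mem _ _, fun hmem => ?_⟩
    set g := sie (pureT u) (pureT W) (hpure u) huW' with hg
    have hfix : (g : Sp F k t ≃ₗ[F] Sp F k t) (pureT X) = pureT X := by
      refine sie_fix' (hpure u) huW' ?_ ?_
      · rw [hB, ← Finset.mul_prod_erase _ _ (Finset.mem_univ i₀), hXu, mul_zero, mul_zero]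
      · rw [hB, ← Finset.mul_prod_erase _ _ (Finset.mem_univ i₀), hXW, zero_mul, mul_zero]
    have hfix' : ((g⁻¹ : O Q) : Sp F k t ≃ₗ[F] Sp F k t) (pureT X) = pureT X := by
      conv_lhs => rw [← hfix]
      rw [← mul_app, ← Subgroup.coe_mul, inv_mul_cancel]
      rfl
    have hvan : ∀ l ∈ slotSpan t U, polar Q (l (pureT X)) (pureT Z) = 0 := by
      intro l hl
      induction hl using Submodule.span_induction with
      | mem m hm =>
        rcases hm with rfl | ⟨i, b, -, rfl⟩
        · rw [LinearMap.id_apply, hB, ← Finset.mul_prod_erase _ _ (Finset.mem_univ i₀), hXZ0, zero_mul, mul_zero]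
        · rw [slot_pureT, hB, prod_update_form]
          rcases eq_or_ne i i₀ with rfl | hne
          · rw [Finset.prod_eq_zero (Finset.mem_erase.2 ⟨hj, Finset.mem_univ _⟩) hXZ, mul_zero, mul_zero]
          · rw [Finset.prod_eq_zero (Finset.mem_erase.2 ⟨hne.symm, Finset.mem_univ _⟩) hXZ0, mul_zero, mul_zero]
      | zero => rw [LinearMap.zero_apply, polar_zero_left]
      | add a b _ _ ha hb => rw [LinearMap.add_apply, polar_add_left, ha, hb, add_zero]
      | smul a b _ hb => rw [LinearMap.smul_apply, polar_smul_left', hb, mul_zero]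
    have h0 := hvan _ (hmem.1 _ (slot_mem (i := i₀) S.a_mem))
    simp only [LinearMap.comp_apply, LinearEquiv.coe_coe, hfix', slot_pureT] at h0
    rw [hg, sie_app, polar_sub_left, polar_add_left, polar_smul_left', polar_smul_left'] at h0
    simp only [hB, hpure, zero_mul, sub_zero] at h0
    rw [huZ, haX] at h0
    rw [Finset.prod_eq_zero (Finset.mem_univ j) (by rw [Function.update_of_ne hj]; exact hXZ)] at h0
    rw [← Finset.mul_prod_erase (f := fun l => β (u l) (Function.update X i₀ (a (X i₀)) l)) _ (Finset.mem_univ i₀),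
      Finset.prod_congr rfl (fun l hl => by rw [Function.update_of_ne (Finset.ne_of_mem_erase hl)] :
        ∀ l ∈ Finset.univ.erase i₀, β (u l) (Function.update X i₀ (a (X i₀)) l) = β (u l) (X l)), hXu] at h0
    simp only [mul_zero, zero_mul, zero_add, sub_zero, mul_one] at h0
    exact hc (mul_self_eq_zero.1 h0)

end Cfsg.Agent.H96
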