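import Mathlib
import Cfsg.Agent.H96.SlotGroup

set_option autoImplicit false

/-!
The slot data for symplectic factors of dimension two and four in characteristic two.
-/

namespace Cfsg.Agent.H96

open QuadraticMap Module Cfsg.Agent.Orthogonal TensorPower

variable {F : Type*} [Field F] {k : ℕ}

/-- The basic operator `x ↦ β(v, x) u + β(u, x) v`. -/
def pairOp (β : (Fin k → F) →ₗ[F] (Fin k → F) →ₗ[F] F) (u v : Fin k → F) : (Fin k → F) →ₗ[F] (Fin k → F) :=
  (β v).smulRight u + (β u).smulRight v

theorem pairOp_apply (β : (Fin k → F) →ₗ[F] (Fin k → F) →ₗ[F] F) (u v x : Fin k → F) :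
    pairOp β u v x = β v x • u + β u x • v := rfl

/-- The basic operator `x ↦ β(u, x) u`. -/
def lineOp (β : (Fin k → F) →ₗ[F] (Fin k → F) →ₗ[F] F) (u : Fin k → F) : (Fin k → F) →ₗ[F] (Fin k → F) :=
  (β u).smulRight u

theorem lineOp_apply (β : (Fin k → F) →ₗ[F] (Fin k → F) →ₗ[F] F) (u x : Fin k → F) :
    lineOp β u x = β u x • u := rfl

variable {β : (Fin k → F) →ₗ[F] (Fin k → F) →ₗ[F] F}

theorem sym_of_alt (h2 : (2 : F) = 0) (halt : ∀ x, β x x = 0) (x y : Fin k → F) : β x y = β y x := by
  have h := halt (x + y)
  simp only [map_add, LinearMap.add_apply, halt, zero_add, add_zero] at h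
  linear_combination h - β y x * h2

/-- The transvection at `v`. -/
noncomputable def transEquiv (h2 : (2 : F) = 0) (halt : ∀ x, β x x = 0) (v : Fin k → F) :
    (Fin k → F) ≃ₗ[F] (Fin k → F) :=
  LinearEquiv.ofInvolutive ((LinearMap.id : (Fin k → F) →ₗ[F] (Fin k → F)) + lineOp β v) fun x => by
    show x + β v x • v + β v (x + β v x • v) • v = x
    rw [map_add, map_smul, halt, smul_zero, add_zero, add_assoc, ← add_smul]
    rw [show β v x + β v x = 0 by linear_combination β v x * h2, zero_smul, add_zero]

theorem transEquiv_apply (h2 : (2 : F) = 0) (halt : ∀ x, β x x = 0) (v x : Fin k → F) :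
    transEquiv h2 halt v x = x + β v x • v := rfl

theorem transEquiv_form (h2 : (2 : F) = 0) (halt : ∀ x, β x x = 0) (v x y : Fin k → F) :
    β (transEquiv h2 halt v x) (transEquiv h2 halt v y) = β x y := by
  simp only [transEquiv_apply, map_add, map_smul, LinearMap.add_apply, LinearMap.smul_apply, smul_eq_mul, halt]
  rw [sym_of_alt h2 halt x v]
  linear_combination (β v x * β v y) * h2

theorem slotData_pair (h2 : (2 : F) = 0) (halt : ∀ x, β x x = 0) {e e' h h' : Fin k → F}
    (hee : β e e' = 1) (hhh : β h h' = 1) (heh : β e h = 0)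
    (hexp : ∀ x, x = β e' x • e + β e x • e' + β h' x • h + β h x • h') :
    SlotData β {b | ∃ u v, β u v = 0 ∧ pairOp β u v = b} (pairOp β e h) (transEquiv h2 halt e') where
  a_mem := ⟨e, h, heh, rfl⟩
  a_sq := LinearMap.ext fun x => by
    have hs := sym_of_alt h2 halt
    simp only [LinearMap.comp_apply, pairOp_apply, map_add, map_smul, LinearMap.zero_apply, halt, heh, hs h e,
      smul_zero, add_zero, zero_smul]
  a_adj x y := by
    simp only [pairOp_apply, map_add, map_smul, LinearMap.add_apply, LinearMap.smul_apply, smul_eq_mul]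
    rw [sym_of_alt h2 halt x e, sym_of_alt h2 halt x h]
    ring
  anticomm := by
    rintro _ ⟨p, q, hpq, rfl⟩
    have hs := sym_of_alt h2 halt
    refine ⟨β h p * β e q + β e p * β h q, LinearMap.ext fun x => ?_⟩
    simp only [LinearMap.add_apply, LinearMap.comp_apply, LinearMap.smul_apply, LinearMap.id_apply, pairOp_apply,
      map_add, map_smul, smul_eq_mul]
    have exq : β q x = β e' q * β e x + β e q * β e' x + β h' q * β h x + β h q * β h' x := by
      conv_lhs => rw [hexp q]
      simp only [map_add, map_smul, LinearMap.add_apply, LinearMap.smul_apply, smul_eq_mul]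
    have exp' : β p x = β e' p * β e x + β e p * β e' x + β h' p * β h x + β h p * β h' x := by
      conv_lhs => rw [hexp p]
      simp only [map_add, map_smul, LinearMap.add_apply, LinearMap.smul_apply, smul_eq_mul]
    rw [exq, exp', hs p h, hs q h, hs p e, hs q e]
    set E := β e x
    set E' := β e' x
    set H := β h x
    set H' := β h' x
    conv_rhs => rw [hexp x]
    set pE := β e p
    set pE' := β e' p
    set pH := β h p
    set pH' := β h' p
    set qE := β e q
    set qE' := β e' q
    set qH := β h q
    set qH' := β h' q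
    have hpq' : β e' p * β e q + β e p * β e' q + β h' p * β h q + β h p * β h' q = 0 := by
      conv_rhs => rw [← hpq, hexp p]
      simp only [map_add, map_smul, LinearMap.add_apply, LinearMap.smul_apply, smul_eq_mul]
    rw [hexp p, hexp q]
    match_scalars <;> (try simp only [E, E', H, H', pE, pE', pH, pH', qE, qE', qH, qH'])
    all_goals first
      | (ring_nf; simp [h2]; done)
      | (ring_nf; done)
      | linear_combination (norm := (ring_nf; simp [h2]; done)) (β e x) * hpq'
      | linear_combination (norm := (ring_nf; simp [h2]; done)) (β e' x) * hpq'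
      | linear_combination (norm := (ring_nf; simp [h2]; done)) (β h x) * hpq'
      | linear_combination (norm := (ring_nf; simp [h2]; done)) (β h' x) * hpq'
  conj := by
    rintro g r hr hg _ ⟨u, v, huv, rfl⟩
    refine ⟨r⁻¹, pairOp β (g u) (g v), ⟨_, _, by rw [hg, huv, mul_zero], rfl⟩, LinearMap.ext fun x => ?_⟩
    simp only [LinearMap.comp_apply, LinearMap.smul_apply, LinearEquiv.coe_coe, pairOp_apply, hg, map_add,
      map_smul, smul_add, smul_smul, ← mul_assoc, inv_mul_cancel₀ hr, one_mul]
  τ_sq x := by
    have h := (transEquiv h2 halt e').symm_apply_apply x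
    exact h
  τ_form := transEquiv_form h2 halt e'

theorem slotData_line (h2 : (2 : F) = 0) (halt : ∀ x, β x x = 0) {e e' : Fin k → F}
    (hexp : ∀ x, x = β e' x • e + β e x • e') :
    SlotData β {b | ∃ u, lineOp β u = b} (lineOp β e) (transEquiv h2 halt e') where
  a_mem := ⟨e, rfl⟩
  a_sq := LinearMap.ext fun x => by
    simp only [LinearMap.comp_apply, lineOp_apply, map_smul, halt, smul_eq_mul, mul_zero, zero_smul, smul_zero,
      LinearMap.zero_apply]
  a_adj x y := by
    simp only [lineOp_apply, map_smul, LinearMap.smul_apply, smul_eq_mul]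
    rw [sym_of_alt h2 halt x e]
    ring
  anticomm := by
    rintro _ ⟨p, rfl⟩
    have hs := sym_of_alt h2 halt
    refine ⟨β e p * β e p, LinearMap.ext fun x => ?_⟩
    simp only [LinearMap.add_apply, LinearMap.comp_apply, LinearMap.smul_apply, LinearMap.id_apply, lineOp_apply,
      map_smul, smul_eq_mul, smul_smul]
    have exp' : β p x = β e' p * β e x + β e p * β e' x := by
      conv_lhs => rw [hexp p]
      simp only [map_add, map_smul, LinearMap.add_apply, LinearMap.smul_apply, smul_eq_mul]
    rw [exp', hs p e]
    set E := β e x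
    set E' := β e' x
    conv_rhs => rw [hexp x]
    set pE := β e p
    set pE' := β e' p
    rw [hexp p]
    match_scalars <;> (try simp only [E, E', pE, pE']; ring_nf; try simp [h2])
  conj := by
    rintro g r hr hg _ ⟨u, rfl⟩
    refine ⟨r⁻¹, lineOp β (g u), ⟨_, rfl⟩, LinearMap.ext fun x => ?_⟩
    simp only [LinearMap.comp_apply, LinearMap.smul_apply, LinearEquiv.coe_coe, lineOp_apply, hg, map_smul,
      smul_smul, ← mul_assoc, inv_mul_cancel₀ hr, one_mul]
  τ_sq x := by
    have h := (transEquiv h2 halt e').symm_apply_apply x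
    exact h
  τ_form := transEquiv_form h2 halt e'

end Cfsg.Agent.H96
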