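import Mathlib
import Cfsg.Agent.H96.SlotExamples

set_option autoImplicit false

/-!
A symplectic factor of dimension at most four gives slot data with the required test vectors.
-/

namespace Cfsg.Agent.H96

open QuadraticMap Module Cfsg.Agent.Orthogonal TensorPower

variable {F : Type*} [Field F] [Finite F] {k t : ℕ}

/-- The conclusion of `slot_group`, without the data. -/
def SlotConclusion (Q : QuadraticForm F (Sp F k t)) : Prop :=
  ∃ X : Subgroup (O Q),
    (∀ (g : O Q) (gs : Fin t → (Fin k → F) ≃ₗ[F] (Fin k → F)) (π : Equiv.Perm (Fin t)),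
      (∀ x, (g : Sp F k t ≃ₗ[F] Sp F k t) (pureT x) = pureT fun l => gs l (x (π l))) →
      (∀ x, ∃ y, ((g⁻¹ : O Q) : Sp F k t ≃ₗ[F] Sp F k t) (pureT x) = pureT y) → g ∈ X) ∧
    (∃ g ∈ commutator (O Q), g ∈ X ∧ ¬ ∀ x, ∃ y, (g : Sp F k t ≃ₗ[F] Sp F k t) (pureT x) = pureT y) ∧
    ∃ g ∈ commutator (O Q), g ∉ X

/-- The inverse of a wreath map is one. -/
theorem inv_wreath {Q : QuadraticForm F (Sp F k t)} (g : O Q) (gs : Fin t → (Fin k → F) ≃ₗ[F] (Fin k → F))
    (π : Equiv.Perm (Fin t))
    (hg : ∀ x, (g : Sp F k t ≃ₗ[F] Sp F k t) (pureT x) = pureT fun l => gs l (x (π l))) (x : Fin t → Fin k → F) :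
    ((g⁻¹ : O Q) : Sp F k t ≃ₗ[F] Sp F k t) (pureT x) =
      pureT fun l => (gs (π.symm l)).symm (x (π.symm l)) := by
  apply (g : Sp F k t ≃ₗ[F] Sp F k t).injective
  rw [← mul_app, ← Subgroup.coe_mul, mul_inv_cancel, hg]
  show pureT x = _
  congr 1
  funext l
  rw [Equiv.symm_apply_apply, LinearEquiv.apply_symm_apply]

theorem slotConclusion_of {β : (Fin k → F) →ₗ[F] (Fin k → F) →ₗ[F] F}
    {Q : QuadraticForm F (Sp F k t)} {U : Set ((Fin k → F) →ₗ[F] (Fin k → F))}
    (h1 : ∀ (g : O Q) (gs : Fin t → (Fin k → F) ≃ₗ[F] (Fin k → F)) (π : Equiv.Perm (Fin t)),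
      (∀ x, (g : Sp F k t ≃ₗ[F] Sp F k t) (pureT x) = pureT fun l => gs l (x (π l))) → PresL Q U g)
    (h2 : ∃ g ∈ commutator (O Q), g ∈ slotStab Q U ∧
      ¬ ∀ x, ∃ y, (g : Sp F k t ≃ₗ[F] Sp F k t) (pureT x) = pureT y)
    (h3 : ∃ g ∈ commutator (O Q), g ∉ slotStab Q U) : SlotConclusion Q :=
  ⟨slotStab Q U, fun g gs π hg _ => ⟨h1 g gs π hg,
    h1 g⁻¹ (fun l => (gs (π.symm l)).symm) π.symm (inv_wreath g gs π hg)⟩, h2, h3⟩

theorem slot_instance (h2 : (2 : F) = 0) {β : (Fin k → F) →ₗ[F] (Fin k → F) →ₗ[F] F}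
    (halt : ∀ x, β x x = 0) (hnd : ∀ x, x ≠ 0 → ∃ y, β x y ≠ 0) (hk : k ≤ 4) (ht : 2 ≤ t) (hkt : 13 ≤ k ^ t)
    {Q : QuadraticForm F (Sp F k t)} (hQ : Nondeg Q) {c : F} (hc : c ≠ 0)
    (hB : ∀ x y, polar Q (pureT x) (pureT y) = c * ∏ l, β (x l) (y l))
    (hpure : ∀ x, Q (pureT x) = 0) : SlotConclusion Q := by
  classical
  have hs := sym_of_alt h2 halt
  have hdim : 5 ≤ finrank F (Sp F k t) := by
    rw [Module.finrank_fintype_fun_eq_card, Fintype.card_fun, Fintype.card_fin, Fintype.card_fin]
    omega
  have hk0 : 0 < k := by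
    rcases Nat.eq_zero_or_pos k with h | h
    · rw [h, zero_pow (by omega)] at hkt; omega
    · exact h
  have scaled : ∀ {x : Fin k → F}, x ≠ 0 → ∃ y, β x y = 1 := fun {x} hx => by
    obtain ⟨y, hy⟩ := hnd x hx
    exact ⟨(β x y)⁻¹ • y, by rw [map_smul, smul_eq_mul, inv_mul_cancel₀ hy]⟩
  set e : Fin k → F := Pi.single ⟨0, hk0⟩ 1 with he
  obtain ⟨e', hee⟩ := scaled (x := e) (by simp [he])
  have he'e : β e' e = 1 := by rw [hs]; exact hee
  let pr : (Fin k → F) → (Fin k → F) := fun x => x + (β e' x • e + β e x • e')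
  have hpe : ∀ x, β e (pr x) = 0 := fun x => by
    simp only [pr, map_add, map_smul, smul_eq_mul, halt, hee]
    linear_combination β e x * h2
  have hpe' : ∀ x, β e' (pr x) = 0 := fun x => by
    simp only [pr, map_add, map_smul, smul_eq_mul, halt, he'e]
    linear_combination β e' x * h2
  have hdd : ∀ v : Fin k → F, v + v = 0 := fun v => by rw [← two_smul F v, h2, zero_smul]
  by_cases hall : ∀ x, pr x = 0
  · -- two dimensional factors
    have hexp : ∀ x, x = β e' x • e + β e x • e' := fun x => by
      have h : x + (β e' x • e + β e x • e') = 0 := hall x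
      rw [add_eq_zero_iff_eq_neg, neg_eq_iff_add_eq_zero.2 (hdd _)] at h
      exact h
    have hk2 : k ≤ 2 := by
      have hf : Function.Injective ((β e).prod (β e')) := fun x y hxy => by
        obtain ⟨h, h'⟩ := Prod.ext_iff.1 hxy
        change β e x = β e y at h
        change β e' x = β e' y at h'
        rw [hexp x, hexp y, h, h']
      have := LinearMap.finrank_le_finrank_of_injective hf
      rw [Module.finrank_fintype_fun_eq_card, Fintype.card_fin, Module.finrank_prod, Module.finrank_self] at this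
      exact this
    have ht3 : 3 ≤ t := by
      by_contra h
      have h' : t = 2 := by omega
      subst h'
      have := Nat.pow_le_pow_left hk2 2
      omega
    let i₀ : Fin t := ⟨0, by omega⟩
    let i₁ : Fin t := ⟨1, by omega⟩
    let i₂ : Fin t := ⟨2, by omega⟩
    have n01 : i₀ ≠ i₁ := by simp [i₀, i₁]
    have n02 : i₂ ≠ i₀ := by simp [i₀, i₂]
    have n12 : i₂ ≠ i₁ := by simp [i₁, i₂]
    obtain ⟨p1, p2, p3⟩ := slot_group (Q := Q) (c := c) (slotData_line h2 halt hexp) h2 hQ hdim hB hc hpure hs n01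
      (fun x => Finset.prod_eq_zero (Finset.mem_univ i₂)
        (by rw [Function.update_of_ne n02, Function.update_of_ne n12, halt]))
      hee (p := e) (q := e + e') (z := e + e') (z' := e) (r := e') (s := e) (w := e) (w' := e')
      (by simp [lineOp_apply, transEquiv_apply, halt, hee, he'e])
      (by simp [lineOp_apply, hee])
      (by simp [halt, hee]) (halt e)
      (halt _) (by simp [halt, he'e])
      he'e (halt e') (halt e) hee
      (X := fun l => if l = i₀ then e' else e) (u := fun l => if l = i₂ then e' else e) (W := fun _ => e')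
      (Z := fun l => if l = i₂ then e else e') (j := i₂) n02
      (Finset.prod_eq_zero (Finset.mem_erase.2 ⟨n01.symm, Finset.mem_univ i₁⟩)
        (by simp [n12.symm, n01.symm, halt]))
      (Finset.prod_eq_zero (Finset.mem_univ i₂) (by simp [halt]))
      (by simp [halt])
      (Finset.prod_eq_one fun l _ => by
        by_cases hl : l = i₀ <;> simp [hl, lineOp_apply, hee, he'e, Function.update_of_ne])
      (Finset.prod_eq_one fun l _ => by by_cases hl : l = i₂ <;> simp [hl, hee, he'e])
      (by simp [n02.symm, halt]) (by simp [n02, halt])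
    exact slotConclusion_of (β := β) p1 p2 p3
  · push Not at hall
    obtain ⟨x₀, hx₀⟩ := hall
    set h := pr x₀ with hh
    obtain ⟨y, hy⟩ := scaled hx₀
    set h' := pr y with hh'
    have heh : β e h = 0 := hpe x₀
    have he'h : β e' h = 0 := hpe' x₀
    have heh' : β e h' = 0 := hpe y
    have he'h' : β e' h' = 0 := hpe' y
    have hhh : β h h' = 1 := by
      simp only [hh', pr, map_add, map_smul, smul_eq_mul, hy, hs h e, hs h e', heh, he'h]
      ring
    have hhe : β h e = 0 := by rw [hs]; exact heh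
    have hhe' : β h e' = 0 := by rw [hs]; exact he'h
    have hh'e : β h' e = 0 := by rw [hs]; exact heh'
    have hh'e' : β h' e' = 0 := by rw [hs]; exact he'h'
    have hh'h : β h' h = 1 := by rw [hs]; exact hhh
    have hexp : ∀ x, x = β e' x • e + β e x • e' + β h' x • h + β h x • h' := by
      intro x
      have hli : LinearIndependent F ![e, e', h, h'] := by
        rw [Fintype.linearIndependent_iff]
        intro g hg i
        have key : ∀ v, β v (g 0 • e + g 1 • e' + g 2 • h + g 3 • h') = 0 := fun v => by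
          have : g 0 • e + g 1 • e' + g 2 • h + g 3 • h' = 0 := by
            rw [← hg]; simp [Fin.sum_univ_four]
          rw [this, map_zero]
        have k1 := key e
        have k2 := key e'
        have k3 := key h
        have k4 := key h'
        simp only [map_add, map_smul, smul_eq_mul, halt, hee, he'e, heh, he'h, heh', he'h', hhe, hhe', hh'e, hh'e',
          hhh, hh'h, mul_zero, mul_one, add_zero, zero_add] at k1 k2 k3 k4
        fin_cases i
        · exact k2
        · exact k1
        · exact k4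
        · exact k3
      have hspan := hli.span_eq_top_of_card_eq_finrank (by
        have := hli.fintype_card_le_finrank
        rw [Fintype.card_fin, Module.finrank_fintype_fun_eq_card, Fintype.card_fin] at this ⊢
        omega)
      have hx : x ∈ Submodule.span F (Set.range ![e, e', h, h']) := by rw [hspan]; trivial
      obtain ⟨g, hg⟩ := (Submodule.mem_span_range_iff_exists_fun F).1 hx
      subst hg
      simp only [Fin.sum_univ_four, Matrix.cons_val_zero, Matrix.cons_val_one, Matrix.cons_val_two,
        Matrix.cons_val_three, Matrix.tail_cons, Matrix.head_cons, map_add, map_smul, smul_eq_mul, halt, hee, he'e,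
        heh, he'h, heh', he'h', hhe, hhe', hh'e, hh'e', hhh, hh'h, mul_zero, mul_one, add_zero, zero_add]
    let i₀ : Fin t := ⟨0, by omega⟩
    let i₁ : Fin t := ⟨1, by omega⟩
    have n01 : i₀ ≠ i₁ := by simp [i₀, i₁]
    obtain ⟨p1, p2, p3⟩ := slot_group (Q := Q) (c := c) (slotData_pair h2 halt hee hhh heh hexp) h2 hQ hdim hB hc
      hpure hs n01
      (fun x => Finset.prod_eq_zero (Finset.mem_univ i₀) (by
        simp only [Function.update_self, pairOp_apply, map_add, map_smul, smul_eq_mul]
        rw [hs (x i₀) e, hs (x i₀) h]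
        linear_combination (β e (x i₀) * β h (x i₀)) * h2))
      hee (p := e) (q := h) (z := e') (z' := h') (r := e') (s := h) (w := e) (w' := h')
      (by simp [pairOp_apply, transEquiv_apply, halt, hee, he'e, hhe, hhe', he'h])
      (by simp [pairOp_apply, hee, hhe'])
      hee heh' hhe' hhh
      he'e he'h' hhe hhh
      (X := fun l => if l = i₀ then e' else e) (u := fun _ => h) (W := fun l => if l = i₀ then h' else e')
      (Z := fun _ => h') (j := i₁) n01.symm
      (Finset.prod_eq_zero (Finset.mem_erase.2 ⟨n01.symm, Finset.mem_univ i₁⟩) (by simp [n01.symm, hhe]))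
      (Finset.prod_eq_zero (Finset.mem_univ i₁) (by simp [n01.symm, hhe']))
      (by simp [hh'e'])
      (Finset.prod_eq_one fun l _ => by
        by_cases hl : l = i₀ <;> simp [hl, pairOp_apply, hee, he'e, hhe', hh'e, hh'h, Function.update_of_ne])
      (Finset.prod_eq_one fun l _ => hhh)
      (by simp [he'h']) (by simp [n01.symm, heh'])
    exact slotConclusion_of (β := β) p1 p2 p3

end Cfsg.Agent.H96
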