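import Mathlib

set_option autoImplicit false

/-!
Two Sylow 2-subgroups of the symmetric group of degree 8 meet nontrivially.
-/

namespace Cfsg.Agent.H96.SylowEight

/-- Distance in the binary tree with eight leaves. -/
def lev (i j : Fin 8) : ℕ :=
  let n := Nat.xor i.val j.val
  bif n == 0 then 0 else bif n == 1 then 1 else bif Nat.blt n 4 then 2 else 3

theorem lev_eq_zero : ∀ i j : Fin 8, lev i j = 0 ↔ i = j := by decide +kernel

theorem lev_symm : ∀ i j : Fin 8, lev i j = lev j i := by decide +kernel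

theorem lev_halve : ∀ a b c : Fin 8, lev a b = lev b c → lev a b = 0 ∨ lev a c < lev a b := by decide +kernel

theorem lev_le : ∀ a b : Fin 8, lev a b ≤ 3 := by decide +kernel

/-- The automorphism group of the tree. -/
def treeGroup : Subgroup (Equiv.Perm (Fin 8)) where
  carrier := {g | ∀ i j, lev (g i) (g j) = lev i j}
  one_mem' := fun _ _ => rfl
  mul_mem' := fun {a b} ha hb i j => (ha (b i) (b j)).trans (hb i j)
  inv_mem' := fun {a} ha i j => by
    have := ha (a⁻¹ i) (a⁻¹ j)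
    simpa using this.symm

theorem sq_step {g : Equiv.Perm (Fin 8)} (hg : g ∈ treeGroup) {m : ℕ} (h : ∀ i, lev i (g i) ≤ m + 1) :
    ∀ i, lev i ((g * g) i) ≤ m := by
  intro i
  have h1 : lev i (g i) = lev (g i) (g (g i)) := (hg i (g i)).symm
  rcases lev_halve _ _ _ h1 with h2 | h2
  · have h3 : g i = i := ((lev_eq_zero _ _).mp h2).symm
    show lev i (g (g i)) ≤ m
    rw [h3, h3, (lev_eq_zero i i).mpr rfl]
    exact Nat.zero_le m
  · show lev i (g (g i)) ≤ m
    have := h i
    omega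

theorem pow_eight {g : Equiv.Perm (Fin 8)} (hg : g ∈ treeGroup) : g ^ 8 = 1 := by
  have h1 := sq_step hg (m := 2) fun i => lev_le _ _
  have g2 := mul_mem hg hg
  have h2 := sq_step g2 (m := 1) h1
  have g4 := mul_mem g2 g2
  have h3 := sq_step g4 (m := 0) h2
  have he : g ^ 8 = g * g * (g * g) * (g * g * (g * g)) := by
    simp only [pow_succ, pow_zero, one_mul, mul_assoc]
  rw [he]
  exact Equiv.ext fun i => ((lev_eq_zero _ _).mp (Nat.le_zero.mp (h3 i))).symm

/-- The tree automorphism with given bits at the seven inner nodes. -/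
def treeFun (b : Fin 128) (i : Fin 8) : Fin 8 :=
  let top := b.val % 2
  let mid := (b.val / 2 / 2 ^ (i.val / 4)) % 2
  let low := (b.val / 8 / 2 ^ (i.val / 2)) % 2
  ⟨Nat.xor i.val (top * 4 + mid * 2 + low) % 8, Nat.mod_lt _ (by norm_num)⟩

theorem treeFun_lev : ∀ (b : Fin 128) (i j : Fin 8), lev (treeFun b i) (treeFun b j) = lev i j := by
  decide +kernel

theorem treeFun_bits : ∀ b : Fin 128,
    b.val = (treeFun b 0).val / 4 + 2 * ((treeFun b 0).val / 2 % 2) + 4 * ((treeFun b 4).val / 2 % 2)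
      + 8 * ((treeFun b 0).val % 2) + 16 * ((treeFun b 2).val % 2) + 32 * ((treeFun b 4).val % 2)
      + 64 * ((treeFun b 6).val % 2) := by decide +kernel

/-- A level preserving map as a permutation. -/
noncomputable def ofLev (f : Fin 8 → Fin 8) (hf : ∀ i j, lev (f i) (f j) = lev i j) : Equiv.Perm (Fin 8) :=
  Equiv.ofBijective f (Finite.injective_iff_bijective.mp fun i j h =>
    (lev_eq_zero i j).mp (by rw [← hf i j]; exact (lev_eq_zero _ _).mpr h))

theorem exists_sylow : ∃ P : Sylow 2 (Equiv.Perm (Fin 8)), (P : Subgroup _) = treeGroup := by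
  have hP : IsPGroup 2 treeGroup := fun g => ⟨3, Subtype.ext (by simpa using pow_eight g.2)⟩
  obtain ⟨k, hk⟩ := hP.exists_card_eq
  have hfac : (Nat.card (Equiv.Perm (Fin 8))).factorization 2 = 7 := by
    rw [Nat.card_perm, Nat.card_eq_fintype_card, Fintype.card_fin,
      show Nat.factorial 8 = 2 ^ 7 * 315 by norm_num [Nat.factorial],
      Nat.factorization_mul (by norm_num) (by norm_num), Nat.Prime.factorization_pow Nat.prime_two]
    simp [Nat.factorization_eq_zero_of_not_dvd (show ¬ 2 ∣ 315 by norm_num)]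
  have hge : 128 ≤ Nat.card treeGroup := by
    let f : Fin 128 → treeGroup := fun b => ⟨ofLev (treeFun b) (treeFun_lev b), fun i j => treeFun_lev b i j⟩
    have hf : Function.Injective f := by
      intro b b' h
      have hv : treeFun b = treeFun b' := funext fun i => Equiv.Perm.congr_fun (congrArg Subtype.val h) i
      apply Fin.ext
      rw [treeFun_bits b, treeFun_bits b', hv]
    simpa using Nat.card_le_card_of_injective f hf
  obtain ⟨P, hP'⟩ := hP.exists_le_sylow
  refine ⟨P, (Subgroup.eq_of_le_of_card_ge hP' ?_).symm⟩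
  rw [P.card_eq_multiplicity, hfac]
  exact hge

/-- The witnesses. -/
def wit : List (Fin 8 → Fin 8) := [
  ![1,0,3,2,5,4,7,6],
  ![1,0,3,2,6,7,4,5],
  ![1,0,3,2,7,6,5,4],
  ![0,1,2,3,4,5,7,6],
  ![0,1,2,3,5,4,6,7],
  ![0,1,3,2,4,5,6,7],
  ![1,0,2,3,4,5,6,7],
  ![4,5,6,7,0,1,2,3],
  ![4,5,7,6,0,1,3,2],
  ![5,4,6,7,1,0,2,3],
  ![5,4,7,6,1,0,3,2],
  ![6,7,4,5,2,3,0,1],
  ![6,7,5,4,3,2,0,1],
  ![7,6,4,5,2,3,1,0],
  ![7,6,5,4,3,2,1,0]]

theorem wit_spec : wit.all (fun g => (List.finRange 8).all (fun i => (List.finRange 8).all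
    fun j => lev (g i) (g j) == lev i j) && (List.finRange 8).any (fun i => g i != i)) = true := by
  decide +kernel

/-- Inverse of a map given by its values. -/
def inv8 (f : Fin 8 → Fin 8) (k : Fin 8) : Fin 8 :=
  bif f 0 == k then 0 else bif f 1 == k then 1 else bif f 2 == k then 2 else bif f 3 == k then 3
  else bif f 4 == k then 4 else bif f 5 == k then 5 else bif f 6 == k then 6 else 7

theorem inv8_eq (x : Equiv.Perm (Fin 8)) (k : Fin 8) : inv8 x k = x⁻¹ k := by
  obtain ⟨i, rfl⟩ := x.surjective k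
  rw [Equiv.Perm.inv_def, Equiv.symm_apply_apply]
  have hb : ∀ i j : Fin 8, i ≠ j → (x i == x j) = false := fun i j hij => beq_eq_false_iff_ne.mpr (x.injective.ne hij)
  fin_cases i <;> simp [inv8, hb]

/-- Some witness preserves the transported tree. -/
def good (f : Fin 8 → Fin 8) : Bool :=
  wit.any fun g => (List.finRange 8).all fun i => (List.finRange 8).all fun j =>
    lev (inv8 f (g (f i))) (inv8 f (g (f j))) == lev i j

/-- The normalised value lists all have witnesses. -/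
def allNormalised : Bool :=
  (List.finRange 8).all fun a1 => (a1 == 0) ||
  (List.finRange 8).all fun a2 => (a2 == 0 || a2 == a1) ||
  (List.finRange 8).all fun a3 => (Nat.ble a3.val a2.val || a3 == a1) ||
  (List.finRange 8).all fun a4 => (a4 == 0 || a4 == a1 || a4 == a2 || a4 == a3) ||
  (List.finRange 8).all fun a5 => (Nat.ble a5.val a4.val || a5 == a1 || a5 == a2 || a5 == a3) ||
  (List.finRange 8).all fun a6 => (Nat.ble a6.val a4.val || a6 == a5 || a6 == a1 || a6 == a2 || a6 == a3) ||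
  (List.finRange 8).all fun a7 => (Nat.ble a7.val a6.val || a7 == a5 || a7 == a1 || a7 == a2 || a7 == a3) ||
  good ![0, a1, a2, a3, a4, a5, a6, a7]

theorem allNormalised_eq : allNormalised = true := by decide +kernel

theorem good_normalised (z : Fin 8 → Fin 8) (hne : ∀ i j, i ≠ j → z i ≠ z j) (h0 : z 0 = 0)
    (h2 : z 2 < z 3) (h5 : z 4 < z 5) (h6 : z 4 < z 6) (h7 : z 6 < z 7) : good z = true := by
  have n0 : ∀ i, i ≠ 0 → z i ≠ 0 := fun i hi => h0 ▸ hne i 0 hi
  have h := allNormalised_eq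
  simp only [allNormalised, List.all_eq_true, List.mem_finRange, forall_const, Bool.or_eq_true,
    beq_iff_eq, Nat.ble_eq] at h
  have e1 := (h (z 1)).resolve_left (n0 1 (by decide))
  have e2 := (e1 (z 2)).resolve_left (by simp [n0, hne])
  have e3 := (e2 (z 3)).resolve_left (by simp [n0, hne, h2])
  have e4 := (e3 (z 4)).resolve_left (by simp [n0, hne])
  have e5 := (e4 (z 5)).resolve_left (by simp [n0, hne, h5])
  have e6 := (e5 (z 6)).resolve_left (by simp [n0, hne, h6])
  have e7 := (e6 (z 7)).resolve_left (by simp [n0, hne, h7])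
  have hz : ![0, z 1, z 2, z 3, z 4, z 5, z 6, z 7] = z := by
    funext i; fin_cases i <;> first | exact h0.symm | rfl
  rwa [hz] at e7

/-- The xor translations. -/
def shift (k i : Fin 8) : Fin 8 := ⟨Nat.xor i.val k.val % 8, Nat.mod_lt _ (by norm_num)⟩

/-- The xor translations on the second half. -/
def shiftHigh (k i : Fin 8) : Fin 8 := bif Nat.blt i.val 4 then i else shift k i

theorem shift_lev : ∀ k i j : Fin 8, lev (shift k i) (shift k j) = lev i j := by decide +kernel

theorem shiftHigh_lev : ∀ k : Fin 8, k.val < 4 → ∀ i j : Fin 8,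
    lev (shiftHigh k i) (shiftHigh k j) = lev i j := by decide +kernel

theorem exists_witness (x : Equiv.Perm (Fin 8)) :
    ∃ g ∈ treeGroup, g ≠ 1 ∧ x⁻¹ * g * x ∈ treeGroup := by
  -- right multiplication by the tree group normalises the values
  have hswap : ∀ i : Fin 8, ∀ a b : Fin 8, lev i (Equiv.swap 2 3 i) ≤ 1 ∧
      lev (Equiv.swap 2 3 a) (Equiv.swap 2 3 b) = lev a b ∧ lev (Equiv.swap 6 7 a) (Equiv.swap 6 7 b) = lev a b := by
    decide +kernel
  obtain ⟨k0, hk0⟩ := x.surjective 0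
  set h1 := ofLev (shift k0) (shift_lev k0)
  have e1 : (x * h1) 0 = 0 := by
    show x (shift k0 0) = 0
    have : ∀ k : Fin 8, shift k 0 = k := by decide +kernel
    rw [this, hk0]
  obtain ⟨y1, hy1, hy1'⟩ : ∃ h ∈ treeGroup, (x * h) 0 = 0 ∧ (x * h) 2 < (x * h) 3 := by
    rcases lt_or_gt_of_ne ((x * h1).injective.ne (show (2 : Fin 8) ≠ 3 by decide)) with h | h
    · exact ⟨h1, fun i j => shift_lev k0 i j, e1, h⟩
    · refine ⟨h1 * Equiv.swap 2 3, mul_mem (fun i j => shift_lev k0 i j) (fun i j => (hswap 0 i j).2.1), ?_, ?_⟩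
      · exact e1
      · exact h
  obtain ⟨m, hm, hmin⟩ := ({4, 5, 6, 7} : Finset (Fin 8)).exists_min_image (fun i => (x * y1) i) (by simp)
  have hkm : ∀ m ∈ ({4, 5, 6, 7} : Finset (Fin 8)), ∃ k : Fin 8, k.val < 4 ∧ shiftHigh k 4 = m := by
    decide +kernel
  obtain ⟨k, hk, hkm⟩ := hkm m hm
  set h2 := ofLev (shiftHigh k) (shiftHigh_lev k hk)
  have hmem2 : y1 * h2 ∈ treeGroup := mul_mem hy1 fun i j => shiftHigh_lev k hk i j
  have hlow : ∀ k : Fin 8, shiftHigh k 0 = 0 ∧ shiftHigh k 2 = 2 ∧ shiftHigh k 3 = 3 := by decide +kernel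
  have hhigh : ∀ k : Fin 8, k.val < 4 → ∀ i : Fin 8, 4 ≤ i.val → shiftHigh k i ∈ ({4, 5, 6, 7} : Finset (Fin 8)) := by
    decide +kernel
  have p0 : (x * (y1 * h2)) 0 = 0 := by
    show x (y1 (shiftHigh k 0)) = 0
    rw [(hlow k).1]; exact hy1'.1
  have p2 : (x * (y1 * h2)) 2 < (x * (y1 * h2)) 3 := by
    show x (y1 (shiftHigh k 2)) < x (y1 (shiftHigh k 3))
    rw [(hlow k).2.1, (hlow k).2.2]; exact hy1'.2
  have p4 : ∀ i : Fin 8, 4 < i.val → (x * (y1 * h2)) 4 < (x * (y1 * h2)) i := by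
    intro i hi
    refine lt_of_le_of_ne ?_ ((x * (y1 * h2)).injective.ne (by intro h; rw [← h] at hi; exact absurd hi (by decide)))
    show x (y1 (shiftHigh k 4)) ≤ x (y1 (shiftHigh k i))
    rw [hkm]
    exact hmin _ (hhigh k hk i hi.le)
  obtain ⟨h, hh, q0, q2, q4, q6⟩ : ∃ h ∈ treeGroup, (x * h) 0 = 0 ∧ (x * h) 2 < (x * h) 3 ∧
      (∀ i : Fin 8, 4 < i.val → (x * h) 4 < (x * h) i) ∧ (x * h) 6 < (x * h) 7 := by
    rcases lt_or_gt_of_ne ((x * (y1 * h2)).injective.ne (show (6 : Fin 8) ≠ 7 by decide)) with h | h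
    · exact ⟨y1 * h2, hmem2, p0, p2, p4, h⟩
    · refine ⟨y1 * h2 * Equiv.swap 6 7, mul_mem hmem2 (fun i j => (hswap 0 i j).2.2), p0, p2, ?_, h⟩
      intro i hi
      have hp : ∀ i : Fin 8, 4 < i.val → 4 < (Equiv.swap (6 : Fin 8) 7 i).val := by decide +kernel
      exact p4 _ (hp i hi)
  set z := x * h with hz
  have hgood := good_normalised z (fun i j hij => z.injective.ne hij) q0 q2 (q4 5 (by decide)) (q4 6 (by decide)) q6
  rw [good, List.any_eq_true] at hgood
  obtain ⟨g, hgw, hg⟩ := hgood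
  have hspec := List.all_eq_true.mp wit_spec g hgw
  simp only [Bool.and_eq_true, List.all_eq_true, List.any_eq_true, List.mem_finRange, forall_const,
    true_and, beq_iff_eq, bne_iff_ne] at hspec hg
  obtain ⟨i0, hi0⟩ := hspec.2
  refine ⟨ofLev g hspec.1, fun i j => hspec.1 i j, fun he => hi0 (Equiv.Perm.congr_fun he i0), ?_⟩
  have hmem : z⁻¹ * ofLev g hspec.1 * z ∈ treeGroup := by
    intro i j
    have := hg i j
    rwa [inv8_eq, inv8_eq] at this
  have := mul_mem (mul_mem hh hmem) (inv_mem hh)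
  rwa [hz, show h * ((x * h)⁻¹ * ofLev g hspec.1 * (x * h)) * h⁻¹ = x⁻¹ * ofLev g hspec.1 * x by group] at this

end Cfsg.Agent.H96.SylowEight
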