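import Mathlib

set_option autoImplicit false

/-!
Orbits of a Sylow subgroup in a transitive action.
-/

namespace Cfsg.Agent.H96

variable {G Ω : Type*} [Group G] [Finite G] [MulAction G Ω]

/-- In a transitive action, every orbit of a Sylow `p`-subgroup has at least `n_p` points. -/
theorem pow_factorization_le_card_orbit [Finite Ω] [MulAction.IsPretransitive G Ω] {p : ℕ}
    [Fact p.Prime] (P : Sylow p G) (a : Ω) :
    p ^ (Nat.card Ω).factorization p ≤ Nat.card (MulAction.orbit (↥(P : Subgroup G)) a) := by
  have hp : p.Prime := Fact.out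
  have hPc : Nat.card (P : Subgroup G) = p ^ (Nat.card G).factorization p := P.card_eq_multiplicity
  have hidx : (MulAction.stabilizer G a).index = Nat.card Ω := MulAction.index_stabilizer_of_transitive G a
  have hmul : Nat.card (MulAction.stabilizer G a) * Nat.card Ω = Nat.card G := by
    rw [← hidx]; exact Subgroup.card_mul_index _
  set Q := MulAction.stabilizer (↥(P : Subgroup G)) a
  have hQle : Nat.card Q ∣ Nat.card (MulAction.stabilizer G a) := by
    refine Subgroup.card_dvd_of_injective
      ((((P : Subgroup G).subtype.comp Q.subtype)).codRestrict _ (fun x => x.2)) ?_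
    intro x y h
    exact Subtype.ext (Subtype.ext (Subtype.ext_iff.mp h : _))
  obtain ⟨j, hj⟩ := (IsPGroup.iff_card.mp (P.isPGroup'.to_subgroup Q))
  have hjle : p ^ j ∣ Nat.card (MulAction.stabilizer G a) := hj ▸ hQle
  have ha0 : Nat.card (MulAction.stabilizer G a) ≠ 0 := Nat.card_pos.ne'
  have hn0 : Nat.card Ω ≠ 0 := by
    rw [← hidx]; exact Subgroup.index_ne_zero_of_finite
  have hj' : j ≤ (Nat.card (MulAction.stabilizer G a)).factorization p :=
    (hp.pow_dvd_iff_le_factorization ha0).mp hjle
  have hfac : (Nat.card G).factorization p =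
      (Nat.card (MulAction.stabilizer G a)).factorization p + (Nat.card Ω).factorization p := by
    rw [← hmul, Nat.factorization_mul ha0 hn0]; rfl
  have horb : Nat.card (MulAction.orbit (↥(P : Subgroup G)) a) * p ^ j =
      p ^ (Nat.card G).factorization p := by
    rw [← hj, ← hPc]
    rw [← Nat.card_prod]
    exact Nat.card_congr (MulAction.orbitProdStabilizerEquivGroup _ a)
  by_contra hlt
  rw [not_le] at hlt
  have : Nat.card (MulAction.orbit (↥(P : Subgroup G)) a) * p ^ j <
      p ^ (Nat.card Ω).factorization p * p ^ j :=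
    Nat.mul_lt_mul_of_pos_right hlt (pow_pos hp.pos _)
  rw [horb, ← pow_add] at this
  have := (Nat.pow_lt_pow_iff_right hp.one_lt).mp this
  omega

end Cfsg.Agent.H96
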