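import Mathlib
import Cfsg.Agent.H96.FixCount

set_option autoImplicit false

/-!
Two-transitive actions: two-point stabilisers, their fixed sets (lines), and sums over them.
-/

namespace Cfsg.Agent.H96

open MulAction

variable (G : Type*) {Ω : Type*} [Group G] [MulAction G Ω]

/-- `G` is transitive on ordered pairs of distinct points. -/
def TwoTrans (G Ω : Type*) [Group G] [MulAction G Ω] : Prop :=
  ∀ a b c d : Ω, a ≠ b → c ≠ d → ∃ g : G, g • a = c ∧ g • b = d

/-- The stabiliser of two points. -/
def pairStab (a b : Ω) : Subgroup G := stabilizer G a ⊓ stabilizer G b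

open scoped Classical in
/-- The points fixed by the stabiliser of two points. -/
noncomputable def line [Fintype Ω] (a b : Ω) : Finset Ω :=
  Finset.univ.filter fun z => ∀ g ∈ pairStab G a b, g • z = z

variable {G}

theorem mem_pairStab {a b : Ω} {g : G} : g ∈ pairStab G a b ↔ g • a = a ∧ g • b = b := Iff.rfl

theorem pairStab_comm (a b : Ω) : pairStab G a b = pairStab G b a := inf_comm _ _

theorem conj_mem_pairStab {a b : Ω} {g x : G} (hg : g ∈ pairStab G a b) :
    x * g * x⁻¹ ∈ pairStab G (x • a) (x • b) := by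
  rw [mem_pairStab] at hg ⊢
  simp [mul_smul, hg.1, hg.2]

theorem pairStab_smul (a b : Ω) (x : G) :
    pairStab G (x • a) (x • b) = (pairStab G a b).map (MulAut.conj x).toMonoidHom := by
  ext g
  constructor
  · intro hg
    refine ⟨x⁻¹ * g * x, ?_, by simp [mul_assoc]⟩
    have := conj_mem_pairStab (x := x⁻¹) hg
    simpa using this
  · rintro ⟨g, hg, rfl⟩
    simpa using conj_mem_pairStab (x := x) hg

theorem card_pairStab_eq (h2 : TwoTrans G Ω) {a b c d : Ω} (hab : a ≠ b) (hcd : c ≠ d) :
    Nat.card (pairStab G c d) = Nat.card (pairStab G a b) := by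
  obtain ⟨x, rfl, rfl⟩ := h2 a b c d hab hcd
  rw [pairStab_smul]
  exact Nat.card_congr ((pairStab G a b).equivMapOfInjective _ (MulAut.conj x).injective).toEquiv.symm

section Line

variable [Fintype Ω]

theorem mem_line {a b z : Ω} : z ∈ line G a b ↔ ∀ g ∈ pairStab G a b, g • z = z := by
  classical
  simp [line]

theorem left_mem_line (a b : Ω) : a ∈ line G a b := mem_line.mpr fun _ hg => hg.1

theorem right_mem_line (a b : Ω) : b ∈ line G a b := mem_line.mpr fun _ hg => hg.2

theorem line_comm (a b : Ω) : line G a b = line G b a := by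
  ext z; rw [mem_line, mem_line, pairStab_comm]

theorem smul_mem_line_iff (x : G) (a b z : Ω) : x • z ∈ line G (x • a) (x • b) ↔ z ∈ line G a b := by
  rw [mem_line, mem_line]
  constructor
  · intro h g hg
    have := h _ (conj_mem_pairStab (x := x) hg)
    simpa [mul_smul] using this
  · intro h g hg
    have := h _ (by simpa using conj_mem_pairStab (x := x⁻¹) hg : x⁻¹ * g * x ∈ pairStab G a b)
    simpa [mul_smul, inv_smul_eq_iff] using this

theorem card_line_eq (h2 : TwoTrans G Ω) {a b c d : Ω} (hab : a ≠ b) (hcd : c ≠ d) :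
    (line G c d).card = (line G a b).card := by
  obtain ⟨x, rfl, rfl⟩ := h2 a b c d hab hcd
  refine (Finset.card_bij (fun z _ => x • z) (fun z hz => (smul_mem_line_iff x a b z).mpr hz)
    (fun z _ w _ h => MulAction.injective x h) (fun z hz => ⟨x⁻¹ • z, ?_, smul_inv_smul x z⟩)).symm
  rw [← smul_mem_line_iff x, smul_inv_smul]
  exact hz

theorem pairStab_eq_of_mem_line [Finite G] (h2 : TwoTrans G Ω) {a b u v : Ω} (hab : a ≠ b)
    (hu : u ∈ line G a b) (hv : v ∈ line G a b) (huv : u ≠ v) :
    pairStab G u v = pairStab G a b :=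
  (Subgroup.eq_of_le_of_card_ge (fun g hg => (mem_pairStab (a := u) (b := v)).mpr ⟨mem_line.mp hu g hg, mem_line.mp hv g hg⟩)
    (card_pairStab_eq h2 hab huv).le).symm

theorem line_eq_of_mem [Finite G] (h2 : TwoTrans G Ω) {a b u v : Ω} (hab : a ≠ b)
    (hu : u ∈ line G a b) (hv : v ∈ line G a b) (huv : u ≠ v) :
    line G u v = line G a b := by
  ext z
  rw [mem_line, mem_line, pairStab_eq_of_mem_line h2 hab hu hv huv]

/-- Points fixed by an element are closed under lines. -/
theorem fixed_of_mem_line {g : G} {x y z : Ω} (hx : g • x = x) (hy : g • y = y)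
    (hz : z ∈ line G x y) : g • z = z :=
  mem_line.mp hz g (mem_pairStab.mpr ⟨hx, hy⟩)

/-- A proper set closed under lines has at most `(n - 1) / (k - 1)` points. -/
theorem closed_card_mul_le [Finite G] (h2 : TwoTrans G Ω) {a b : Ω} (hab : a ≠ b) (S : Finset Ω)
    (hS : ∀ x ∈ S, ∀ y ∈ S, x ≠ y → line G x y ⊆ S) {z : Ω} (hz : z ∉ S) :
    S.card * ((line G a b).card - 1) ≤ Fintype.card Ω - 1 := by
  classical
  have hzs : ∀ s ∈ S, z ≠ s := fun s hs h => hz (h ▸ hs)
  have hdis : (↑S : Set Ω).PairwiseDisjoint fun s => (line G z s).erase z := by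
    intro s hs s' hs' hne
    simp only [Function.onFun]
    rw [Finset.disjoint_left]
    intro w hw hw'
    rw [Finset.mem_erase] at hw hw'
    have e1 := line_eq_of_mem h2 (hzs s hs) (left_mem_line z s) hw.2 (Ne.symm hw.1)
    have e2 := line_eq_of_mem h2 (hzs s' hs') (left_mem_line z s') hw'.2 (Ne.symm hw'.1)
    have hss : s' ∈ line G z s := by rw [← e1, e2]; exact right_mem_line z s'
    exact hz (hS s hs s' hs' hne (by
      rw [line_eq_of_mem h2 (hzs s hs) (right_mem_line z s) hss hne]; exact left_mem_line z s))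
  have hcard : (S.biUnion fun s => (line G z s).erase z).card = S.card * ((line G a b).card - 1) := by
    rw [Finset.card_biUnion hdis, Finset.sum_congr rfl fun s hs => ?_, Finset.sum_const, smul_eq_mul]
    rw [Finset.card_erase_of_mem (left_mem_line z s), card_line_eq h2 hab (hzs s hs)]
  rw [← hcard, ← Finset.card_univ, ← Finset.card_erase_of_mem (Finset.mem_univ z)]
  apply Finset.card_le_card
  intro w hw
  obtain ⟨s, _, hw⟩ := Finset.mem_biUnion.mp hw
  exact Finset.mem_erase.mpr ⟨(Finset.mem_erase.mp hw).1, Finset.mem_univ w⟩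

theorem fixCard_mul_le [Finite G] [FaithfulSMul G Ω] (h2 : TwoTrans G Ω) {a b : Ω} (hab : a ≠ b)
    {g : G} (hg : g ≠ 1) :
    fixCard Ω g * ((line G a b).card - 1) ≤ Fintype.card Ω - 1 := by
  classical
  obtain ⟨z, hz⟩ : ∃ z : Ω, g • z ≠ z := by
    by_contra h
    push Not at h
    exact hg (eq_of_smul_eq_smul (α := Ω) fun w => by rw [h, one_smul])
  rw [fixCard_eq_filter]
  refine closed_card_mul_le h2 hab _ (fun x hx y hy _ w hw => ?_) (z := z) (by simp [hz])
  simp only [Finset.mem_filter, Finset.mem_univ, true_and] at hx hy ⊢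
  exact fixed_of_mem_line hx hy hw

end Line

section Sums

variable [Fintype Ω]

theorem twoTrans_of_rank [IsPretransitive G Ω] (a : Ω) (hr : rankAt G a = 2) : TwoTrans G Ω := by
  classical
  have key : ∀ b c : Ω, b ≠ a → c ≠ a → ∃ g : G, g • a = a ∧ g • b = c := by
    intro b c hb hc
    have hq : (Quotient.mk'' b : Quotient (orbitRel (stabilizer G a) Ω)) = Quotient.mk'' c := by
      by_contra hne
      have h3 : ({Quotient.mk'' a, Quotient.mk'' b, Quotient.mk'' c} :
          Finset (Quotient (orbitRel (stabilizer G a) Ω))).card = 3 := by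
        have hne' : ∀ x : Ω, x ≠ a → (Quotient.mk'' a : Quotient (orbitRel (stabilizer G a) Ω)) ≠ Quotient.mk'' x := by
          intro x hx h
          obtain ⟨g, hg⟩ := orbitRel_apply.mp (Quotient.exact h.symm)
          exact hx (hg.symm.trans g.2)
        rw [Finset.card_insert_of_notMem, Finset.card_pair hne]
        simp [hne' b hb, hne' c hc]
      have := Finset.card_le_univ ({Quotient.mk'' a, Quotient.mk'' b, Quotient.mk'' c} :
          Finset (Quotient (orbitRel (stabilizer G a) Ω)))
      rw [h3, ← Nat.card_eq_fintype_card] at this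
      rw [rankAt] at hr
      omega
    obtain ⟨g, hg⟩ := orbitRel_apply.mp (Quotient.exact hq.symm)
    exact ⟨(g : G), g.2, hg⟩
  intro x y z w hxy hzw
  obtain ⟨u, hu⟩ := exists_smul_eq G x a
  obtain ⟨v, hv⟩ := exists_smul_eq G z a
  obtain ⟨g, hga, hgb⟩ := key (u • y) (v • w) (fun h => hxy (MulAction.injective u (hu.trans h.symm)))
    (fun h => hzw (MulAction.injective v (hv.trans h.symm)))
  refine ⟨v⁻¹ * g * u, ?_, ?_⟩
  · rw [mul_smul, mul_smul, hu, hga, ← hv, inv_smul_smul]
  · rw [mul_smul, mul_smul, hgb, inv_smul_smul]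

/-- Summing a class function over a point stabiliser against the fixed point count. -/
theorem sum_stabilizer_mul [Fintype G] (h2 : TwoTrans G Ω) {a b : Ω} (hab : a ≠ b)
    [Fintype (stabilizer G a)] [Fintype (pairStab G a b)] {M : Type*} [CommRing M] (f : G → M)
    (hf : ∀ g x : G, f (x * g * x⁻¹) = f g) :
    ∑ g : stabilizer G a, ((fixCard Ω (g : G) : M) - 1) * f g
      = ((Fintype.card Ω : M) - 1) * ∑ g : pairStab G a b, f g := by
  classical
  have h1 : ∀ g : stabilizer G a, ((fixCard Ω (g : G) : M) - 1) * f g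
      = ∑ c ∈ Finset.univ.erase a, if (g : G) • c = c then f g else 0 := by
    intro g
    have ha : a ∈ Finset.univ.filter fun c : Ω => (g : G) • c = c :=
      Finset.mem_filter.mpr ⟨Finset.mem_univ a, g.2⟩
    rw [← Finset.sum_filter, Finset.sum_const, nsmul_eq_mul, Finset.filter_erase, fixCard_eq_filter,
      Finset.card_erase_of_mem ha, Nat.cast_sub, Nat.cast_one]
    exact Finset.card_pos.mpr ⟨a, ha⟩
  simp only [h1]
  rw [Finset.sum_comm]
  have h3 : ∀ c ∈ Finset.univ.erase a, (∑ g : stabilizer G a, if (g : G) • c = c then f g else 0)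
      = ∑ g : pairStab G a b, f g := by
    intro c hc
    obtain ⟨x, hxa, hxb⟩ := h2 a b a c hab (Ne.symm (Finset.ne_of_mem_erase hc))
    rw [← Finset.sum_filter]
    refine (Finset.sum_bij (fun (g : pairStab G a b) _ => (⟨x * g * x⁻¹, ?_⟩ : stabilizer G a)) ?_ ?_ ?_ ?_).symm
    · have := (conj_mem_pairStab (x := x) g.2).1
      rwa [hxa] at this
    · intro g _
      simp only [Finset.mem_filter, Finset.mem_univ, true_and]
      have := (mem_pairStab.mp (conj_mem_pairStab (x := x) g.2)).2
      rwa [hxb] at this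
    · intro g _ g' _ h
      exact Subtype.ext ((MulAut.conj x).injective (by simpa using h))
    · intro g hg
      simp only [Finset.mem_filter, Finset.mem_univ, true_and] at hg
      have hm := conj_mem_pairStab (x := x⁻¹) (a := a) (b := c) (g := (g : G)) ⟨g.2, hg⟩
      rw [← hxb, inv_smul_smul, inv_smul_eq_iff.mpr hxa.symm] at hm
      exact ⟨⟨x⁻¹ * g * x⁻¹⁻¹, hm⟩, Finset.mem_univ _, Subtype.ext (by simp [mul_assoc])⟩
    · intro g _
      exact (hf _ _).symm
  rw [Finset.sum_congr rfl h3, Finset.sum_const, nsmul_eq_mul, Finset.card_erase_of_mem (Finset.mem_univ a),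
    Finset.card_univ, Nat.cast_sub, Nat.cast_one]
  exact Fintype.card_pos_iff.mpr ⟨a⟩

theorem card_stabilizer_eq [Fintype G] (h2 : TwoTrans G Ω) {a b : Ω} (hab : a ≠ b) (hr : rankAt G a = 2) :
    Nat.card (stabilizer G a) = (Fintype.card Ω - 1) * Nat.card (pairStab G a b) := by
  classical
  have h := sum_stabilizer_mul (M := ℤ) h2 hab (fun _ => 1) (fun _ _ => rfl)
  simp only [mul_one, Finset.sum_const, Finset.card_univ, nsmul_eq_mul, Finset.sum_sub_distrib] at h
  have h' : ∑ g : stabilizer G a, (fixCard Ω (g : G) : ℤ) = (2 * Fintype.card (stabilizer G a) : ℕ) := by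
    rw [← hr, ← sum_fixCard_stabilizer]; push_cast; rfl
  rw [h'] at h
  push_cast at h
  zify [Fintype.card_pos_iff.mpr ⟨a⟩]
  rw [Nat.card_eq_fintype_card, Nat.card_eq_fintype_card]
  linarith

end Sums

end Cfsg.Agent.H96
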