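import Mathlib
import Cfsg.Agent.H96.TwoTransBasic

set_option autoImplicit false

/-!
Orbit sizes of a two-point stabiliser.
-/

namespace Cfsg.Agent.H96

open MulAction

variable (G : Type*) {Ω : Type*} [Group G] [MulAction G Ω]

/-- The size of the orbit of `z` under the stabiliser of `a, b`. -/
noncomputable def orbSize (a b z : Ω) : ℕ := Nat.card (orbit (↥(pairStab G a b)) z)

variable {G} [Fintype Ω]

/-- The points in orbits of size at least three. -/
noncomputable def bigPts (G : Type*) [Group G] [MulAction G Ω] (a b : Ω) : Finset Ω :=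
  Finset.univ.filter fun z => 3 ≤ orbSize G a b z

/-- The points in orbits of size two. -/
noncomputable def twoPts (G : Type*) [Group G] [MulAction G Ω] (a b : Ω) : Finset Ω :=
  Finset.univ.filter fun z => orbSize G a b z = 2

theorem one_le_orbSize (a b z : Ω) : 1 ≤ orbSize G a b z := by
  haveI : Nonempty (orbit (↥(pairStab G a b)) z) := ⟨⟨z, mem_orbit_self z⟩⟩
  exact Nat.card_pos

theorem orbSize_eq_one_iff (a b z : Ω) : orbSize G a b z = 1 ↔ z ∈ line G a b := by
  rw [mem_line]
  constructor
  · intro h g hg
    rw [orbSize, Nat.card_eq_one_iff_unique] at h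
    have := h.1.elim ⟨g • z, ⟨(⟨g, hg⟩ : pairStab G a b), rfl⟩⟩ ⟨z, mem_orbit_self z⟩
    exact congrArg Subtype.val this
  · intro h
    rw [orbSize, Nat.card_eq_one_iff_unique]
    refine ⟨⟨?_⟩, ⟨⟨z, mem_orbit_self z⟩⟩⟩
    rintro ⟨u, g, rfl⟩ ⟨v, g', rfl⟩
    exact Subtype.ext (show (g : G) • z = (g' : G) • z by rw [h g g.2, h g' g'.2])

theorem orbSize_eq_of_mem {a b z w : Ω} (hw : w ∈ orbit (↥(pairStab G a b)) z) :
    orbSize G a b w = orbSize G a b z := by
  rw [orbSize, orbSize, orbit_eq_iff.mpr hw]

theorem card_split [DecidableEq Ω] (a b : Ω) :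
    (line G a b).card + (twoPts G a b).card + (bigPts G a b).card = Fintype.card Ω := by
  classical
  rw [← Finset.card_union_of_disjoint, ← Finset.card_union_of_disjoint, ← Finset.card_univ]
  · congr 1
    ext z
    simp only [Finset.mem_union, twoPts, bigPts, Finset.mem_filter, Finset.mem_univ, true_and,
      ← orbSize_eq_one_iff, iff_true]
    have := one_le_orbSize (G := G) a b z
    omega
  · rw [Finset.disjoint_left]
    intro z hz hz'
    simp only [Finset.mem_union, twoPts, bigPts, Finset.mem_filter, Finset.mem_univ, true_and,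
      ← orbSize_eq_one_iff] at hz hz'
    omega
  · rw [Finset.disjoint_left]
    intro z hz hz'
    simp only [twoPts, Finset.mem_filter, Finset.mem_univ, true_and, ← orbSize_eq_one_iff] at hz hz'
    omega

theorem orbit_subset_bigPts {a b z : Ω} (hz : z ∈ bigPts G a b) [Fintype (orbit (↥(pairStab G a b)) z)] :
    (orbit (↥(pairStab G a b)) z).toFinset ⊆ bigPts G a b := by
  intro w hw
  simp only [bigPts, Finset.mem_filter, Finset.mem_univ, true_and] at hz ⊢
  rw [orbSize_eq_of_mem (Set.mem_toFinset.mp hw)]
  exact hz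

/-- A small set of points in big orbits is one orbit. -/
theorem orbSize_of_bigPts_small {a b z : Ω} (hz : z ∈ bigPts G a b) (hB : (bigPts G a b).card ≤ 5) :
    orbSize G a b z = (bigPts G a b).card := by
  classical
  have h3 : 3 ≤ orbSize G a b z := (Finset.mem_filter.mp hz).2
  have hsub := orbit_subset_bigPts hz
  have hcard : (orbit (↥(pairStab G a b)) z).toFinset.card = orbSize G a b z := by
    rw [orbSize, Nat.card_eq_card_toFinset]
  apply le_antisymm
  · rw [← hcard]; exact Finset.card_le_card hsub
  by_contra hlt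
  obtain ⟨w, hw, hwz⟩ : ∃ w ∈ bigPts G a b, w ∉ (orbit (↥(pairStab G a b)) z).toFinset := by
    by_contra h
    push Not at h
    exact hlt (hcard ▸ Finset.card_le_card h)
  have hdis : Disjoint (orbit (↥(pairStab G a b)) z).toFinset (orbit (↥(pairStab G a b)) w).toFinset := by
    rw [Finset.disjoint_left]
    intro u hu hu'
    rw [Set.mem_toFinset] at hu hu'
    exact hwz (Set.mem_toFinset.mpr (orbit_eq_iff.mp ((orbit_eq_iff.mpr hu').symm.trans (orbit_eq_iff.mpr hu))))
  have h4 := Finset.card_le_card (Finset.union_subset hsub (orbit_subset_bigPts hw))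
  rw [Finset.card_union_of_disjoint hdis, hcard] at h4
  have h5 : 3 ≤ (orbit (↥(pairStab G a b)) w).toFinset.card := by
    rw [← Nat.card_eq_card_toFinset]
    exact (Finset.mem_filter.mp hw).2
  omega

/-- Sum of fixed point counts over the two-point stabiliser. -/
theorem sum_fixCard_pairStab (a b : Ω) [Fintype (pairStab G a b)] :
    ∑ g : pairStab G a b, (fixCard Ω (g : G) : ℚ)
      = (Fintype.card (pairStab G a b) : ℚ) * ∑ z : Ω, (1 : ℚ) / orbSize G a b z := by
  classical
  have h1 : ∀ g : pairStab G a b, (fixCard Ω (g : G) : ℚ) = ∑ z : Ω, if (g : G) • z = z then (1 : ℚ) else 0 := by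
    intro g
    rw [fixCard_eq_filter, Finset.sum_boole]
  simp only [h1]
  rw [Finset.sum_comm, Finset.mul_sum]
  refine Finset.sum_congr rfl fun z _ => ?_
  rw [Finset.sum_boole, ← Fintype.card_subtype]
  have h := Nat.card_congr (orbitProdStabilizerEquivGroup (↥(pairStab G a b)) z)
  rw [Nat.card_prod] at h
  have hpos : (orbSize G a b z : ℚ) ≠ 0 := by
    have := one_le_orbSize (G := G) a b z
    exact_mod_cast (by omega : orbSize G a b z ≠ 0)
  field_simp
  have h2 : orbSize G a b z * Fintype.card {g : pairStab G a b // (g : G) • z = z}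
      = Fintype.card (pairStab G a b) := by
    rw [← Nat.card_eq_fintype_card, ← Nat.card_eq_fintype_card, ← h]
    rfl
  rw [mul_comm] at h2
  exact_mod_cast h2

/-- The orbit count, split by orbit size. -/
theorem orbitCount_le [DecidableEq Ω] (a b : Ω) :
    2 * ∑ z : Ω, (1 : ℚ) / orbSize G a b z
      ≤ 2 * (line G a b).card + (twoPts G a b).card + (2 / 3 : ℚ) * (bigPts G a b).card := by
  classical
  have key : ∀ z : Ω, 2 * ((1 : ℚ) / orbSize G a b z) ≤ 2 * (if z ∈ line G a b then 1 else 0)
      + (if z ∈ twoPts G a b then 1 else 0) + (2 / 3 : ℚ) * (if z ∈ bigPts G a b then 1 else 0) := by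
    intro z
    have h1 := one_le_orbSize (G := G) a b z
    have hl := orbSize_eq_one_iff (G := G) a b z
    rcases Nat.lt_or_ge (orbSize G a b z) 3 with h3 | h3
    · rcases (by omega : orbSize G a b z = 1 ∨ orbSize G a b z = 2) with h | h
      · simp [twoPts, bigPts, h, hl.mp h]
      · have : z ∉ line G a b := fun hz => by rw [hl.mpr hz] at h; omega
        simp [twoPts, bigPts, h, this]
    · have : z ∉ line G a b := fun hz => by rw [hl.mpr hz] at h3; omega
      have h2 : orbSize G a b z ≠ 2 := by omega
      simp only [twoPts, bigPts, this, h2, h3, Finset.mem_filter, Finset.mem_univ, true_and, if_true, if_false]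
      have : (3 : ℚ) ≤ orbSize G a b z := by exact_mod_cast h3
      have h' : (2 : ℚ) / orbSize G a b z ≤ 2 / 3 := div_le_div_of_nonneg_left (by norm_num) (by norm_num) this
      rw [mul_one_div]
      linarith
  rw [Finset.mul_sum]
  refine le_trans (Finset.sum_le_sum fun z _ => key z) (le_of_eq ?_)
  simp only [Finset.sum_add_distrib, ← Finset.mul_sum, Finset.sum_boole, Finset.filter_univ_mem]

/-- The orbit count when at most five points lie in big orbits. -/
theorem orbitCount_small [DecidableEq Ω] (a b : Ω) (hB : (bigPts G a b).card ≤ 5) :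
    2 * ∑ z : Ω, (1 : ℚ) / orbSize G a b z
      = 2 * (line G a b).card + (twoPts G a b).card + (if (bigPts G a b).card = 0 then 0 else 2) := by
  classical
  have key : ∀ z : Ω, 2 * ((1 : ℚ) / orbSize G a b z) = 2 * (if z ∈ line G a b then 1 else 0)
      + (if z ∈ twoPts G a b then 1 else 0) + (if z ∈ bigPts G a b then 2 / ((bigPts G a b).card : ℚ) else 0) := by
    intro z
    have h1 := one_le_orbSize (G := G) a b z
    have hl := orbSize_eq_one_iff (G := G) a b z
    rcases Nat.lt_or_ge (orbSize G a b z) 3 with h3 | h3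
    · rcases (by omega : orbSize G a b z = 1 ∨ orbSize G a b z = 2) with h | h
      · simp [twoPts, bigPts, h, hl.mp h]
      · have : z ∉ line G a b := fun hz => by rw [hl.mpr hz] at h; omega
        simp [twoPts, bigPts, h, this]
    · have : z ∉ line G a b := fun hz => by rw [hl.mpr hz] at h3; omega
      have h2 : orbSize G a b z ≠ 2 := by omega
      have hz : z ∈ bigPts G a b := Finset.mem_filter.mpr ⟨Finset.mem_univ z, h3⟩
      have h2' : z ∉ twoPts G a b := fun h => h2 (Finset.mem_filter.mp h).2
      rw [if_neg this, if_neg h2', if_pos hz, orbSize_of_bigPts_small hz hB]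
      ring
  rw [Finset.mul_sum, Finset.sum_congr rfl fun z _ => key z, Finset.sum_add_distrib, Finset.sum_add_distrib,
    ← Finset.mul_sum, Finset.sum_boole, Finset.sum_boole, ← Finset.sum_filter, Finset.sum_const,
    Finset.filter_univ_mem, Finset.filter_univ_mem, Finset.filter_univ_mem, nsmul_eq_mul]
  congr 1
  split_ifs with h
  · simp [h]
  · field_simp

end Cfsg.Agent.H96
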