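import Mathlib
import Cfsg.Agent.H96.TwoTransOrbits

set_option autoImplicit false

/-!
Two-transitive groups in which the two-point stabiliser fixes only the two points.
-/

namespace Cfsg.Agent.H96

open MulAction

variable {G Ω : Type*} [Group G] [MulAction G Ω] [Finite G] [FaithfulSMul G Ω] [Fintype Ω]

theorem eq_of_mem_line_two {a b z : Ω} (hab : a ≠ b) (hk : (line G a b).card = 2) (hz : z ∈ line G a b) :
    z = a ∨ z = b := by
  classical
  have hsub : ({a, b} : Finset Ω) ⊆ line G a b := by
    intro w hw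
    rcases Finset.mem_insert.mp hw with rfl | hw
    · exact left_mem_line _ _
    · rw [Finset.mem_singleton.mp hw]; exact right_mem_line _ _
  have := Finset.eq_of_subset_of_card_le hsub (by rw [hk, Finset.card_pair hab])
  rw [← this] at hz
  simpa using hz

theorem pairStab_no_threeOrbit (h2 : TwoTrans G Ω) {a b : Ω} (hab : a ≠ b) (hn : 6 ≤ Fintype.card Ω)
    (hk : (line G a b).card = 2) (hB : (bigPts G a b).card = 3) : False := by
  classical
  obtain ⟨z0, hz0⟩ : (bigPts G a b).Nonempty := Finset.card_pos.mp (by omega)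
  have h3 : orbSize G a b z0 = 3 := by rw [orbSize_of_bigPts_small hz0 (by omega), hB]
  have hdvd : 3 ∣ Nat.card (pairStab G a b) := by
    have h := Nat.card_congr (orbitProdStabilizerEquivGroup (↥(pairStab G a b)) z0)
    rw [Nat.card_prod] at h
    rw [← h, ← h3]
    exact Dvd.intro _ rfl
  obtain ⟨⟨x, hxH⟩, hxo⟩ := exists_prime_orderOf_dvd_card' 3 hdvd
  have hx3 : x ^ 3 = 1 := by
    have := congrArg Subtype.val (pow_orderOf_eq_one (⟨x, hxH⟩ : pairStab G a b))
    rw [hxo] at this
    exact this
  have hx1 : x ≠ 1 := by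
    rintro rfl
    have : orderOf (⟨1, hxH⟩ : pairStab G a b) = 1 := orderOf_eq_one_iff.mpr rfl
    omega
  -- `x` fixes all points outside the big orbit
  have hfix : ∀ w : Ω, w ∉ bigPts G a b → x • w = w := by
    intro w hw
    have hle : orbSize G a b w ≤ 2 := by
      by_contra h
      exact hw (Finset.mem_filter.mpr ⟨Finset.mem_univ w, by omega⟩)
    by_contra hne
    have hcube : x • x • x • w = w := by
      rw [← mul_smul, ← mul_smul, show x * x * x = x ^ 3 by rw [pow_succ, pow_two], hx3, one_smul]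
    have hsub : ({w, x • w, x • x • w} : Finset Ω) ⊆ (orbit (↥(pairStab G a b)) w).toFinset := by
      intro u hu
      rw [Set.mem_toFinset]
      simp only [Finset.mem_insert, Finset.mem_singleton] at hu
      rcases hu with rfl | rfl | rfl
      · exact mem_orbit_self _
      · exact ⟨⟨x, hxH⟩, rfl⟩
      · exact ⟨⟨x * x, mul_mem hxH hxH⟩, mul_smul x x w⟩
    have hc3 : ({w, x • w, x • x • w} : Finset Ω).card = 3 := by
      rw [Finset.card_insert_of_notMem, Finset.card_pair]
      · intro h; exact hne (MulAction.injective x h.symm)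
      · simp only [Finset.mem_insert, Finset.mem_singleton, not_or]
        refine ⟨Ne.symm hne, fun h => hne ?_⟩
        have h' : x • w = x • (x • x • w) := congrArg (x • ·) h
        rw [hcube] at h'
        exact h'
    have := Finset.card_le_card hsub
    rw [hc3, ← Nat.card_eq_card_toFinset] at this
    rw [orbSize] at hle
    omega
  obtain ⟨p, hp⟩ : ∃ p : Ω, x • p ≠ p := by
    by_contra h
    push Not at h
    exact hx1 (eq_of_smul_eq_smul (α := Ω) fun w => by rw [h, one_smul])
  have hpB : p ∈ bigPts G a b := by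
    by_contra h
    exact hp (hfix p h)
  have hcube : x • x • x • p = p := by
    rw [← mul_smul, ← mul_smul, show x * x * x = x ^ 3 by rw [pow_succ, pow_two], hx3, one_smul]
  set q := x • p with hq
  set r := x • q with hr
  have hxr : x • r = p := hcube
  have hpq : p ≠ q := Ne.symm hp
  have hqr : q ≠ r := fun h => hp (MulAction.injective x h.symm)
  have hpr : p ≠ r := fun h => hp (by
    have h' := hxr
    rw [← h] at h'
    exact h')
  have horb : ∀ u v : Ω, (∃ g ∈ pairStab G a b, g • u = v) → u ∈ bigPts G a b → v ∈ bigPts G a b := by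
    rintro u v ⟨g, hg, rfl⟩ hu
    simp only [bigPts, Finset.mem_filter, Finset.mem_univ, true_and] at hu ⊢
    rwa [orbSize_eq_of_mem (show g • u ∈ orbit (↥(pairStab G a b)) u from ⟨⟨g, hg⟩, rfl⟩)]
  have hqB : q ∈ bigPts G a b := horb p q ⟨x, hxH, rfl⟩ hpB
  have hrB : r ∈ bigPts G a b := horb q r ⟨x, hxH, rfl⟩ hqB
  have hBeq : bigPts G a b = {p, q, r} := by
    symm
    apply Finset.eq_of_subset_of_card_le
    · intro u hu
      simp only [Finset.mem_insert, Finset.mem_singleton] at hu
      rcases hu with rfl | rfl | rfl <;> assumption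
    · rw [hB, Finset.card_insert_of_notMem (by simp [hpq, hpr]), Finset.card_pair hqr]
  have hline : ∀ u ∈ line G a b, u ∉ bigPts G a b := by
    intro u hu hu'
    have := (Finset.mem_filter.mp hu').2
    rw [(orbSize_eq_one_iff a b u).mpr hu] at this
    omega
  obtain ⟨w, hw⟩ : (twoPts G a b).Nonempty := by
    apply Finset.card_pos.mp
    have := card_split (G := G) a b
    omega
  have hwB : w ∉ bigPts G a b := by
    intro h
    have := (Finset.mem_filter.mp h).2
    rw [(Finset.mem_filter.mp hw).2] at this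
    omega
  have hwL : w ∉ line G a b := by
    intro h
    have := (orbSize_eq_one_iff a b w).mpr h
    rw [(Finset.mem_filter.mp hw).2] at this
    omega
  obtain ⟨g, hgp, hgq⟩ := h2 p q p w hpq (fun h => hwB (h ▸ hpB))
  set x' := g * x * g⁻¹ with hx'
  have hx'p : x' • p = w := by
    conv_lhs => rw [← hgp]
    rw [hx', mul_smul, mul_smul, inv_smul_smul, ← hq, hgq]
  set z := g • r with hz
  have hx'w : x' • w = z := by
    conv_lhs => rw [← hgq]
    rw [hx', mul_smul, mul_smul, inv_smul_smul, ← hr]
  have hx'fix : ∀ u : Ω, u ≠ p → u ≠ w → u ≠ z → x' • u = u := by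
    intro u h1 h2' h3'
    rw [hx', mul_smul, mul_smul, hfix, smul_inv_smul]
    rw [hBeq]
    simp only [Finset.mem_insert, Finset.mem_singleton, inv_smul_eq_iff, hgp, hgq, ← hz, not_or]
    exact ⟨h1, h2', h3'⟩
  have hap : ∀ u ∈ line G a b, u ≠ p ∧ u ≠ w := fun u hu =>
    ⟨fun h => hline u hu (h ▸ hpB), fun h => hwL (h ▸ hu)⟩
  by_cases hzab : z = a ∨ z = b
  · -- a commutator of two three-cycles carries `p` to `w`
    set y := x' * x * x'⁻¹ * x⁻¹ with hy
    have hxinv : x⁻¹ • p = r := by rw [inv_smul_eq_iff]; exact hxr.symm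
    have hyp : y • p = w := by
      rw [hy, mul_smul, mul_smul, mul_smul, hxinv]
      have hr' : x'⁻¹ • r = r := by
        rw [inv_smul_eq_iff]
        refine (hx'fix r (Ne.symm hpr) (fun h => hwB (h ▸ hrB)) (fun h => ?_)).symm
        have hzB : z ∈ bigPts G a b := by rw [← h]; exact hrB
        refine hline z ?_ hzB
        rcases hzab with h' | h' <;> rw [h']
        · exact left_mem_line a b
        · exact right_mem_line a b
      rw [hr', hxr, hx'p]
    have hyfix : ∀ u ∈ line G a b, y • u = u := by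
      intro u hu
      have hxu : x • u = u := hfix u (hline u hu)
      have hxu' : x⁻¹ • u = u := by rw [inv_smul_eq_iff]; exact hxu.symm
      rw [hy, mul_smul, mul_smul, mul_smul, hxu']
      by_cases huz : u = z
      · have h1 : x'⁻¹ • u = w := by rw [inv_smul_eq_iff, hx'w, huz]
        rw [h1, hfix w hwB, hx'w, huz]
      · have h1 := hx'fix u (hap u hu).1 (hap u hu).2 huz
        have h1' : x'⁻¹ • u = u := by rw [inv_smul_eq_iff]; exact h1.symm
        rw [h1', hxu, h1]
    exact hwB (horb p w ⟨y, mem_pairStab.mpr ⟨hyfix a (left_mem_line a b), hyfix b (right_mem_line a b)⟩, hyp⟩ hpB)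
  · push Not at hzab
    refine hwB (horb p w ⟨x', mem_pairStab.mpr ⟨?_, ?_⟩, hx'p⟩ hpB)
    · exact hx'fix a (hap a (left_mem_line a b)).1 (hap a (left_mem_line a b)).2 (Ne.symm hzab.1)
    · exact hx'fix b (hap b (right_mem_line a b)).1 (hap b (right_mem_line a b)).2 (Ne.symm hzab.2)

end Cfsg.Agent.H96

namespace Cfsg.Agent.H96

open MulAction

variable {G Ω : Type*} [Group G] [MulAction G Ω] [Finite G] [FaithfulSMul G Ω] [Fintype Ω]

/-- If all orbits of the two-point stabiliser have at most two points, it is elementary abelian. -/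
theorem pairStab_sq_eq_one {a b : Ω} (hB : ∀ z : Ω, orbSize G a b z ≤ 2) {g : G}
    (hg : g ∈ pairStab G a b) : g * g = 1 := by
  classical
  apply eq_of_smul_eq_smul (α := Ω)
  intro z
  rw [one_smul, mul_smul]
  by_contra hne
  have hz1 : g • z ≠ z := fun h => hne (by rw [h, h])
  have hsub : ({z, g • z, g • g • z} : Finset Ω) ⊆ (orbit (↥(pairStab G a b)) z).toFinset := by
    intro u hu
    rw [Set.mem_toFinset]
    simp only [Finset.mem_insert, Finset.mem_singleton] at hu
    rcases hu with rfl | rfl | rfl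
    · exact mem_orbit_self _
    · exact ⟨⟨g, hg⟩, rfl⟩
    · exact ⟨⟨g * g, mul_mem hg hg⟩, mul_smul g g z⟩
  have hc3 : ({z, g • z, g • g • z} : Finset Ω).card = 3 := by
    rw [Finset.card_insert_of_notMem, Finset.card_pair]
    · intro h; exact hz1 (MulAction.injective g h.symm)
    · simp only [Finset.mem_insert, Finset.mem_singleton, not_or]
      exact ⟨Ne.symm hz1, Ne.symm hne⟩
  have := Finset.card_le_card hsub
  rw [hc3, ← Nat.card_eq_card_toFinset] at this
  have := hB z
  rw [orbSize] at this
  omega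

/-- With orbits of size at most two, all elements moving a point move it to the same place. -/
theorem smul_eq_of_moved {a b z : Ω} (hB : ∀ z : Ω, orbSize G a b z ≤ 2) {s t : G}
    (hs : s ∈ pairStab G a b) (ht : t ∈ pairStab G a b) (hsz : s • z ≠ z) (htz : t • z ≠ z) :
    s • z = t • z := by
  classical
  by_contra hne
  have hsub : ({z, s • z, t • z} : Finset Ω) ⊆ (orbit (↥(pairStab G a b)) z).toFinset := by
    intro u hu
    rw [Set.mem_toFinset]
    simp only [Finset.mem_insert, Finset.mem_singleton] at hu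
    rcases hu with rfl | rfl | rfl
    · exact mem_orbit_self _
    · exact ⟨⟨s, hs⟩, rfl⟩
    · exact ⟨⟨t, ht⟩, rfl⟩
  have hc3 : ({z, s • z, t • z} : Finset Ω).card = 3 := by
    rw [Finset.card_insert_of_notMem, Finset.card_pair hne]
    simp only [Finset.mem_insert, Finset.mem_singleton, not_or]
    exact ⟨Ne.symm hsz, Ne.symm htz⟩
  have := Finset.card_le_card hsub
  rw [hc3, ← Nat.card_eq_card_toFinset] at this
  have := hB z
  rw [orbSize] at this
  omega

/-- In an odd order group an element inverted by conjugation with another one is trivial. -/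
theorem eq_one_of_conj_eq_inv {M : Type*} [Group M] [Finite M] (hM : Odd (Nat.card M)) {x y : M}
    (h : y * x * y⁻¹ = x⁻¹) : x = 1 := by
  obtain ⟨m, hm⟩ := hM
  have hy2 : Commute (y ^ 2) x := by
    have h2 : y * x⁻¹ * y⁻¹ = x := by
      have := congrArg (·⁻¹) h
      simpa [mul_inv_rev, mul_assoc] using this
    rw [Commute, SemiconjBy, ← mul_inv_eq_iff_eq_mul]
    calc y ^ 2 * x * (y ^ 2)⁻¹ = y * (y * x * y⁻¹) * y⁻¹ := by
          rw [pow_two, mul_inv_rev]; simp only [mul_assoc]
      _ = x := by rw [h, h2]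
  have hy : Commute y x := by
    have : y = (y ^ 2) ^ (m + 1) := by
      rw [← pow_mul, show 2 * (m + 1) = Nat.card M + 1 by omega, pow_succ, pow_card_eq_one', one_mul]
    rw [this]
    exact hy2.pow_left _
  rw [hy.eq, mul_inv_cancel_right] at h
  have hx2 : x ^ 2 = 1 := by rw [pow_two]; exact mul_eq_one_iff_eq_inv.mpr h
  have : x = (x ^ 2) ^ (m + 1) := by
    rw [← pow_mul, show 2 * (m + 1) = Nat.card M + 1 by omega, pow_succ, pow_card_eq_one', one_mul]
  rw [this, hx2, one_pow]

theorem pairStab_card_eq_two {a b : Ω} (hab : a ≠ b)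
    (hk : (line G a b).card = 2) (hB : ∀ z : Ω, orbSize G a b z ≤ 2)
    (h2 : TwoTrans G Ω) (hn : 3 ≤ Fintype.card Ω) : Nat.card (pairStab G a b) = 2 := by
  classical
  set X := stabilizer G a
  set H' : Subgroup X := stabilizer (↥X) b with hH'
  have hmem : ∀ t : X, t ∈ H' ↔ (t : G) ∈ pairStab G a b :=
    fun t => ⟨fun h => mem_pairStab.mpr ⟨t.2, h⟩, fun h => (mem_pairStab.mp h).2⟩
  have hsq : ∀ t ∈ H', t * t = 1 := fun t ht => Subtype.ext (pairStab_sq_eq_one hB ((hmem t).mp ht))
  have hinv : ∀ t ∈ H', t⁻¹ = t := fun t ht => inv_eq_of_mul_eq_one_left (hsq t ht)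
  have hcomm : ∀ s ∈ H', ∀ t ∈ H', s * t = t * s := by
    intro s hs t ht
    have h := hinv _ (mul_mem hs ht)
    rw [mul_inv_rev, hinv s hs, hinv t ht] at h
    exact h.symm
  have hmove : ∀ z : Ω, z ≠ a → z ≠ b → ∃ t ∈ H', t • z ≠ z := by
    intro z hza hzb
    by_contra hcon
    push Not at hcon
    have : z ∈ line G a b := mem_line.mpr fun g hg => hcon ⟨g, hg.1⟩ ((hmem _).mpr hg)
    rcases eq_of_mem_line_two hab hk this with h | h
    · exact hza h
    · exact hzb h
  have htriv : ∀ z : Ω, z ≠ a → (∀ t ∈ H', t • z = z) → z = b := by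
    intro z hza h
    by_contra hzb
    obtain ⟨t, ht, htz⟩ := hmove z hza hzb
    exact htz (h t ht)
  -- `H'` is self-normalising
  have hnorm : Subgroup.normalizer (H' : Set X) = H' := by
    refine le_antisymm (fun g hg => ?_) Subgroup.le_normalizer
    apply htriv
    · intro h
      have hga : (g : G) • a = a := g.2
      exact hab (MulAction.injective (g : G) (hga.trans h.symm))
    · intro t ht
      have := (Subgroup.mem_normalizer_iff''.mp hg t).mp ht
      rw [hH', mem_stabilizer_iff, mul_smul, mul_smul, inv_smul_eq_iff] at this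
      exact this
  have hp : IsPGroup 2 H' := fun t => ⟨1, by
    rw [pow_one, pow_two]; exact Subtype.ext (hsq t t.2)⟩
  obtain ⟨P, hP⟩ := hp.exists_le_sylow
  have hPH : (P : Subgroup X) = H' := by
    by_contra hne
    have hlt : H' < (P : Subgroup X) := lt_of_le_of_ne hP (Ne.symm hne)
    haveI : Fact (Nat.Prime 2) := ⟨Nat.prime_two⟩
    haveI := P.isPGroup'.isNilpotent
    have hnc := Group.normalizerCondition_of_isNilpotent (G := (P : Subgroup X))
    have hlt' : H'.subgroupOf (P : Subgroup X) < ⊤ :=
      lt_top_iff_ne_top.mpr fun h => absurd (Subgroup.subgroupOf_eq_top.mp h) (not_le_of_gt hlt)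
    obtain ⟨g, hg, hg'⟩ := SetLike.exists_of_lt (hnc _ hlt')
    apply hg'
    rw [Subgroup.mem_subgroupOf, ← hnorm, Subgroup.mem_normalizer_iff]
    rw [Subgroup.mem_normalizer_iff] at hg
    intro t
    constructor
    · intro ht
      exact (hg ⟨t, hP ht⟩).mp ht
    · intro ht
      have htP : t ∈ (P : Subgroup X) := by
        have := mul_mem (mul_mem (inv_mem g.2) (hP ht)) g.2
        simpa [mul_assoc] using this
      exact (hg ⟨t, htP⟩).mpr ht
  have hPc : Subgroup.normalizer ((P : Subgroup X) : Set X) ≤ Subgroup.centralizer ((P : Subgroup X) : Set X) := by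
    rw [hPH, hnorm]
    intro g hg
    rw [Subgroup.mem_centralizer_iff]
    intro t ht
    exact hcomm t ht g hg
  haveI : Fact (Nat.Prime 2) := ⟨Nat.prime_two⟩
  set M := (MonoidHom.transferSylow P hPc).ker
  have hMc : Subgroup.IsComplement' M (P : Subgroup X) := MonoidHom.ker_transferSylow_isComplement' P hPc
  have hModd : Odd (Nat.card M) := by
    rw [Nat.odd_iff]
    have : ¬ 2 ∣ Nat.card M := MonoidHom.not_dvd_card_ker_transferSylow P hPc
    omega
  have hMH : ∀ x ∈ M, x ∈ H' → x = 1 := by
    intro x hx hx'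
    have := hMc.disjoint.le_bot (Subgroup.mem_inf.mpr ⟨hx, hPH.symm ▸ hx'⟩)
    exact Subgroup.mem_bot.mp this
  have hreg : ∀ x ∈ M, x • b = b → x = 1 := fun x hx h => hMH x hx h
  have hne_a : ∀ x : X, x • b ≠ a := by
    intro x h
    exact hab (MulAction.injective (x : G) ((show (x : G) • a = a from x.2).trans h.symm))
  -- the action of `H'` on `M`
  have hconjM : ∀ t ∈ H', ∀ x ∈ M, t * x * t ∈ M := by
    intro t ht x hx
    have := (inferInstance : M.Normal).conj_mem x hx t
    rwa [hinv t ht] at this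
  have hpoint : ∀ t ∈ H', ∀ x : X, (t * x * t) • b = t • x • b := by
    intro t ht x
    rw [mul_smul, mul_smul, show t • b = b from ht]
  have hfixiff : ∀ t ∈ H', ∀ x ∈ M, t • x • b = x • b → t * x * t = x := by
    intro t ht x hx h
    have h1 : x⁻¹ * (t * x * t) ∈ M := mul_mem (inv_mem hx) (hconjM t ht x hx)
    have h2' : (x⁻¹ * (t * x * t)) • b = b := by rw [mul_smul, hpoint t ht, h, inv_smul_smul]
    have := hreg _ h1 h2'
    rw [inv_mul_eq_one] at this
    exact this.symm
  -- each element is fixed or inverted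
  have hinvert : ∀ x ∈ M, ∀ t ∈ H', t * x * t = x ∨ t * x * t = x⁻¹ := by
    intro x hx t ht
    by_cases hfix : t • x • b = x • b
    · exact Or.inl (hfixiff t ht x hx hfix)
    right
    let MK : Subgroup X :=
      { carrier := {y | y ∈ M ∧ ∀ k ∈ H', k • x • b = x • b → k * y = y * k}
        mul_mem' := fun {y z} hy hz => ⟨mul_mem hy.1 hz.1, fun k hk hkx => by
          rw [← mul_assoc, hy.2 k hk hkx, mul_assoc, hz.2 k hk hkx, mul_assoc]⟩
        one_mem' := ⟨one_mem M, fun k _ _ => by rw [mul_one, one_mul]⟩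
        inv_mem' := fun {y} hy => ⟨inv_mem hy.1, fun k hk hkx =>
          Commute.inv_right (hy.2 k hk hkx)⟩ }
    have hxMK : x ∈ MK := ⟨hx, fun k hk hkx => by
      have h := congrArg (· * k) (hfixiff k hk x hx hkx)
      simp only [mul_assoc, hsq k hk, mul_one] at h
      exact h⟩
    have hφmem : ∀ y ∈ MK, t * y * t ∈ MK := by
      intro y hy
      refine ⟨hconjM t ht y hy.1, fun k hk hkx => ?_⟩
      calc k * (t * y * t) = (k * t) * y * t := by group
        _ = t * (k * y) * t := by rw [hcomm k hk t ht]; group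
        _ = t * y * (k * t) := by rw [hy.2 k hk hkx]; group
        _ = t * y * t * k := by rw [hcomm k hk t ht]; group
    have hfpf : ∀ y ∈ MK, t * y * t = y → y = 1 := by
      intro y hy hty
      refine hreg y hy.1 (htriv _ (hne_a y) fun s hs => ?_)
      have hcom : ∀ k ∈ H', k * y = y * k → k • y • b = y • b := by
        intro k hk h
        rw [← mul_smul, h, mul_smul, show k • b = b from hk]
      have htc : t * y = y * t := by
        have h := congrArg (· * t) hty
        simp only [mul_assoc, hsq t ht, mul_one] at h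
        exact h
      by_cases hsx : s • x • b = x • b
      · exact hcom s hs (hy.2 s hs hsx)
      · have hst : (t * s) • x • b = x • b := by
          have h1 : (s : G) • x • b = (t : G) • x • b :=
            smul_eq_of_moved hB ((hmem s).mp hs) ((hmem t).mp ht) hsx hfix
          rw [mul_smul, show s • x • b = t • x • b from h1, ← mul_smul, hsq t ht, one_smul]
        have h3 := hcom _ (mul_mem ht hs) (hy.2 _ (mul_mem ht hs) hst)
        rw [mul_smul] at h3
        have h4 := hcom t ht htc
        exact MulAction.injective t (h3.trans h4.symm)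
    let φ : MK → MK := fun y => ⟨(y : X)⁻¹ * (t * y * t), mul_mem (inv_mem y.2) (hφmem y y.2)⟩
    have hφinj : Function.Injective φ := by
      intro y z h
      have h' : (y : X)⁻¹ * (t * y * t) = (z : X)⁻¹ * (t * z * t) := congrArg Subtype.val h
      have hfix' : t * ((z : X) * (y : X)⁻¹) * t = (z : X) * (y : X)⁻¹ := by
        have hh : (z : X) * (y : X)⁻¹ * (t * y * t) = t * z * t := by
          rw [mul_assoc, h', mul_inv_cancel_left]
        calc t * ((z : X) * (y : X)⁻¹) * t = t * z * t * (t * y * t)⁻¹ := by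
              rw [mul_inv_rev, mul_inv_rev, hinv t ht]
              simp only [mul_assoc]
              rw [← mul_assoc t t, hsq t ht, one_mul]
          _ = (z : X) * (y : X)⁻¹ := by rw [← hh, mul_inv_cancel_right]
      have := hfpf _ (mul_mem z.2 (inv_mem y.2)) hfix'
      exact Subtype.ext (mul_inv_eq_one.mp this).symm
    obtain ⟨y, hy⟩ := (Finite.injective_iff_surjective.mp hφinj) ⟨x, hxMK⟩
    have hy' : (y : X)⁻¹ * (t * y * t) = x := congrArg Subtype.val hy
    rw [← hy']
    simp only [mul_inv_rev, hinv t ht, inv_inv, mul_assoc, hsq t ht, mul_one]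
  -- all moved points have one stabiliser
  have hsame : ∀ x ∈ M, ∀ y ∈ M, x ≠ 1 → y ≠ 1 → ∀ t ∈ H', t * x * t = x → t * y * t = y := by
    intro x hx y hy hx1 hy1 t ht htx
    rcases hinvert y hy t ht with h | h
    · exact h
    exfalso
    have hxy : t * (x * y) * t = x * y⁻¹ := by
      calc t * (x * y) * t = (t * x * t) * (t * y * t) := by
            simp only [mul_assoc]; rw [← mul_assoc t t, hsq t ht, one_mul]
        _ = x * y⁻¹ := by rw [htx, h]
    rcases hinvert (x * y) (mul_mem hx hy) t ht with h' | h'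
    · rw [hxy, mul_right_inj] at h'
      have hy2 : y ^ 2 = 1 := by rw [pow_two]; exact mul_eq_one_iff_eq_inv.mpr h'.symm
      obtain ⟨m, hm⟩ := hModd
      apply hy1
      have hyc : (⟨y, hy⟩ : M) ^ Nat.card M = 1 := pow_card_eq_one'
      have hyc' : y ^ (2 * m + 1) = 1 := by rw [← hm]; exact congrArg Subtype.val hyc
      rwa [pow_succ, pow_mul, hy2, one_pow, one_mul] at hyc'
    · rw [hxy, mul_inv_rev] at h'
      have hconj : y * x * y⁻¹ = x⁻¹ := by
        rw [mul_assoc, h', mul_inv_cancel_left]
      apply hx1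
      exact congrArg Subtype.val (eq_one_of_conj_eq_inv (M := M) hModd (x := ⟨x, hx⟩) (y := ⟨y, hy⟩) (Subtype.ext hconj))
  obtain ⟨z, hza, hzb⟩ : ∃ z : Ω, z ≠ a ∧ z ≠ b := by
    by_contra h
    push Not at h
    have hsub : (Finset.univ : Finset Ω) ⊆ {a, b} := fun z _ => by
      simp only [Finset.mem_insert, Finset.mem_singleton]
      by_cases hz : z = a
      · exact Or.inl hz
      · exact Or.inr (h z hz)
    have := Finset.card_le_card hsub
    rw [Finset.card_univ, Finset.card_pair hab] at this
    omega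
  have hsurj : ∀ w : Ω, w ≠ a → ∃ x ∈ M, x • b = w := by
    intro w hwa
    obtain ⟨g, hga, hgb⟩ := h2 a b a w hab (Ne.symm hwa)
    obtain ⟨⟨⟨m, hm⟩, ⟨k, hk'⟩⟩, hmk⟩ := hMc.surjective (⟨g, hga⟩ : X)
    refine ⟨m, hm, ?_⟩
    have hk2 : k ∈ H' := hPH ▸ hk'
    have hkb : k • b = b := hk2
    rw [← hgb]
    calc m • b = (m * k) • b := by rw [mul_smul, hkb]
      _ = g • b := by
        have : m * k = (⟨g, hga⟩ : X) := hmk
        rw [this]; rfl
  obtain ⟨x, hx, hxz⟩ := hsurj z hza
  have hx1 : x ≠ 1 := by
    rintro rfl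
    rw [one_smul] at hxz
    exact hzb hxz.symm
  obtain ⟨t0, ht0, ht0z⟩ := hmove z hza hzb
  have honly : ∀ t ∈ H', t = 1 ∨ t = t0 := by
    intro t ht
    have key : ∀ s ∈ H', s • z = z → s = 1 := by
      intro s hs hsz
      have hsx : s * x * s = x := hfixiff s hs x hx (by rw [hxz, hsz])
      apply Subtype.ext
      apply eq_of_smul_eq_smul (α := Ω)
      intro w
      rw [OneMemClass.coe_one, one_smul]
      by_cases hwa : w = a
      · rw [hwa]; exact s.2
      obtain ⟨y, hy, rfl⟩ := hsurj w hwa
      by_cases hy1 : y = 1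
      · rw [hy1, one_smul]; exact hs
      show s • y • b = y • b
      rw [← hpoint s hs, hsame x hx y hy hx1 hy1 s hs hsx]
    by_cases htz : t • z = z
    · exact Or.inl (key t ht htz)
    right
    have h1 : (t : G) • z = (t0 : G) • z := smul_eq_of_moved hB ((hmem t).mp ht) ((hmem t0).mp ht0) htz ht0z
    have h3 : (t0 * t) • z = z := by
      rw [mul_smul, show t • z = t0 • z from h1, ← mul_smul, hsq t0 ht0, one_smul]
    have h4 := key _ (mul_mem ht0 ht) h3
    rw [mul_eq_one_iff_eq_inv, hinv t ht] at h4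
    exact h4.symm
  have hne1 : t0 ≠ 1 := by rintro rfl; rw [one_smul] at ht0z; exact ht0z rfl
  rw [Nat.card_eq_two_iff]
  refine ⟨1, ⟨(t0 : G), (hmem t0).mp ht0⟩, ?_, ?_⟩
  · intro h
    exact hne1 (Subtype.ext (congrArg Subtype.val h).symm)
  · ext ⟨g, hg⟩
    simp only [Set.mem_insert_iff, Set.mem_singleton_iff, Set.mem_univ, iff_true]
    rcases honly ⟨g, hg.1⟩ ((hmem _).mpr hg) with h | h
    · left; exact Subtype.ext (show g = 1 from congrArg (fun u : X => (u : G)) h)
    · right; exact Subtype.ext (congrArg (fun u : X => (u : G)) h)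

end Cfsg.Agent.H96
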