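import Mathlib
import Cfsg.Agent.H96.TwoTransK2

set_option autoImplicit false

/-!
Two-transitive groups whose two-point stabiliser fixes exactly three points.
-/

namespace Cfsg.Agent.H96

open MulAction

open scoped Classical in
/-- The third point of a line. -/
noncomputable def third (G : Type*) {Ω : Type*} [Group G] [MulAction G Ω] [Fintype Ω] (x y : Ω) : Ω :=
  if h : ∃ z, z ∈ line G x y ∧ z ≠ x ∧ z ≠ y then h.choose else x

variable {G Ω : Type*} [Group G] [MulAction G Ω] [Finite G] [FaithfulSMul G Ω] [Fintype Ω]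

section Third

variable (h2 : TwoTrans G Ω) {a b : Ω} (hab : a ≠ b) (hk : (line G a b).card = 3)

include h2 hab hk

theorem third_spec {x y : Ω} (hxy : x ≠ y) :
    third G x y ∈ line G x y ∧ third G x y ≠ x ∧ third G x y ≠ y := by
  classical
  have hcard : (line G x y).card = 3 := by rw [card_line_eq h2 hab hxy, hk]
  have hex : ∃ z, z ∈ line G x y ∧ z ≠ x ∧ z ≠ y := by
    have : (((line G x y).erase x).erase y).Nonempty := by
      apply Finset.card_pos.mp
      rw [Finset.card_erase_of_mem (Finset.mem_erase.mpr ⟨Ne.symm hxy, right_mem_line x y⟩),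
        Finset.card_erase_of_mem (left_mem_line x y), hcard]
      norm_num
    obtain ⟨z, hz⟩ := this
    simp only [Finset.mem_erase] at hz
    exact ⟨z, hz.2.2, hz.2.1, hz.1⟩
  rw [third, dif_pos hex]
  exact hex.choose_spec

theorem third_unique {x y z : Ω} (hxy : x ≠ y) (hz : z ∈ line G x y) (hzx : z ≠ x) (hzy : z ≠ y) :
    z = third G x y := by
  classical
  obtain ⟨h1, h1x, h1y⟩ := third_spec h2 hab hk hxy
  by_contra hne
  have hsub : ({x, y, z, third G x y} : Finset Ω) ⊆ line G x y := by
    intro w hw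
    simp only [Finset.mem_insert, Finset.mem_singleton] at hw
    rcases hw with rfl | rfl | rfl | rfl
    · exact left_mem_line _ _
    · exact right_mem_line _ _
    · exact hz
    · exact h1
  have := Finset.card_le_card hsub
  rw [card_line_eq h2 hab hxy, hk] at this
  rw [Finset.card_insert_of_notMem, Finset.card_insert_of_notMem, Finset.card_pair hne] at this
  · omega
  · simp only [Finset.mem_insert, Finset.mem_singleton, not_or]
    exact ⟨Ne.symm hzy, Ne.symm h1y⟩
  · simp only [Finset.mem_insert, Finset.mem_singleton, not_or]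
    exact ⟨hxy, Ne.symm hzx, Ne.symm h1x⟩

theorem third_comm {x y : Ω} (hxy : x ≠ y) : third G y x = third G x y := by
  obtain ⟨h1, h1x, h1y⟩ := third_spec h2 hab hk (Ne.symm hxy)
  rw [line_comm] at h1
  exact third_unique h2 hab hk hxy h1 h1y h1x

theorem smul_third (g : G) {x y : Ω} (hxy : x ≠ y) : g • third G x y = third G (g • x) (g • y) := by
  obtain ⟨h1, h1x, h1y⟩ := third_spec h2 hab hk hxy
  exact third_unique h2 hab hk (fun h => hxy (MulAction.injective g h))
    ((smul_mem_line_iff g x y _).mpr h1) (fun h => h1x (MulAction.injective g h))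
    (fun h => h1y (MulAction.injective g h))

theorem third_third {x y : Ω} (hxy : x ≠ y) : third G x (third G x y) = y := by
  obtain ⟨h1, h1x, h1y⟩ := third_spec h2 hab hk hxy
  refine (third_unique h2 hab hk (Ne.symm h1x) ?_ (Ne.symm hxy) (Ne.symm h1y)).symm
  rw [line_eq_of_mem h2 hxy (left_mem_line x y) h1 (Ne.symm h1x)]
  exact right_mem_line x y

theorem third_inj {x y y' : Ω} (hxy : x ≠ y) (hxy' : x ≠ y') (h : third G x y = third G x y') : y = y' := by
  rw [← third_third h2 hab hk hxy, h, third_third h2 hab hk hxy']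

theorem third_notMem {l z : Ω} (hl : l ∈ line G a b) (hz : z ∉ line G a b) :
    third G l z ∉ line G a b := by
  intro h
  have hlz : l ≠ z := fun e => hz (e ▸ hl)
  obtain ⟨h1, h1l, -⟩ := third_spec h2 hab hk hlz
  apply hz
  rw [← line_eq_of_mem h2 hab hl h (Ne.symm h1l), line_eq_of_mem h2 hlz (left_mem_line l z) h1 (Ne.symm h1l)]
  exact right_mem_line l z

/-- Fixing `z` and fixing the third point of a line through a fixed point are the same. -/
theorem third_fixed_iff {l z : Ω} (hl : l ∈ line G a b) (hz : z ∉ line G a b) {g : G}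
    (hg : g ∈ pairStab G a b) : g • third G l z = third G l z ↔ g • z = z := by
  have hlz : l ≠ z := fun e => hz (e ▸ hl)
  rw [smul_third h2 hab hk g hlz, mem_line.mp hl g hg]
  refine ⟨fun h => third_inj h2 hab hk ?_ hlz h, fun h => by rw [h]⟩
  intro e
  exact hlz (MulAction.injective g ((mem_line.mp hl g hg).trans e))

end Third

open scoped Classical in
/-- The points outside the line with the same stabiliser as `z` inside `pairStab G a b`. -/
noncomputable def cls (G : Type*) {Ω : Type*} [Group G] [MulAction G Ω] [Fintype Ω] (a b z : Ω) : Finset Ω :=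
  Finset.univ.filter fun w => w ∉ line G a b ∧ ∀ g ∈ pairStab G a b, (g • w = w ↔ g • z = z)

omit [Finite G] [FaithfulSMul G Ω] in
theorem mem_cls {a b z w : Ω} :
    w ∈ cls G a b z ↔ w ∉ line G a b ∧ ∀ g ∈ pairStab G a b, (g • w = w ↔ g • z = z) := by
  classical
  simp [cls]

omit [Finite G] [FaithfulSMul G Ω] in
theorem cls_eq_of_mem {a b z w : Ω} (hw : w ∈ cls G a b z) : cls G a b w = cls G a b z := by
  ext u
  rw [mem_cls, mem_cls]
  refine and_congr Iff.rfl (forall₂_congr fun g hg => ?_)
  rw [(mem_cls.mp hw).2 g hg]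

section K3

variable (h2 : TwoTrans G Ω) {a b : Ω} (hab : a ≠ b) (hk : (line G a b).card = 3)
  (hB : ∀ z : Ω, orbSize G a b z ≤ 2)

include h2 hab hk hB

theorem exists_mover {z : Ω} (hz : z ∉ line G a b) : ∃ g ∈ pairStab G a b, g • z ≠ z := by
  by_contra h
  push Not at h
  exact hz (mem_line.mpr h)

omit h2 hab hk in
theorem pairStab_comm_elts {s t : G} (hs : s ∈ pairStab G a b) (ht : t ∈ pairStab G a b) : s * t = t * s := by
  have h := pairStab_sq_eq_one hB (mul_mem hs ht)
  have hs' : s⁻¹ = s := inv_eq_of_mul_eq_one_left (pairStab_sq_eq_one hB hs)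
  have ht' : t⁻¹ = t := inv_eq_of_mul_eq_one_left (pairStab_sq_eq_one hB ht)
  have h' := inv_eq_of_mul_eq_one_left h
  rw [mul_inv_rev, hs', ht'] at h'
  exact h'.symm

omit hB in
theorem third_notMem_of_ne_cls {z w : Ω} (hz : z ∉ line G a b) (hw : w ∉ line G a b) (hne : w ∉ cls G a b z) :
    z ≠ w ∧ third G z w ∉ line G a b := by
  have hzw : z ≠ w := fun h => hne (mem_cls.mpr ⟨hw, fun g _ => by rw [h]⟩)
  refine ⟨hzw, fun h => hne ?_⟩
  obtain ⟨-, hux, -⟩ := third_spec h2 hab hk hzw
  have hw' : w = third G (third G z w) z := by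
    rw [third_comm h2 hab hk (Ne.symm hux), third_third h2 hab hk hzw]
  exact mem_cls.mpr ⟨hw, fun g hg => by rw [hw']; exact third_fixed_iff h2 hab hk h hz hg⟩

/-- The stabiliser of the third point. -/
theorem third_fixed_iff_iff {z w : Ω} (hz : z ∉ line G a b) (hw : w ∉ line G a b) (hne : w ∉ cls G a b z)
    {g : G} (hg : g ∈ pairStab G a b) :
    g • third G z w = third G z w ↔ (g • z = z ↔ g • w = w) := by
  obtain ⟨hzw, -⟩ := third_notMem_of_ne_cls h2 hab hk hz hw hne
  have hwz : w ≠ z := Ne.symm hzw
  have hinj1 : ∀ t : G, t • z = z → t • third G z w = third G z w → t • w = w := by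
    intro t h1 h
    rw [smul_third h2 hab hk t hzw, h1] at h
    exact third_inj h2 hab hk (fun e => hzw (MulAction.injective t (h1.trans e))) hzw h
  have hinj2 : ∀ t : G, t • w = w → t • third G z w = third G z w → t • z = z := by
    intro t h1 h
    rw [← third_comm h2 hab hk hzw] at h
    rw [smul_third h2 hab hk t hwz, h1] at h
    exact third_inj h2 hab hk (fun e => hwz (MulAction.injective t (h1.trans e))) hwz h
  constructor
  · intro h
    exact ⟨fun h1 => hinj1 g h1 h, fun h1 => hinj2 g h1 h⟩
  intro hiff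
  by_cases h1 : g • z = z
  · rw [smul_third h2 hab hk g hzw, h1, hiff.mp h1]
  have h1w : g • w ≠ w := fun e => h1 (hiff.mpr e)
  -- some element moves exactly one of `z` and `w`
  obtain ⟨s, hs, hsu, hgsu⟩ : ∃ s ∈ pairStab G a b, s • third G z w ≠ third G z w ∧
      (g * s) • third G z w ≠ third G z w := by
    have hgg : ∀ u : Ω, g • g • u = u := fun u => by
      rw [← mul_smul, pairStab_sq_eq_one hB hg, one_smul]
    obtain ⟨s, hs, hs'⟩ : ∃ s ∈ pairStab G a b, ¬ (s • w = w ↔ s • z = z) := by
      by_contra h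
      push Not at h
      exact hne (mem_cls.mpr ⟨hw, h⟩)
    refine ⟨s, hs, ?_⟩
    by_cases hsz : s • z = z
    · have hsw : s • w ≠ w := fun e => hs' ⟨fun _ => hsz, fun _ => e⟩
      have hgs : (g * s) • w = w := by
        rw [mul_smul, smul_eq_of_moved hB hs hg hsw h1w, hgg]
      refine ⟨fun e => hsw (hinj1 s hsz e), fun e => h1 ?_⟩
      have := hinj2 _ hgs e
      rwa [mul_smul, hsz] at this
    · have hsw : s • w = w := by
        by_contra e
        exact hs' ⟨fun e' => absurd e' e, fun e' => absurd e' hsz⟩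
      have hgs : (g * s) • z = z := by
        rw [mul_smul, smul_eq_of_moved hB hs hg hsz h1, hgg]
      refine ⟨fun e => hsz (hinj2 s hsw e), fun e => h1w ?_⟩
      have := hinj1 _ hgs e
      rwa [mul_smul, hsw] at this
  have heq := smul_eq_of_moved hB hs (mul_mem hg hs) hsu hgsu
  rw [pairStab_comm_elts hB hg hs, mul_smul] at heq
  exact (MulAction.injective s heq).symm

theorem card_cls_third {z w : Ω} (hz : z ∉ line G a b) (hw : w ∉ line G a b) (hne : w ∉ cls G a b z) :
    (cls G a b w).card ≤ (cls G a b (third G z w)).card := by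
  classical
  have hkey : ∀ w' ∈ cls G a b w, w' ∉ cls G a b z ∧ w' ∉ line G a b := by
    intro w' hw'
    refine ⟨fun h => hne ?_, (mem_cls.mp hw').1⟩
    exact mem_cls.mpr ⟨hw, fun g hg => by rw [← (mem_cls.mp hw').2 g hg]; exact (mem_cls.mp h).2 g hg⟩
  refine Finset.card_le_card_of_injOn (fun w' => third G z w') (fun w' hw' => ?_) (fun w1 h1 w1' h1' h => ?_)
  · obtain ⟨hn, hl⟩ := hkey w' hw'
    refine mem_cls.mpr ⟨(third_notMem_of_ne_cls h2 hab hk hz hl hn).2, fun g hg => ?_⟩
    rw [third_fixed_iff_iff h2 hab hk hB hz hl hn hg, third_fixed_iff_iff h2 hab hk hB hz hw hne hg,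
      (mem_cls.mp hw').2 g hg]
  · exact third_inj h2 hab hk (third_notMem_of_ne_cls h2 hab hk hz (hkey w1 h1).2 (hkey w1 h1).1).1
      (third_notMem_of_ne_cls h2 hab hk hz (hkey w1' h1').2 (hkey w1' h1').1).1 h

theorem third_notMem_cls {z w : Ω} (hz : z ∉ line G a b) (hw : w ∉ line G a b) (hne : w ∉ cls G a b z) :
    third G z w ∉ cls G a b z := by
  intro h
  obtain ⟨s, hs, hsw⟩ := exists_mover h2 hab hk hB hw
  have := (mem_cls.mp h).2 s hs
  rw [third_fixed_iff_iff h2 hab hk hB hz hw hne hs] at this
  tauto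

theorem card_cls_eq {z w : Ω} (hz : z ∉ line G a b) (hw : w ∉ line G a b) :
    (cls G a b w).card = (cls G a b z).card := by
  by_cases hne : w ∈ cls G a b z
  · rw [cls_eq_of_mem hne]
  have key : ∀ {z w : Ω}, z ∉ line G a b → w ∉ line G a b → w ∉ cls G a b z →
      (cls G a b w).card = (cls G a b (third G z w)).card := by
    intro z w hz hw hne
    refine le_antisymm (card_cls_third h2 hab hk hB hz hw hne) ?_
    obtain ⟨hzw, hu⟩ := third_notMem_of_ne_cls h2 hab hk hz hw hne
    have := card_cls_third h2 hab hk hB hz hu (third_notMem_cls h2 hab hk hB hz hw hne)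
    rwa [third_third h2 hab hk hzw] at this
  have hne' : z ∉ cls G a b w := fun h => hne (mem_cls.mpr ⟨hw, fun g hg => ((mem_cls.mp h).2 g hg).symm⟩)
  obtain ⟨hzw, -⟩ := third_notMem_of_ne_cls h2 hab hk hz hw hne
  rw [key hz hw hne, key hw hz hne', third_comm h2 hab hk hzw]

theorem two_mul_moved [DecidableEq Ω] {g : G} (hg : g ∈ pairStab G a b) {z : Ω}
    (hgz : g • z ≠ z) :
    2 * (Finset.univ.filter fun w : Ω => g • w ≠ w).card + 3 = Fintype.card Ω + (cls G a b z).card := by
  classical
  have hz : z ∉ line G a b := fun h => hgz (mem_line.mp h g hg)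
  set Mv := Finset.univ.filter fun w : Ω => g • w ≠ w
  set Fx := (Finset.univ \ line G a b).filter fun w : Ω => g • w = w
  have hsub : cls G a b z ⊆ Mv := by
    intro w hw
    exact Finset.mem_filter.mpr ⟨Finset.mem_univ w, fun e => hgz (((mem_cls.mp hw).2 g hg).mp e)⟩
  have hbij : Fx.card = (Mv \ cls G a b z).card := by
    refine Finset.card_bij' (fun w _ => third G z w) (fun w _ => third G z w) ?_ ?_ ?_ ?_
    · intro w hw
      simp only [Fx, Finset.mem_filter, Finset.mem_sdiff, Finset.mem_univ, true_and] at hw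
      have hne : w ∉ cls G a b z := fun h => hgz (((mem_cls.mp h).2 g hg).mp hw.2)
      rw [Finset.mem_sdiff, Finset.mem_filter]
      refine ⟨⟨Finset.mem_univ _, ?_⟩, third_notMem_cls h2 hab hk hB hz hw.1 hne⟩
      rw [ne_eq, third_fixed_iff_iff h2 hab hk hB hz hw.1 hne hg]
      tauto
    · intro w hw
      simp only [Mv, Finset.mem_filter, Finset.mem_sdiff, Finset.mem_univ, true_and] at hw
      have hwl : w ∉ line G a b := fun h => hw.1 (mem_line.mp h g hg)
      simp only [Fx, Finset.mem_filter, Finset.mem_sdiff, Finset.mem_univ, true_and]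
      refine ⟨(third_notMem_of_ne_cls h2 hab hk hz hwl hw.2).2, ?_⟩
      rw [third_fixed_iff_iff h2 hab hk hB hz hwl hw.2 hg]
      tauto
    · intro w hw
      simp only [Fx, Finset.mem_filter, Finset.mem_sdiff, Finset.mem_univ, true_and] at hw
      exact third_third h2 hab hk (fun e => hgz (by rw [e]; exact hw.2))
    · intro w hw
      simp only [Mv, Finset.mem_filter, Finset.mem_sdiff, Finset.mem_univ, true_and] at hw
      have hwl : w ∉ line G a b := fun h => hw.1 (mem_line.mp h g hg)
      exact third_third h2 hab hk (third_notMem_of_ne_cls h2 hab hk hz hwl hw.2).1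
  have htot : Mv.card + Fx.card + 3 = Fintype.card Ω := by
    rw [← hk, ← Finset.card_union_of_disjoint, ← Finset.card_union_of_disjoint, ← Finset.card_univ]
    · congr 1
      ext w
      simp only [Mv, Fx, Finset.mem_union, Finset.mem_filter, Finset.mem_sdiff, Finset.mem_univ, true_and, iff_true]
      tauto
    · rw [Finset.disjoint_left]
      intro w hw hw'
      simp only [Mv, Fx, Finset.mem_union, Finset.mem_filter, Finset.mem_sdiff, Finset.mem_univ, true_and] at hw
      rcases hw with h | h
      · exact h (mem_line.mp hw' g hg)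
      · exact h.1 hw'
    · rw [Finset.disjoint_left]
      intro w hw hw'
      exact (Finset.mem_filter.mp hw).2 (Finset.mem_filter.mp hw').2
  rw [Finset.card_sdiff_of_subset hsub] at hbij
  have := Finset.card_le_card hsub
  omega

theorem four_le_card_cls {z : Ω} (hz : z ∉ line G a b) :
    ∃ d, line G a b = ({a, b, d} : Set Ω).toFinite.toFinset ∧ 4 ≤ (cls G a b z).card ∧
      ((cls G a b z).card = 4 → ∀ w ∈ cls G a b z, w ≠ z → ∃ l ∈ line G a b, w = third G l z) := by
  classical
  obtain ⟨hd, hda, hdb⟩ := third_spec h2 hab hk hab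
  refine ⟨third G a b, ?_, ?_⟩
  · refine (Finset.eq_of_subset_of_card_le ?_ ?_).symm
    · intro w hw
      simp only [Set.Finite.mem_toFinset, Set.mem_insert_iff, Set.mem_singleton_iff] at hw
      rcases hw with rfl | rfl | rfl
      · exact left_mem_line _ _
      · exact right_mem_line _ _
      · exact hd
    · rw [hk]
      have : ({a, b, third G a b} : Set Ω).toFinite.toFinset = {a, b, third G a b} := by
        ext w; simp
      rw [this, Finset.card_insert_of_notMem (by simp [hab, Ne.symm hda]), Finset.card_pair (Ne.symm hdb)]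
  have hS : insert z ((line G a b).image fun l => third G l z) ⊆ cls G a b z := by
    intro w hw
    rcases Finset.mem_insert.mp hw with rfl | hw
    · exact mem_cls.mpr ⟨hz, fun g _ => Iff.rfl⟩
    obtain ⟨l, hl, rfl⟩ := Finset.mem_image.mp hw
    exact mem_cls.mpr ⟨third_notMem h2 hab hk hl hz, fun g hg => third_fixed_iff h2 hab hk hl hz hg⟩
  have hcard : (insert z ((line G a b).image fun l => third G l z)).card = 4 := by
    rw [Finset.card_insert_of_notMem, Finset.card_image_of_injOn, hk]
    · intro l hl m hm h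
      have hlz : z ≠ l := fun e => hz (e ▸ hl)
      have hmz : z ≠ m := fun e => hz (e ▸ hm)
      simp only at h
      rw [third_comm h2 hab hk hlz, third_comm h2 hab hk hmz] at h
      exact third_inj h2 hab hk hlz hmz h
    · simp only [Finset.mem_image, not_exists, not_and]
      intro l hl h
      exact (third_spec h2 hab hk (fun e => hz (e ▸ hl) : l ≠ z)).2.2 h
  refine ⟨hcard ▸ Finset.card_le_card hS, fun h4 w hw hwz => ?_⟩
  rw [← Finset.eq_of_subset_of_card_le hS (by rw [hcard, h4])] at hw
  obtain ⟨l, hl, rfl⟩ := Finset.mem_image.mp ((Finset.mem_insert.mp hw).resolve_left hwz)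
  exact ⟨l, hl, rfl⟩

theorem even_card_cls {z : Ω} (hz : z ∉ line G a b) : Even (cls G a b z).card := by
  classical
  have hmem : ∀ w ∈ cls G a b z, third G a w ∈ cls G a b z := by
    intro w hw
    have hwl := (mem_cls.mp hw).1
    refine mem_cls.mpr ⟨third_notMem h2 hab hk (left_mem_line a b) hwl, fun g hg => ?_⟩
    rw [third_fixed_iff h2 hab hk (left_mem_line a b) hwl hg, (mem_cls.mp hw).2 g hg]
  have hne : ∀ w ∈ cls G a b z, a ≠ w := fun w hw e => (mem_cls.mp hw).1 (e ▸ left_mem_line a b)
  rw [even_iff_two_dvd]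
  have h0 : ((cls G a b z).card : ZMod 2) = 0 := by
    rw [Finset.card_eq_sum_ones, Nat.cast_sum]
    refine Finset.sum_involution (fun w _ => third G a w) (fun w _ => by decide) (fun w hw _ => ?_) hmem
      (fun w hw => third_third h2 hab hk (hne w hw))
    exact (third_spec h2 hab hk (hne w hw)).2.2
  exact (ZMod.natCast_eq_zero_iff _ 2).mp h0

end K3

end Cfsg.Agent.H96
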