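import Mathlib
import Cfsg.Agent.H96.TwoTransK3

set_option autoImplicit false

/-!
The double count that rules out three-point lines with all other orbits of size two.
-/

namespace Cfsg.Agent.H96

open MulAction

variable {G Ω : Type*} [Group G] [MulAction G Ω] [Finite G] [FaithfulSMul G Ω] [Fintype Ω]

open scoped Classical in
/-- Pairs of a non-identity element with two fixed points and a moved point whose line goes through `x`. -/
noncomputable def centrePairs [Fintype G] (Ω : Type*) [MulAction G Ω] [Fintype Ω] (x : Ω) : Finset (G × Ω) :=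
  Finset.univ.filter fun p => p.1 ≠ 1 ∧ 2 ≤ fixCard Ω p.1 ∧ p.1 • p.2 ≠ p.2 ∧ third G p.2 (p.1 • p.2) = x

omit [Finite G] in
theorem mem_centrePairs [Fintype G] {x : Ω} {p : G × Ω} :
    p ∈ centrePairs Ω x ↔ p.1 ≠ 1 ∧ 2 ≤ fixCard Ω p.1 ∧ p.1 • p.2 ≠ p.2 ∧ third G p.2 (p.1 • p.2) = x := by
  classical
  simp [centrePairs]

theorem centrePairs_smul [Fintype G] (h2 : TwoTrans G Ω) {a b : Ω} (hab : a ≠ b)
    (hk : (line G a b).card = 3) (y : G) {x : Ω} {p : G × Ω} (hp : p ∈ centrePairs Ω x) :
    (y * p.1 * y⁻¹, y • p.2) ∈ centrePairs Ω (y • x) := by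
  rw [mem_centrePairs] at hp ⊢
  obtain ⟨h1, h2', h3, h4⟩ := hp
  have hs : (y * p.1 * y⁻¹) • y • p.2 = y • p.1 • p.2 := by rw [mul_smul, mul_smul, inv_smul_smul]
  refine ⟨?_, ?_, ?_, ?_⟩
  · intro h
    exact h1 (by simpa [conj_eq_one_iff] using h)
  · rw [fixCard_conj]; exact h2'
  · rw [hs]; exact fun h => h3 (MulAction.injective y h)
  · rw [hs, ← smul_third h2 hab hk y (Ne.symm h3), h4]

/-- The number of elements of `pairStab G a b` moving a given point. -/
theorem two_mul_card_movers [DecidableEq Ω] {a b : Ω} [Fintype (pairStab G a b)]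
    (hB : ∀ z : Ω, orbSize G a b z ≤ 2) {z : Ω} {s : G} (hs : s ∈ pairStab G a b) (hsz : s • z ≠ z) :
    2 * (Finset.univ.filter fun g : pairStab G a b => (g : G) • z ≠ z).card = Nat.card (pairStab G a b) := by
  classical
  have hsq := pairStab_sq_eq_one hB hs
  have hss : ∀ u : Ω, s • s • u = u := fun u => by rw [← mul_smul, hsq, one_smul]
  have hb : (Finset.univ.filter fun g : pairStab G a b => (g : G) • z ≠ z).card
      = (Finset.univ.filter fun g : pairStab G a b => ¬ ((g : G) • z ≠ z)).card := by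
    refine Finset.card_bij' (fun g _ => (⟨s, hs⟩ : pairStab G a b) * g) (fun g _ => (⟨s, hs⟩ : pairStab G a b) * g) ?_ ?_ ?_ ?_
    · intro g hg
      simp only [Finset.mem_filter, Finset.mem_univ, true_and, not_not] at hg ⊢
      rw [Subgroup.coe_mul, mul_smul, smul_eq_of_moved hB g.2 hs hg hsz, hss]
    · intro g hg
      simp only [Finset.mem_filter, Finset.mem_univ, true_and, not_not] at hg ⊢
      rw [Subgroup.coe_mul, mul_smul, hg]
      exact hsz
    · intro g _
      rw [← mul_assoc, show (⟨s, hs⟩ : pairStab G a b) * ⟨s, hs⟩ = 1 from Subtype.ext hsq, one_mul]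
    · intro g _
      rw [← mul_assoc, show (⟨s, hs⟩ : pairStab G a b) * ⟨s, hs⟩ = 1 from Subtype.ext hsq, one_mul]
  have := Finset.card_filter_add_card_filter_not (s := Finset.univ) (fun g : pairStab G a b => (g : G) • z ≠ z)
  rw [Finset.card_univ, ← Nat.card_eq_fintype_card] at this
  omega

theorem three_point_lines_false [IsPretransitive G Ω] (h2 : TwoTrans G Ω) {a b : Ω} (hab : a ≠ b)
    (hr : rankAt G a = 2) (hk : (line G a b).card = 3) (hB : ∀ z : Ω, orbSize G a b z ≤ 2)
    (hh : 2 ≤ Nat.card (pairStab G a b))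
    (hsmall : Fintype.card Ω + 3 < 6 * Nat.card (pairStab G a b)) : False := by
  classical
  haveI : Fintype G := Fintype.ofFinite G
  set H := pairStab G a b with hH
  set h := Nat.card H with hhdef
  set n := Fintype.card Ω with hndef
  have hsplit := card_split (G := G) a b
  have hbig : (bigPts G a b).card = 0 := by
    rw [Finset.card_eq_zero, bigPts, Finset.filter_eq_empty_iff]
    intro z _
    have := hB z
    omega
  -- the fixed point sum over `H`
  have hO : 2 * ∑ z : Ω, (1 : ℚ) / orbSize G a b z = (n : ℚ) + 3 := by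
    rw [orbitCount_small a b (by omega), hbig, hk, if_pos rfl]
    have h1 : (twoPts G a b).card + 3 = n := by omega
    push_cast
    have : ((twoPts G a b).card : ℚ) + 3 = n := by exact_mod_cast h1
    linarith
  have hsum : 2 * ∑ g : H, (fixCard Ω (g : G) : ℚ) = (h : ℚ) * (n + 3) := by
    have e : ∑ g : H, (fixCard Ω (g : G) : ℚ) = (h : ℚ) * ∑ z : Ω, (1 : ℚ) / orbSize G a b z := by
      rw [hhdef, Nat.card_eq_fintype_card]
      exact sum_fixCard_pairStab a b
    rw [e, ← hO]; ring
  -- common class size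
  obtain ⟨s0, hs0, hs01⟩ : ∃ s0 : H, ∃ z : Ω, (s0 : G) • z ≠ z := by
    haveI : Nontrivial H := Finite.one_lt_card_iff_nontrivial.mp hh
    obtain ⟨g, hg⟩ := exists_ne (1 : H)
    refine ⟨g, ?_⟩
    by_contra hcon
    push Not at hcon
    exact hg (Subtype.ext (eq_of_smul_eq_smul (α := Ω) fun w => by rw [hcon w, OneMemClass.coe_one, one_smul]))
  have hz0 : hs0 ∉ line G a b := fun e => hs01 (mem_line.mp e (s0 : G) s0.2)
  set c := (cls G a b hs0).card with hc
  have hfix : ∀ g : H, g ≠ 1 → 2 * fixCard Ω (g : G) + c = n + 3 := by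
    intro g hg
    obtain ⟨z, hz⟩ : ∃ z : Ω, (g : G) • z ≠ z := by
      by_contra hcon
      push Not at hcon
      exact hg (Subtype.ext (eq_of_smul_eq_smul (α := Ω) fun w => by rw [hcon w, OneMemClass.coe_one, one_smul]))
    have h1 := two_mul_moved h2 hab hk hB g.2 hz
    rw [card_cls_eq h2 hab hk hB hz0 (fun e => hz (mem_line.mp e (g : G) g.2)), ← hc] at h1
    have h3 := Finset.card_filter_add_card_filter_not (s := Finset.univ) (fun w : Ω => (g : G) • w = w)
    have h5 : (Finset.univ.filter fun w : Ω => (g : G) • w = w).card = fixCard Ω (g : G) := by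
      rw [fixCard_eq_filter]
    have h6 : (Finset.univ.filter fun w : Ω => ¬ (g : G) • w = w).card
        = (Finset.univ.filter fun w : Ω => (g : G) • w ≠ w).card :=
      congrArg Finset.card (Finset.filter_congr fun w _ => Iff.rfl)
    rw [h5, h6, Finset.card_univ] at h3
    omega
  have hch : ((h : ℤ) - 1) * c = n - 3 := by
    have h1 : ∑ g : H, (2 * (fixCard Ω (g : G) : ℚ)) = 2 * n + ((h : ℚ) - 1) * (n + 3 - c) := by
      rw [← Finset.add_sum_erase Finset.univ _ (Finset.mem_univ (1 : H)), OneMemClass.coe_one, fixCard_one]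
      have hrest : ∀ g ∈ Finset.univ.erase (1 : H), 2 * (fixCard Ω (g : G) : ℚ) = (n : ℚ) + 3 - c := by
        intro g hg
        have := hfix g (Finset.ne_of_mem_erase hg)
        have h' : 2 * (fixCard Ω (g : G) : ℚ) + c = n + 3 := by exact_mod_cast this
        linarith
      rw [Finset.sum_congr rfl hrest,
        Finset.sum_const, Finset.card_erase_of_mem (Finset.mem_univ _), Finset.card_univ, nsmul_eq_mul,
        ← Nat.card_eq_fintype_card (α := H), ← hhdef, Nat.cast_sub (by omega), Nat.cast_one]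
    rw [← Finset.mul_sum, hsum] at h1
    have : ((((h : ℤ) - 1) * c : ℤ) : ℚ) = (((n : ℤ) - 3 : ℤ) : ℚ) := by push_cast; linarith
    exact_mod_cast this
  obtain ⟨d, hL, hc4, hfour⟩ := four_le_card_cls h2 hab hk hB hz0
  obtain ⟨hdmem, hda, hdb⟩ := third_spec h2 hab hk hab
  have hceq : c = 4 := by
    obtain ⟨m, hm⟩ := even_card_cls h2 hab hk hB hz0
    have h5 : c < 6 := by
      by_contra hcon
      have h6 : (6 : ℤ) ≤ c := by exact_mod_cast Nat.le_of_not_lt hcon
      have : ((h : ℤ) - 1) * 6 ≤ ((h : ℤ) - 1) * c := mul_le_mul_of_nonneg_left h6 (by omega)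
      omega
    omega
  have hn4 : n + 1 = 4 * h := by
    rw [hceq] at hch
    push_cast at hch
    omega
  have hpi : ∀ g : H, g ≠ 1 → fixCard Ω (g : G) + 1 = 2 * h := by
    intro g hg
    have := hfix g hg
    omega
  -- the type of a point
  let A : Ω → Finset Ω := fun x =>
    Finset.univ.filter fun z => z ∉ line G a b ∧ ∀ g ∈ H, g • z ≠ z → third G z (g • z) = x
  have htype : ∀ z : Ω, z ∉ line G a b → ∃ l ∈ line G a b, z ∈ A l := by
    intro z hz
    obtain ⟨g, hg, hgz⟩ := exists_mover h2 hab hk hB hz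
    have hz4 : (cls G a b z).card = 4 := by rw [card_cls_eq h2 hab hk hB hz0 hz, ← hc, hceq]
    have hgcls : g • z ∈ cls G a b z := by
      refine mem_cls.mpr ⟨fun e => hgz ?_, fun t ht => ?_⟩
      · have h' : g • g • z = g • z := mem_line.mp e g hg
        exact MulAction.injective g h'
      · rw [← mul_smul, pairStab_comm_elts hB ht hg, mul_smul]
        exact ⟨fun e => MulAction.injective g e, fun e => by rw [e]⟩
    obtain ⟨d', -, -, hfour'⟩ := four_le_card_cls h2 hab hk hB hz
    obtain ⟨l, hl, hlz⟩ := hfour' hz4 _ hgcls hgz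
    have hlne : l ≠ z := fun e => hz (e ▸ hl)
    refine ⟨l, hl, Finset.mem_filter.mpr ⟨Finset.mem_univ _, hz, fun t ht htz => ?_⟩⟩
    rw [smul_eq_of_moved hB ht hg htz hgz, hlz, third_comm h2 hab hk (Ne.symm hlne),
      third_third h2 hab hk (Ne.symm hlne)]
  have hAsum : ∑ l ∈ line G a b, (A l).card = n - 3 := by
    rw [← Finset.card_biUnion]
    · have : (line G a b).biUnion A = Finset.univ \ line G a b := by
        ext z
        simp only [Finset.mem_biUnion, Finset.mem_sdiff, Finset.mem_univ, true_and]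
        constructor
        · rintro ⟨l, -, hz⟩; exact (Finset.mem_filter.mp hz).2.1
        · exact htype z
      rw [this, Finset.card_sdiff_of_subset (Finset.subset_univ _), Finset.card_univ, hk]
    · intro l _ m _ hlm
      simp only [Function.onFun]
      rw [Finset.disjoint_left]
      intro z hz hz'
      obtain ⟨-, hzl, h1⟩ := Finset.mem_filter.mp hz
      obtain ⟨g, hg, hgz⟩ := exists_mover h2 hab hk hB hzl
      exact hlm ((h1 g hg hgz).symm.trans ((Finset.mem_filter.mp hz').2.2 g hg hgz))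
  have hcyc : ∀ {p q r s : Ω}, p ∈ line G a b → q ∈ line G a b → p ≠ q → r ∈ line G a b → s ∈ line G a b →
      r ≠ s → (A p).card ≤ (A r).card := by
    intro p q r s hp hq hpq hr' hs hrs
    obtain ⟨y, hyp, hyq⟩ := h2 p q r s hpq hrs
    have hline : ∀ z, y • z ∈ line G a b ↔ z ∈ line G a b := by
      intro z
      have := smul_mem_line_iff y p q z
      rwa [hyp, hyq, line_eq_of_mem h2 hab hr' hs hrs, line_eq_of_mem h2 hab hp hq hpq] at this
    have hnorm : ∀ g ∈ H, y⁻¹ * g * y ∈ H := by
      intro g hg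
      have h1 : g ∈ pairStab G r s := by rw [pairStab_eq_of_mem_line h2 hab hr' hs hrs]; exact hg
      have h3 := conj_mem_pairStab (x := y⁻¹) h1
      rw [inv_smul_eq_iff.mpr hyp.symm, inv_smul_eq_iff.mpr hyq.symm, inv_inv,
        pairStab_eq_of_mem_line h2 hab hp hq hpq] at h3
      exact h3
    refine Finset.card_le_card_of_injOn (fun z => y • z) (fun z hz => ?_) (fun z _ w _ e => MulAction.injective y e)
    obtain ⟨-, hz1, hz2⟩ := Finset.mem_filter.mp hz
    refine Finset.mem_filter.mpr ⟨Finset.mem_univ _, fun e => hz1 ((hline z).mp e), fun g hg hgz => ?_⟩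
    have h1 : g • y • z = y • (y⁻¹ * g * y) • z := by rw [mul_smul, mul_smul, smul_inv_smul]
    have h3 : (y⁻¹ * g * y) • z ≠ z := fun e => hgz (by show g • y • z = y • z; rw [h1, e])
    show third G (y • z) (g • y • z) = r
    rw [h1, ← smul_third h2 hab hk y (Ne.symm h3), hz2 _ (hnorm g hg) h3, hyp]
  have hA3 : 3 * (A a).card = n - 3 := by
    rw [← hAsum]
    have heq : ∀ l ∈ line G a b, (A l).card = (A a).card := by
      intro l hl
      by_cases e : l = a
      · rw [e]
      exact le_antisymm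
        (hcyc hl (left_mem_line a b) e (left_mem_line a b) hl (Ne.symm e))
        (hcyc (left_mem_line a b) hl (Ne.symm e) hl (left_mem_line a b) e)
    rw [Finset.sum_congr rfl heq, Finset.sum_const, smul_eq_mul, hk]
  -- pairs coming from `H`
  let Q := (A a).sigma fun z => Finset.univ.filter fun g : H => (g : G) • z ≠ z
  have hQcard : 2 * Q.card = h * (A a).card := by
    rw [Finset.card_sigma, Finset.mul_sum]
    rw [Finset.sum_congr rfl (fun z hz => (?_ : 2 * (Finset.univ.filter fun g : H => (g : G) • z ≠ z).card = h)),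
      Finset.sum_const, smul_eq_mul, mul_comm]
    obtain ⟨g, hg, hgz⟩ := exists_mover h2 hab hk hB (Finset.mem_filter.mp hz).2.1
    exact two_mul_card_movers hB hg hgz
  have hemb : ∀ p ∈ Q, (((p.2 : H) : G), p.1) ∈ centrePairs Ω a := by
    intro p hp
    simp only [Q, Finset.mem_sigma, Finset.mem_filter, Finset.mem_univ, true_and] at hp
    obtain ⟨hpA, hpz⟩ := hp
    refine mem_centrePairs.mpr ⟨?_, ?_, hpz, (Finset.mem_filter.mp hpA).2.2 _ p.2.2 hpz⟩
    · intro e
      exact hpz (show ((p.2 : H) : G) • p.1 = p.1 by rw [show ((p.2 : H) : G) = 1 from e, one_smul])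
    · rw [fixCard_eq_filter, ← Finset.card_pair hab]
      apply Finset.card_le_card
      intro w hw
      simp only [Finset.mem_insert, Finset.mem_singleton] at hw
      rw [Finset.mem_filter]
      rcases hw with rfl | rfl
      · exact ⟨Finset.mem_univ _, p.2.2.1⟩
      · exact ⟨Finset.mem_univ _, p.2.2.2⟩
  let f : (Σ _ : Ω, H) → G × Ω := fun p => (((p.2 : H) : G), p.1)
  have hfinj : Function.Injective f := by
    rintro ⟨z, g⟩ ⟨z', g'⟩ e
    simp only [f, Prod.mk.injEq] at e
    obtain ⟨e1, rfl⟩ := e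
    rw [Subtype.ext e1]
  have hQle : Q.card ≤ (centrePairs (G := G) Ω a).card :=
    Finset.card_le_card_of_injOn f hemb hfinj.injOn
  -- the total count of pairs
  set T := Finset.univ.filter fun g : G => g ≠ 1 ∧ 2 ≤ fixCard Ω g with hT
  have hTfix : ∀ g ∈ T, fixCard Ω g + 1 = 2 * h := by
    intro g hg
    obtain ⟨-, hg1, hg2⟩ := Finset.mem_filter.mp hg
    rw [fixCard_eq_filter] at hg2
    obtain ⟨p, hp, q, hq, hpq⟩ := Finset.one_lt_card.mp hg2
    obtain ⟨y, hy1, hy2⟩ := h2 p q a b hpq hab
    have hmem : y * g * y⁻¹ ∈ H := by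
      have := conj_mem_pairStab (x := y) (mem_pairStab.mpr ⟨(Finset.mem_filter.mp hp).2, (Finset.mem_filter.mp hq).2⟩)
      rwa [hy1, hy2] at this
    have := hpi ⟨_, hmem⟩ (fun e => hg1 (by simpa [conj_eq_one_iff] using congrArg Subtype.val e))
    rwa [fixCard_conj] at this
  have hP : ∀ x : Ω, (centrePairs (G := G) Ω x).card = (centrePairs (G := G) Ω a).card := by
    intro x
    obtain ⟨y, rfl⟩ := exists_smul_eq G a x
    refine Finset.card_bij' (fun p _ => (y⁻¹ * p.1 * y⁻¹⁻¹, y⁻¹ • p.2)) (fun p _ => (y * p.1 * y⁻¹, y • p.2)) ?_ ?_ ?_ ?_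
    · intro p hp
      have := centrePairs_smul h2 hab hk y⁻¹ hp
      rwa [inv_smul_smul] at this
    · intro p hp
      exact centrePairs_smul h2 hab hk y hp
    · intro p _
      simp [mul_assoc]
    · intro p _
      simp [mul_assoc]
  have hPtot : n * (centrePairs (G := G) Ω a).card = T.card * (2 * h) := by
    have h1 : ∑ x : Ω, (centrePairs (G := G) Ω x).card = n * (centrePairs (G := G) Ω a).card := by
      rw [Finset.sum_congr rfl (fun x _ => hP x), Finset.sum_const, smul_eq_mul, Finset.card_univ]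
    rw [← h1]
    have h3 : ∑ x : Ω, (centrePairs (G := G) Ω x).card
        = (T.sigma fun g => Finset.univ.filter fun z : Ω => g • z ≠ z).card := by
      rw [← Finset.card_sigma]
      refine Finset.card_bij' (fun p _ => ⟨p.2.1, p.2.2⟩) (fun p _ => ⟨third G p.2 (p.1 • p.2), (p.1, p.2)⟩) ?_ ?_ ?_ ?_
      · rintro ⟨x, g, z⟩ hp
        simp only [Finset.mem_sigma, Finset.mem_univ, true_and, mem_centrePairs] at hp
        simp only [Finset.mem_sigma, hT, Finset.mem_filter, Finset.mem_univ, true_and]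
        exact ⟨⟨hp.1, hp.2.1⟩, hp.2.2.1⟩
      · rintro ⟨g, z⟩ hp
        simp only [Finset.mem_sigma, hT, Finset.mem_filter, Finset.mem_univ, true_and] at hp
        simp only [Finset.mem_sigma, Finset.mem_univ, true_and, mem_centrePairs]
        exact ⟨hp.1.1, hp.1.2, hp.2, trivial⟩
      · rintro ⟨x, g, z⟩ hp
        simp only [Finset.mem_sigma, Finset.mem_univ, true_and, mem_centrePairs] at hp
        obtain ⟨-, -, -, rfl⟩ := hp
        rfl
      · rintro ⟨g, z⟩ _
        rfl
    rw [h3, Finset.card_sigma, Finset.sum_congr rfl (fun g hg => (?_ : (Finset.univ.filter fun z : Ω => g • z ≠ z).card = 2 * h)),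
      Finset.sum_const, smul_eq_mul]
    have h4 := Finset.card_filter_add_card_filter_not (s := Finset.univ) (fun w : Ω => g • w = w)
    have h5 : (Finset.univ.filter fun w : Ω => g • w = w).card = fixCard Ω g := by
      rw [fixCard_eq_filter]
    have h6 : (Finset.univ.filter fun w : Ω => ¬ g • w = w).card
        = (Finset.univ.filter fun z : Ω => g • z ≠ z).card :=
      congrArg Finset.card (Finset.filter_congr fun w _ => Iff.rfl)
    rw [h5, h6, Finset.card_univ] at h4
    have := hTfix g hg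
    omega
  have hTn : T.card = n := by
    haveI : Nonempty Ω := ⟨a⟩
    have e1 : ∑ g : G, (fixCard Ω g : ℤ) = Fintype.card G := by exact_mod_cast sum_fixCard (G := G) (Ω := Ω)
    have e2 : ∑ g : G, (fixCard Ω g : ℤ) * fixCard Ω g = 2 * Fintype.card G := by
      rw [sum_fixCard_mul (fun g => (fixCard Ω g : ℤ)) (fun g x => by rw [fixCard_conj]) a]
      have hz : ∑ g : stabilizer G a, (fixCard Ω (g : G) : ℤ) = rankAt G a * Fintype.card (stabilizer G a) := by
        exact_mod_cast sum_fixCard_stabilizer (G := G) a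
      rw [hz, hr, ← card_stabilizer_mul (G := G) a]
      push_cast
      ring
    have e3 : ∑ g : G, (fixCard Ω g : ℤ) * ((fixCard Ω g : ℤ) - 1) = Fintype.card G := by
      simp only [mul_sub, mul_one, Finset.sum_sub_distrib, e1, e2]; ring
    have e4 : (Fintype.card G : ℤ) = n * ((n : ℤ) - 1) * h := by
      rw [← card_stabilizer_mul (G := G) a, ← Nat.card_eq_fintype_card (α := stabilizer G a),
        card_stabilizer_eq h2 hab hr, ← hndef, ← hH, ← hhdef]
      push_cast [Nat.cast_sub (by omega : 1 ≤ n)]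
      ring
    have e5 : ∑ g : G, (fixCard Ω g : ℤ) * ((fixCard Ω g : ℤ) - 1)
        = (n : ℤ) * ((n : ℤ) - 1) + (T.card : ℤ) * ((2 * (h : ℤ) - 1) * (2 * h - 2)) := by
      rw [← Finset.add_sum_erase Finset.univ _ (Finset.mem_univ (1 : G)), fixCard_one, ← hndef]
      congr 1
      have hTsub : T = (Finset.univ.erase (1 : G)).filter fun g => 2 ≤ fixCard Ω g := by
        ext g; simp [hT]
      rw [← Finset.sum_filter_add_sum_filter_not (Finset.univ.erase (1 : G)) (fun g => 2 ≤ fixCard Ω g), ← hTsub]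
      rw [Finset.sum_congr rfl (fun g hg => (?_ : (fixCard Ω g : ℤ) * ((fixCard Ω g : ℤ) - 1) = (2 * (h : ℤ) - 1) * (2 * h - 2))),
        Finset.sum_const, nsmul_eq_mul, Finset.sum_eq_zero, add_zero]
      · intro g hg
        have := (Finset.mem_filter.mp hg).2
        rcases (by omega : fixCard Ω g = 0 ∨ fixCard Ω g = 1) with e | e <;> simp [e]
      · have h' : (fixCard Ω g : ℤ) + 1 = 2 * h := by exact_mod_cast hTfix g hg
        rw [show (fixCard Ω g : ℤ) = 2 * h - 1 by linarith]
        ring
    rw [e3, e4] at e5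
    have hn' : (n : ℤ) = 4 * h - 1 := by omega
    have h6 : ((T.card : ℤ) - n) * ((2 * (h : ℤ) - 1) * (2 * h - 2)) = 0 := by
      rw [hn'] at e5 ⊢
      linear_combination -e5
    have h7 : ((2 * (h : ℤ) - 1) * (2 * h - 2)) ≠ 0 := mul_ne_zero (by omega) (by omega)
    rcases mul_eq_zero.mp h6 with h8 | h8
    · omega
    · exact absurd h8 h7
  have hPa : (centrePairs (G := G) Ω a).card = 2 * h := by
    rw [hTn] at hPtot
    exact Nat.eq_of_mul_eq_mul_left (by omega) hPtot
  -- the contradiction
  have hA4 : (A a).card ≤ 4 := by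
    by_contra hcon
    have : h * 5 ≤ h * (A a).card := Nat.mul_le_mul_left h (Nat.succ_le_of_lt (Nat.lt_of_not_le hcon))
    omega
  have hheven : 2 ∣ h := ⟨_, (two_mul_card_movers hB s0.2 hs01).symm⟩
  have hh4 : h = 4 ∧ (A a).card = 4 := by omega
  have himage : Q.image f = centrePairs (G := G) Ω a := by
    apply Finset.eq_of_subset_of_card_le (Finset.image_subset_iff.mpr hemb)
    rw [hPa, Finset.card_image_of_injective _ hfinj]
    rw [hh4.1, hh4.2] at hQcard
    omega
  obtain ⟨p, hp⟩ : (centrePairs (G := G) Ω a).Nonempty := Finset.card_pos.mp (by omega)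
  have hmemH : ∀ p ∈ centrePairs (G := G) Ω a, p.1 ∈ H := by
    intro p hp
    rw [← himage, Finset.mem_image] at hp
    obtain ⟨q, -, rfl⟩ := hp
    exact q.2.2
  apply (mem_centrePairs.mp hp).1
  apply eq_of_smul_eq_smul (α := Ω)
  intro w
  rw [one_smul]
  by_cases hw : w = a
  · rw [hw]; exact (hmemH p hp).1
  obtain ⟨y, hya, hyb⟩ := h2 a b a w hab (Ne.symm hw)
  have h1 := centrePairs_smul h2 hab hk y⁻¹ hp
  rw [inv_smul_eq_iff.mpr hya.symm] at h1
  have h3 := conj_mem_pairStab (x := y) (hmemH _ h1)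
  rw [hya, hyb] at h3
  simpa [mul_assoc] using h3.2

end Cfsg.Agent.H96
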