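import Mathlib
import Cfsg.Agent.H96.TwoTransCount

set_option autoImplicit false

/-!
The key inequality `∑ n / π(g) ≥ 2 |H|` over a two-point stabiliser `H` of a two-transitive group.
-/

namespace Cfsg.Agent.H96

open MulAction

variable {G Ω : Type*} [Group G] [MulAction G Ω] [Finite G] [FaithfulSMul G Ω] [Fintype Ω]

/-- Points with equal stabilisers inside `H` have orbits of equal size. -/
theorem orbSize_eq_of_stab_iff {a b z w : Ω} (h : ∀ g ∈ pairStab G a b, (g • z = z ↔ g • w = w)) :
    orbSize G a b z = orbSize G a b w := by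
  have e : stabilizer (↥(pairStab G a b)) z = stabilizer (↥(pairStab G a b)) w := by
    ext g
    exact h g g.2
  have h1 := Nat.card_congr (orbitProdStabilizerEquivGroup (↥(pairStab G a b)) z)
  have h3 := Nat.card_congr (orbitProdStabilizerEquivGroup (↥(pairStab G a b)) w)
  rw [Nat.card_prod] at h1 h3
  rw [e, ← h3] at h1
  exact Nat.eq_of_mul_eq_mul_right Nat.card_pos h1

theorem even_bigPts (h2 : TwoTrans G Ω) {a b : Ω} (hab : a ≠ b) (hk : (line G a b).card = 3) :
    Even (bigPts G a b).card := by
  classical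
  have hout : ∀ z ∈ bigPts G a b, z ∉ line G a b := by
    intro z hz hz'
    have := (Finset.mem_filter.mp hz).2
    rw [(orbSize_eq_one_iff a b z).mpr hz'] at this
    omega
  have hne : ∀ z ∈ bigPts G a b, a ≠ z := fun z hz e => hout z hz (e ▸ left_mem_line a b)
  have hmem : ∀ z ∈ bigPts G a b, third G a z ∈ bigPts G a b := by
    intro z hz
    refine Finset.mem_filter.mpr ⟨Finset.mem_univ _, ?_⟩
    rw [orbSize_eq_of_stab_iff (fun g hg => third_fixed_iff h2 hab hk (left_mem_line a b) (hout z hz) hg)]
    exact (Finset.mem_filter.mp hz).2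
  rw [even_iff_two_dvd]
  have h0 : ((bigPts G a b).card : ZMod 2) = 0 := by
    rw [Finset.card_eq_sum_ones, Nat.cast_sum]
    refine Finset.sum_involution (fun w _ => third G a w) (fun w _ => by decide) (fun w hw _ => ?_) hmem
      (fun w hw => third_third h2 hab hk (hne w hw))
    exact (third_spec h2 hab hk (hne w hw)).2.2
  exact (ZMod.natCast_eq_zero_iff _ 2).mp h0

/-- The inequality behind the bound `2 / n` on the proportion of derangements. -/
theorem two_mul_card_le_sum_inv [IsPretransitive G Ω] (h2 : TwoTrans G Ω) {a b : Ω} (hab : a ≠ b)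
    [Fintype (pairStab G a b)]
    (hr : rankAt G a = 2) (hn : 7 ≤ Fintype.card Ω) (hh : 2 ≤ Fintype.card (pairStab G a b)) :
    2 * (Fintype.card (pairStab G a b) : ℚ)
      ≤ ∑ g : pairStab G a b, (Fintype.card Ω : ℚ) / fixCard Ω (g : G) := by
  classical
  set n := Fintype.card Ω with hndef
  set h := Fintype.card (pairStab G a b) with hhdef
  have hhN : Nat.card (pairStab G a b) = h := Nat.card_eq_fintype_card
  set k := (line G a b).card with hkdef
  set O := ∑ z : Ω, (1 : ℚ) / orbSize G a b z with hOdef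
  have hnQ : (7 : ℚ) ≤ n := by exact_mod_cast hn
  have hhQ : (2 : ℚ) ≤ h := by exact_mod_cast hh
  have hsumfix : ∑ g : pairStab G a b, (fixCard Ω (g : G) : ℚ) = h * O := sum_fixCard_pairStab a b
  have hpos : ∀ g : pairStab G a b, (0 : ℚ) < fixCard Ω (g : G) := by
    intro g
    exact_mod_cast (fixCard_pos_iff _).mpr ⟨a, g.2.1⟩
  have h1term : (n : ℚ) / fixCard Ω ((1 : pairStab G a b) : G) = 1 := by
    rw [OneMemClass.coe_one, fixCard_one, div_self]
    exact_mod_cast (by omega : Fintype.card Ω ≠ 0)
  have hsplit1 : ∑ g : pairStab G a b, (n : ℚ) / fixCard Ω (g : G)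
      = 1 + ∑ g ∈ Finset.univ.erase (1 : pairStab G a b), (n : ℚ) / fixCard Ω (g : G) := by
    rw [← Finset.add_sum_erase Finset.univ _ (Finset.mem_univ (1 : pairStab G a b)), h1term]
  have herase : ((Finset.univ.erase (1 : pairStab G a b)).card : ℚ) = h - 1 := by
    rw [Finset.card_erase_of_mem (Finset.mem_univ _), Finset.card_univ, ← hhdef, Nat.cast_sub (by omega), Nat.cast_one]
  -- criterion 1
  have crit1 : 2 * O ≤ n → 2 * (h : ℚ) ≤ ∑ g : pairStab G a b, (n : ℚ) / fixCard Ω (g : G) := by
    intro hO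
    have hc := Finset.sq_sum_div_le_sum_sq_div Finset.univ (fun _ : pairStab G a b => (1 : ℚ))
      (g := fun g => (fixCard Ω (g : G) : ℚ)) (fun g _ => hpos g)
    simp only [Finset.sum_const, Finset.card_univ, nsmul_eq_mul, mul_one, one_pow] at hc
    rw [hsumfix, ← hhdef] at hc
    have hO0 : 0 < O := by
      have : 0 < ∑ g : pairStab G a b, (fixCard Ω (g : G) : ℚ) :=
        Finset.sum_pos (fun g _ => hpos g) ⟨1, Finset.mem_univ _⟩
      rw [hsumfix] at this
      by_contra hcon
      push Not at hcon
      nlinarith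
    have e : ∑ g : pairStab G a b, (n : ℚ) / fixCard Ω (g : G)
        = n * ∑ g : pairStab G a b, (1 : ℚ) / fixCard Ω (g : G) := by
      rw [Finset.mul_sum]; exact Finset.sum_congr rfl fun g _ => by ring
    rw [e]
    refine le_trans ?_ (mul_le_mul_of_nonneg_left hc (by linarith))
    rw [show (n : ℚ) * ((h : ℚ) ^ 2 / (h * O)) = n * h / O by field_simp]
    rw [le_div_iff₀ hO0]
    nlinarith
  -- criterion 2
  have crit2 : O * (2 * (h : ℚ) - 1) ≤ n * h → 2 * (h : ℚ) ≤ ∑ g : pairStab G a b, (n : ℚ) / fixCard Ω (g : G) := by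
    intro hO
    have hc := Finset.sq_sum_div_le_sum_sq_div (Finset.univ.erase (1 : pairStab G a b))
      (fun _ : pairStab G a b => (1 : ℚ)) (g := fun g => (fixCard Ω (g : G) : ℚ)) (fun g _ => hpos g)
    simp only [Finset.sum_const, nsmul_eq_mul, mul_one, one_pow] at hc
    have hrest : ∑ g ∈ Finset.univ.erase (1 : pairStab G a b), (fixCard Ω (g : G) : ℚ) = h * O - n := by
      rw [← hsumfix, ← Finset.add_sum_erase Finset.univ _ (Finset.mem_univ (1 : pairStab G a b)),
        OneMemClass.coe_one, fixCard_one]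
      ring
    have hne : (Finset.univ.erase (1 : pairStab G a b)).Nonempty := by
      rw [← Finset.card_pos, Finset.card_erase_of_mem (Finset.mem_univ _), Finset.card_univ, ← hhdef]
      omega
    have hd : 0 < (h : ℚ) * O - n := by
      rw [← hrest]; exact Finset.sum_pos (fun g _ => hpos g) hne
    rw [hrest, herase] at hc
    have e : ∑ g ∈ Finset.univ.erase (1 : pairStab G a b), (n : ℚ) / fixCard Ω (g : G)
        = n * ∑ g ∈ Finset.univ.erase (1 : pairStab G a b), (1 : ℚ) / fixCard Ω (g : G) := by
      rw [Finset.mul_sum]; exact Finset.sum_congr rfl fun g _ => by ring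
    rw [hsplit1, e]
    have h3 : 2 * (h : ℚ) - 1 ≤ n * (((h : ℚ) - 1) ^ 2 / (h * O - n)) := by
      rw [mul_div_assoc', le_div_iff₀ hd]
      nlinarith
    have h4 := mul_le_mul_of_nonneg_left hc (by linarith : (0 : ℚ) ≤ n)
    linarith
  -- lower bound on each term from an upper bound on fixed points
  have hk2 : 2 ≤ k := by
    rw [hkdef, ← Finset.card_pair hab]
    refine Finset.card_le_card fun w hw => ?_
    simp only [Finset.mem_insert, Finset.mem_singleton] at hw
    rcases hw with rfl | rfl
    · exact left_mem_line _ _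
    · exact right_mem_line _ _
  have hfixle : ∀ g : pairStab G a b, g ≠ 1 → fixCard Ω (g : G) * (k - 1) ≤ n - 1 := fun g hg =>
    fixCard_mul_le h2 hab (fun e => hg (Subtype.ext e))
  have hcs := card_split (G := G) a b
  have hle := orbitCount_le (G := G) a b
  rw [← hkdef, ← hOdef] at hle
  rw [← hkdef, ← hndef] at hcs
  have hcsQ : (k : ℚ) + (twoPts G a b).card + (bigPts G a b).card = n := by exact_mod_cast hcs
  have hsmallB : ∀ hB : (bigPts G a b).card ≤ 5, (bigPts G a b).card ≠ 0 → 3 ≤ (bigPts G a b).card := by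
    intro hB hne
    obtain ⟨z, hz⟩ := Finset.card_pos.mp (Nat.pos_of_ne_zero hne)
    rw [← orbSize_of_bigPts_small hz hB]
    exact (Finset.mem_filter.mp hz).2
  have hall2 : (bigPts G a b).card = 0 → ∀ z : Ω, orbSize G a b z ≤ 2 := by
    intro hB z
    rw [Finset.card_eq_zero, bigPts, Finset.filter_eq_empty_iff] at hB
    have := hB (Finset.mem_univ z)
    omega
  rcases (by omega : k = 2 ∨ k = 3 ∨ 4 ≤ k) with hk | hk | hk
  · -- only two fixed points
    by_cases hO : 2 * O ≤ n
    · exact crit1 hO
    push Not at hO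
    have hkQ : (k : ℚ) = 2 := by exact_mod_cast hk
    have hB5 : (bigPts G a b).card ≤ 5 := by
      have : ((bigPts G a b).card : ℚ) < 6 := by linarith
      have : (bigPts G a b).card < 6 := by exact_mod_cast this
      omega
    have hex := orbitCount_small a b hB5
    rw [← hkdef, ← hOdef] at hex
    by_cases hB0 : (bigPts G a b).card = 0
    · rw [hB0, if_pos rfl] at hex
      rw [hB0] at hcsQ
      push_cast at hcsQ
      have h22 : Nat.card (pairStab G a b) = 2 :=
        pairStab_card_eq_two hab hk (hall2 hB0) h2 (by omega)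
      have hh2 : (h : ℚ) = 2 := by exact_mod_cast hhN.symm.trans h22
      apply crit2
      rw [hh2]
      linarith
    · have h3B := hsmallB hB5 hB0
      rw [if_neg hB0] at hex
      rcases (by omega : (bigPts G a b).card = 3 ∨ 4 ≤ (bigPts G a b).card) with h3 | h4
      · exact (pairStab_no_threeOrbit h2 hab (by omega) hk h3).elim
      · have : (4 : ℚ) ≤ (bigPts G a b).card := by exact_mod_cast h4
        exfalso
        linarith
  · -- three fixed points
    have hkQ : (k : ℚ) = 3 := by exact_mod_cast hk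
    by_cases hO : 2 * O ≤ n + 1
    · by_cases hhn : 2 * h ≤ n + 1
      · apply crit2
        have : 2 * (h : ℚ) ≤ n + 1 := by exact_mod_cast hhn
        nlinarith
      · have hterm : ∀ g ∈ Finset.univ.erase (1 : pairStab G a b),
            (2 : ℚ) + 2 / (n - 1) ≤ (n : ℚ) / fixCard Ω (g : G) := by
          intro g hg
          have := hfixle g (Finset.ne_of_mem_erase hg)
          rw [hk] at this
          have h' : 2 * (fixCard Ω (g : G) : ℚ) + 1 ≤ n := by
            have h'' : 2 * fixCard Ω (g : G) + 1 ≤ n := by omega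
            exact_mod_cast h''
          have hn1 : (0 : ℚ) < n - 1 := by linarith
          rw [le_div_iff₀ (hpos g), add_mul, div_mul_eq_mul_div, ← sub_nonneg]
          have e : (2 : ℚ) * fixCard Ω (g : G) / (n - 1) ≤ 1 := by
            rw [div_le_one hn1]; linarith
          linarith
        rw [hsplit1]
        have hs := Finset.card_nsmul_le_sum _ _ _ hterm
        rw [nsmul_eq_mul, herase] at hs
        have h5 : (n : ℚ) + 2 ≤ 2 * h := by
          exact_mod_cast (by omega : n + 2 ≤ 2 * h)
        have hn1 : (0 : ℚ) < n - 1 := by linarith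
        have h6 : (1 : ℚ) ≤ ((h : ℚ) - 1) * (2 / (n - 1)) := by
          rw [mul_div_assoc', le_div_iff₀ hn1]; linarith
        rw [mul_add] at hs
        linarith
    push Not at hO
    have hB5 : (bigPts G a b).card ≤ 5 := by
      have : ((bigPts G a b).card : ℚ) < 6 := by linarith
      have : (bigPts G a b).card < 6 := by exact_mod_cast this
      omega
    have hex := orbitCount_small a b hB5
    rw [← hkdef, ← hOdef] at hex
    by_cases hB0 : (bigPts G a b).card = 0
    · rw [hB0, if_pos rfl] at hex
      rw [hB0] at hcsQ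
      push_cast at hcsQ
      by_cases hcr : 6 * h ≤ n + 3
      · apply crit2
        have : 6 * (h : ℚ) ≤ n + 3 := by exact_mod_cast hcr
        have hO' : O = ((n : ℚ) + 3) / 2 := by linarith
        rw [hO']
        nlinarith
      · exact (three_point_lines_false h2 hab hr hk (hall2 hB0) (by omega) (by omega)).elim
    · have h3B := hsmallB hB5 hB0
      obtain ⟨m, hm⟩ := even_bigPts h2 hab hk
      have h4 : (4 : ℚ) ≤ (bigPts G a b).card := by
        exact_mod_cast (by omega : 4 ≤ (bigPts G a b).card)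
      rw [if_neg hB0] at hex
      exfalso
      linarith
  · -- at least four fixed points
    have hterm : ∀ g ∈ Finset.univ.erase (1 : pairStab G a b), (3 : ℚ) ≤ (n : ℚ) / fixCard Ω (g : G) := by
      intro g hg
      have h1 := hfixle g (Finset.ne_of_mem_erase hg)
      have h3 : fixCard Ω (g : G) * 3 ≤ fixCard Ω (g : G) * (k - 1) := Nat.mul_le_mul_left _ (by omega)
      have h' : (3 : ℚ) * fixCard Ω (g : G) ≤ n := by
        exact_mod_cast (by omega : 3 * fixCard Ω (g : G) ≤ n)
      rw [le_div_iff₀ (hpos g)]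
      linarith
    rw [hsplit1]
    have hs := Finset.card_nsmul_le_sum _ _ _ hterm
    rw [nsmul_eq_mul, herase] at hs
    linarith

/-- In a two-transitive group that is not sharply so, at least `2|G|/n` elements are derangements. -/
theorem two_mul_card_le_derangements [Fintype G] [IsPretransitive G Ω] (a b : Ω) (hab : a ≠ b)
    (hn : 7 ≤ Fintype.card Ω) (hr : rankAt G a = 2) (hh : 2 ≤ Nat.card (pairStab G a b)) :
    2 * Fintype.card G ≤ Fintype.card Ω * Nat.card {g : G // ∀ ω : Ω, g • ω ≠ ω} := by
  classical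
  have h2 := twoTrans_of_rank a hr
  set n := Fintype.card Ω
  have hid := derangements_identity (G := G) a
  set f : G → ℚ := fun g => ((fixCard Ω g : ℚ) - 1) * ((n : ℚ) - fixCard Ω g) / fixCard Ω g with hf
  have hfconj : ∀ g x : G, f (x * g * x⁻¹) = f g := fun g x => by simp only [hf, fixCard_conj]
  set f' : G → ℚ := fun g => ((n : ℚ) - fixCard Ω g) / fixCard Ω g with hf'
  have hf'conj : ∀ g x : G, f' (x * g * x⁻¹) = f' g := fun g x => by simp only [hf', fixCard_conj]
  have hS : ((∑ g ∈ Finset.univ.filter (fun g : G => 0 < fixCard Ω g),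
      ((fixCard Ω g : ℤ) - 1) * ((n : ℤ) - fixCard Ω g) : ℤ) : ℚ) = ∑ g : G, (fixCard Ω g : ℚ) * f g := by
    push_cast
    rw [Finset.sum_filter]
    refine Finset.sum_congr rfl fun g _ => ?_
    rcases Nat.eq_zero_or_pos (fixCard Ω g) with e | e
    · simp [hf, e]
    · have : (fixCard Ω g : ℚ) ≠ 0 := by exact_mod_cast e.ne'
      rw [if_pos e, hf]
      field_simp
  have h3 : ∑ g : stabilizer G a, f g = ((n : ℚ) - 1) * ∑ g : pairStab G a b, f' g := by
    rw [← sum_stabilizer_mul h2 hab f' hf'conj]
    refine Finset.sum_congr rfl fun g _ => ?_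
    simp only [hf, hf']
    ring
  rw [sum_fixCard_mul f hfconj a, h3] at hS
  have hkey := two_mul_card_le_sum_inv h2 hab hr hn (by rwa [← Nat.card_eq_fintype_card])
  have h4 : ∑ g : pairStab G a b, f' g
      = (∑ g : pairStab G a b, (n : ℚ) / fixCard Ω (g : G)) - Fintype.card (pairStab G a b) := by
    rw [eq_sub_iff_add_eq, ← Finset.card_univ, Finset.card_eq_sum_ones, Nat.cast_sum, ← Finset.sum_add_distrib]
    refine Finset.sum_congr rfl fun g _ => ?_
    have : (fixCard Ω (g : G) : ℚ) ≠ 0 := by exact_mod_cast ((fixCard_pos_iff _).mpr ⟨a, g.2.1⟩).ne'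
    simp only [hf', Nat.cast_one]
    field_simp
    ring
  have hG : (Fintype.card G : ℚ) = n * ((n : ℚ) - 1) * Fintype.card (pairStab G a b) := by
    rw [← card_stabilizer_mul (G := G) a, ← Nat.card_eq_fintype_card (α := stabilizer G a),
      card_stabilizer_eq h2 hab hr, Nat.card_eq_fintype_card, show Fintype.card Ω = n from rfl]
    push_cast [Nat.cast_sub (by omega : 1 ≤ n)]
    ring
  set S := ∑ g ∈ Finset.univ.filter (fun g : G => 0 < fixCard Ω g),
      ((fixCard Ω g : ℤ) - 1) * ((n : ℤ) - fixCard Ω g)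
  have hnQ : (7 : ℚ) ≤ n := by exact_mod_cast hn
  have hSge : (Fintype.card G : ℚ) ≤ (S : ℚ) := by
    rw [hS, h4, hG]
    have : 0 ≤ (n : ℚ) * ((n : ℚ) - 1) := by nlinarith
    nlinarith
  have hS' : (Fintype.card G : ℤ) ≤ S := by exact_mod_cast hSge
  rw [hr] at hid
  have : ((2 * Fintype.card G : ℕ) : ℤ)
      ≤ ((n * Nat.card {g : G // ∀ ω : Ω, g • ω ≠ ω} : ℕ) : ℤ) := by
    push_cast
    rw [hid]
    push_cast
    linarith
  exact_mod_cast this

end Cfsg.Agent.H96
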